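import Cfsg.Agent.H384.TwoTransRed
import Cfsg.Agent.H96.TISylow
import Cfsg.Agent.H410.RankOne
import Cfsg.Agent.H438.ConstFixFour
import Cfsg.Agent.ClassicalGeometry.PSUAutBasic

/-!
# The two-point stabilisers of `PSU₃(q)` are commutative

* `comm_of_pair` : two different Sylow `p`-subgroups of `T ≅ PSU₃(q)`, `p ∣ q`: the intersection of their normalisers is
  commutative;
* `ti` : the Sylow `p`-subgroups of `T` intersect trivially, `card_sylow` : there are `q ^ 3 + 1` of them;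
* `stabilizer_eq` : a transitive action of degree `q ^ 3 + 1`: the point stabilisers are the Sylow normalisers.
-/

set_option autoImplicit false
set_option linter.unusedSectionVars false

namespace Cfsg.Agent.H488.PsuTwo

open MulAction Matrix Cfsg Cfsg.Agent.H96.TISylow Cfsg.Agent.LieClassical.HermBasic

variable {T : Type*} [Group T] [Finite T] {F : Type*} [Field F] [Fintype F] {q : ℕ}
variable {p : ℕ} [hp : Fact p.Prime] [CharP F p]

/-- `SU₃(q) → T` -/
def pi (e : T ≃* PSU 3 F q) : SU 3 F q →* T :=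
  e.symm.toMonoidHom.comp (ClassicalGeometry.PSUAutBasic.pr 3 F q)

theorem pi_surj (e : T ≃* PSU 3 F q) : Function.Surjective (pi e) := by
  intro t
  obtain ⟨g, hg⟩ := QuotientGroup.mk_surjective (e t)
  refine ⟨g, ?_⟩
  show e.symm (QuotientGroup.mk g) = t
  rw [hg, e.symm_apply_apply]

theorem pi_eq {e : T ≃* PSU 3 F q} {g h : SU 3 F q} (H : pi e g = pi e h) :
    ∃ z ∈ Subgroup.center (SU 3 F q), h = g * z :=
  ClassicalGeometry.PSUAutBasic.exists_center_mul (e.symm.injective H)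

/-- `p`-elements with the same image are equal -/
theorem eq_of_pi (hF : Fintype.card F = q ^ 2) {e : T ≃* PSU 3 F q} {g h : SU 3 F q} (H : pi e g = pi e h) {k m : ℕ}
    (hg : g ^ p ^ k = 1) (hh : h ^ p ^ m = 1) : g = h := by
  obtain ⟨z, hz, rfl⟩ := pi_eq H
  have h1 : Commute g z := ((Subgroup.mem_center_iff.1 hz) g)
  have hg' : g ^ p ^ (k + m) = 1 := by rw [pow_add, pow_mul, hg, one_pow]
  have hh' : (g * z) ^ p ^ (k + m) = 1 := by rw [add_comm, pow_add, pow_mul, hh, one_pow]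
  rw [h1.mul_pow, hg', one_mul] at hh'
  rw [ClassicalGeometry.PSUAutBasic.eq_one_of_center_of_pow hF (le_refl 3) hz hh', mul_one]

/-- **The Sylow subgroups intersect trivially.** -/
theorem ti (hF : Fintype.card F = q ^ 2) (e : T ≃* PSU 3 F q) (P Q : Sylow p T) (hPQ : P ≠ Q) :
    (P : Subgroup T) ⊓ Q = ⊥ := by
  have hfin : Finite (SU 3 F q) := inferInstance
  by_contra hne
  apply hPQ
  obtain ⟨P₁, rfl⟩ := Sylow.mapSurjective_surjective (pi_surj e) p P
  obtain ⟨Q₁, rfl⟩ := Sylow.mapSurjective_surjective (pi_surj e) p Q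
  obtain ⟨⟨x, hxP, hxQ⟩, hx1'⟩ := (Subgroup.ne_bot_iff_exists_ne_one).1 hne
  have hx1 : x ≠ 1 := fun h => hx1' (Subtype.ext h)
  rw [Sylow.coe_mapSurjective] at hxP hxQ
  obtain ⟨u, hu, hux⟩ := hxP
  obtain ⟨w, hw, hwx⟩ := hxQ
  obtain ⟨k, hk⟩ := P₁.2 ⟨u, hu⟩
  obtain ⟨m, hm⟩ := Q₁.2 ⟨w, hw⟩
  have huw : u = w := eq_of_pi (p := p) hF (hux.trans hwx.symm) (congrArg Subtype.val hk) (congrArg Subtype.val hm)
  have h1 : P₁ = Q₁ := by
    apply su_three_ti (p := p) hF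
    intro h2
    have h3 : u ∈ (P₁ : Subgroup (SU 3 F q)) ⊓ (Q₁ : Subgroup (SU 3 F q)) := ⟨hu, huw ▸ hw⟩
    rw [h2, Subgroup.mem_bot] at h3
    apply hx1
    rw [← hux, h3, map_one]
  rw [h1]

/-- a Sylow subgroup of `SU₃(q)` is the stabiliser of an isotropic vector -/
theorem exists_vec (hF : Fintype.card F = q ^ 2) (P : Sylow p (SU 3 F q)) (hP : (P : Subgroup (SU 3 F q)) ≠ ⊥) :
    ∃ v : Fin 3 → F, v ≠ 0 ∧ hermForm 3 F q v v = 0 ∧ (P : Subgroup (SU 3 F q)) = vstab (SU 3 F q) v := by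
  obtain ⟨v, h1, h2, h3⟩ := exists_isotropic hF (P : Subgroup (SU 3 F q)) P.2 hP
  exact ⟨v, h1, h2, (P.3 (isPGroup_vstab_three hF h1 h2) h3).symm⟩

/-- the normaliser fixes the point -/
theorem normalizer_fix (hF : Fintype.card F = q ^ 2) {v : Fin 3 → F} (hv : v ≠ 0) (hvv : hermForm 3 F q v v = 0)
    (hne : vstab (SU 3 F q) v ≠ ⊥) {g : SU 3 F q} (hg : ∀ u ∈ vstab (SU 3 F q) v, g * u * g⁻¹ ∈ vstab (SU 3 F q) v) :
    ∃ c : F, g.1.1 *ᵥ v = c • v := by
  have hfin : Finite (SU 3 F q) := inferInstance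
  have hgv0 : g.1.1 *ᵥ v ≠ 0 := by
    intro h
    apply hv
    have h1 : (g⁻¹ * g).1.1 *ᵥ v = v := by
      rw [inv_mul_cancel]
      exact one_mulVec v
    have h2 : (g⁻¹ * g).1.1 *ᵥ v = g⁻¹.1.1 *ᵥ (g.1.1 *ᵥ v) := by
      rw [mulVec_mulVec]; rfl
    rw [h2, h, mulVec_zero] at h1
    exact h1.symm
  have hgvv : hermForm 3 F q (g.1.1 *ᵥ v) (g.1.1 *ᵥ v) = 0 := by rw [herm_map g.2, hvv]
  by_cases h0 : hermForm 3 F q (g.1.1 *ᵥ v) v = 0
  · exact prop_of_isotropic hF hv hvv hgvv h0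
  exfalso
  apply hne
  rw [eq_bot_iff]
  intro u hu
  rw [Subgroup.mem_bot]
  -- `u` fixes `g v`
  have hfinstab : ∀ u ∈ vstab (SU 3 F q) v, g⁻¹ * u * g ∈ vstab (SU 3 F q) v := by
    intro u hu
    have h1 : (vstab (SU 3 F q) v).map (MulAut.conj g).toMonoidHom = vstab (SU 3 F q) v := by
      apply Subgroup.eq_of_le_of_card_ge
      · rintro _ ⟨w, hw, rfl⟩
        exact hg w hw
      · exact (Nat.card_congr (Subgroup.equivMapOfInjective _ _ (MulAut.conj g).injective).toEquiv).le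
    rw [← h1] at hu
    obtain ⟨w, hw, rfl⟩ := hu
    have : g⁻¹ * (MulAut.conj g).toMonoidHom w * g = w := by
      show g⁻¹ * (g * w * g⁻¹) * g = w
      group
    rw [this]
    exact hw
  have h1 := hfinstab u hu
  rw [mem_vstab] at h1 hu
  have h2 : u.1.1 *ᵥ (g.1.1 *ᵥ v) = g.1.1 *ᵥ v := by
    have h3 : g.1.1 *ᵥ ((g⁻¹ * u * g).1.1 *ᵥ v) = g.1.1 *ᵥ v := by rw [h1]
    rw [mulVec_mulVec] at h3
    have h4 : g.1.1 * (g⁻¹ * u * g).1.1 = (u * g).1.1 := by
      have h5 : g * (g⁻¹ * u * g) = u * g := by group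
      exact congrArg (fun z : SU 3 F q => z.1.1) h5
    rw [h4] at h3
    rw [mulVec_mulVec]
    exact h3
  exact Subtype.ext (su_three_eq_one hF u.2 hgv0 hv hgvv hvv h2 hu h0)

/-- **The intersection of two Sylow normalisers is commutative.** -/
theorem comm_of_pair (hF : Fintype.card F = q ^ 2) (e : T ≃* PSU 3 F q) (P Q : Sylow p T) (hPQ : P ≠ Q) {s t : T}
    (hsP : s ∈ Subgroup.normalizer ((P : Subgroup T) : Set T)) (hsQ : s ∈ Subgroup.normalizer ((Q : Subgroup T) : Set T))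
    (htP : t ∈ Subgroup.normalizer ((P : Subgroup T) : Set T)) (htQ : t ∈ Subgroup.normalizer ((Q : Subgroup T) : Set T)) :
    s * t = t * s := by
  have hfin : Finite (SU 3 F q) := inferInstance
  obtain ⟨P₁, rfl⟩ := Sylow.mapSurjective_surjective (pi_surj e) p P
  obtain ⟨Q₁, rfl⟩ := Sylow.mapSurjective_surjective (pi_surj e) p Q
  have hne : P₁ ≠ Q₁ := fun h => hPQ (by rw [h])
  have hcard : Nat.card P₁ = Nat.card Q₁ := by rw [P₁.card_eq_multiplicity, Q₁.card_eq_multiplicity]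
  have hP1 : (P₁ : Subgroup (SU 3 F q)) ≠ ⊥ := by
    intro h
    apply hne
    apply Sylow.ext
    have h1 : Nat.card P₁ = 1 := Subgroup.card_eq_one.2 h
    have h2 : (Q₁ : Subgroup (SU 3 F q)) = ⊥ := Subgroup.card_eq_one.1 (hcard.symm.trans h1)
    rw [h, h2]
  have hQ1 : (Q₁ : Subgroup (SU 3 F q)) ≠ ⊥ := by
    intro h
    apply hP1
    have h1 : Nat.card Q₁ = 1 := Subgroup.card_eq_one.2 h
    exact Subgroup.card_eq_one.1 (hcard.trans h1)
  obtain ⟨v, hv, hvv, hPv⟩ := exists_vec hF P₁ hP1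
  obtain ⟨w, hw, hww, hQw⟩ := exists_vec hF Q₁ hQ1
  have hvw : hermForm 3 F q v w ≠ 0 := by
    intro h
    obtain ⟨c, hc⟩ := prop_of_isotropic hF hw hww hvv h
    apply hne
    apply Sylow.ext
    have hc0 : c ≠ 0 := by
      rintro rfl
      rw [zero_smul] at hc
      exact hv hc
    rw [hPv, hQw, hc, vstab_smul hc0]
  -- lifts normalise
  have hlift : ∀ (R : Sylow p (SU 3 F q)) (g : SU 3 F q),
      pi e g ∈ Subgroup.normalizer (((R.mapSurjective (pi_surj e) : Sylow p T) : Subgroup T) : Set T) →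
      ∀ u ∈ (R : Subgroup (SU 3 F q)), g * u * g⁻¹ ∈ (R : Subgroup (SU 3 F q)) := by
    intro R g hg u hu
    have h1 : pi e (g * u * g⁻¹) ∈ ((R.mapSurjective (pi_surj e) : Sylow p T) : Subgroup T) := by
      rw [map_mul, map_mul, map_inv]
      apply (Subgroup.mem_normalizer_iff.1 hg _).1
      rw [Sylow.coe_mapSurjective]
      exact ⟨u, hu, rfl⟩
    rw [Sylow.coe_mapSurjective] at h1
    obtain ⟨w, hw, hwg⟩ := h1
    obtain ⟨k, hk⟩ := R.2 ⟨u, hu⟩
    obtain ⟨m, hm⟩ := R.2 ⟨w, hw⟩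
    have hk' : u ^ p ^ k = 1 := congrArg Subtype.val hk
    have h2 : (g * u * g⁻¹) ^ p ^ k = 1 := by rw [conj_pow, hk', mul_one, mul_inv_cancel]
    rw [← eq_of_pi (p := p) hF hwg (congrArg Subtype.val hm) h2]
    exact hw
  obtain ⟨g, rfl⟩ := pi_surj e s
  obtain ⟨h, rfl⟩ := pi_surj e t
  obtain ⟨a, ha⟩ := normalizer_fix hF hv hvv (hPv ▸ hP1) (g := g) (by rw [← hPv]; exact hlift P₁ g hsP)
  obtain ⟨b, hb⟩ := normalizer_fix hF hw hww (hQw ▸ hQ1) (g := g) (by rw [← hQw]; exact hlift Q₁ g hsQ)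
  obtain ⟨c, hc⟩ := normalizer_fix hF hv hvv (hPv ▸ hP1) (g := h) (by rw [← hPv]; exact hlift P₁ h htP)
  obtain ⟨d, hd⟩ := normalizer_fix hF hw hww (hQw ▸ hQ1) (g := h) (by rw [← hQw]; exact hlift Q₁ h htQ)
  have hmv : ∀ (x y : SU 3 F q) (z : Fin 3 → F), (x * y).1.1 *ᵥ z = x.1.1 *ᵥ (y.1.1 *ᵥ z) := by
    intro x y z
    rw [mulVec_mulVec]; rfl
  have hinv : ∀ (x : SU 3 F q) (z z' : Fin 3 → F), x.1.1 *ᵥ z = z' → x⁻¹.1.1 *ᵥ z' = z := by
    intro x z z' hx
    rw [← hx, ← hmv, inv_mul_cancel]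
    exact one_mulVec z
  have key : ∀ (z : Fin 3 → F) (a c : F), g.1.1 *ᵥ z = a • z → h.1.1 *ᵥ z = c • z →
      ((h * g)⁻¹ * (g * h)).1.1 *ᵥ z = z := by
    intro z a c h1 h2
    rw [hmv, hmv, h2, mulVec_smul, h1]
    apply hinv
    rw [hmv, h1, mulVec_smul, h2, smul_comm]
  have h1 := su_three_eq_one hF ((h * g)⁻¹ * (g * h)).2 hv hw hvv hww (key v a c ha hc) (key w b d hb hd) hvw
  have h2 : (h * g)⁻¹ * (g * h) = 1 := Subtype.ext h1
  have h3 := inv_mul_eq_one.1 h2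
  rw [← map_mul, ← map_mul, h3]

/-- the numbers -/
theorem exists_num (hF : Fintype.card F = q ^ 2) (hq : 2 ≤ q) (e : T ≃* PSU 3 F q) :
    ∃ (f E : ℕ), q = p ^ f ∧ 0 < E ∧ E < q ^ 3 ∧ ¬ p ∣ (q ^ 3 + 1) * E ∧ Nat.card T = q ^ 3 * ((q ^ 3 + 1) * E) := by
  have hT := Cfsg.Agent.H438.ConstFix.psu_card hF (by omega : 1 ≤ q)
  rw [← Nat.card_congr e.toEquiv] at hT
  obtain ⟨f, hf⟩ : ∃ f, q = p ^ f := by
    obtain ⟨n, -, hn⟩ := FiniteField.card F p
    rw [hF] at hn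
    obtain ⟨f, -, hf⟩ := (Nat.dvd_prime_pow hp.out).1 (Dvd.intro _ ((pow_two q).symm.trans hn))
    exact ⟨f, hf⟩
  have hpq : p ∣ q := by
    rw [hf]
    refine dvd_pow_self p ?_
    rintro rfl
    rw [pow_zero] at hf
    omega
  have hd : Nat.gcd 3 (q + 1) ∣ q ^ 2 - 1 := by
    have h1 : q ^ 2 - 1 = (q + 1) * (q - 1) := by
      obtain ⟨x, rfl⟩ : ∃ x, q = x + 1 := ⟨q - 1, by omega⟩
      rw [Nat.add_sub_cancel]
      have : (x + 1) ^ 2 = (x + 1 + 1) * x + 1 := by ring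
      omega
    rw [h1]
    exact (Nat.gcd_dvd_right 3 (q + 1)).mul_right _
  obtain ⟨E, hE⟩ := hd
  have hd0 : 0 < Nat.gcd 3 (q + 1) := Nat.gcd_pos_of_pos_left _ (by norm_num)
  have hq2 : 0 < q ^ 2 - 1 := by
    have : 2 ^ 2 ≤ q ^ 2 := Nat.pow_le_pow_left hq 2
    omega
  have hE0 : 0 < E := by
    rcases Nat.eq_zero_or_pos E with h | h
    · rw [h, mul_zero] at hE; omega
    · exact h
  refine ⟨f, E, hf, hE0, ?_, ?_, ?_⟩
  · calc E ≤ Nat.gcd 3 (q + 1) * E := Nat.le_mul_of_pos_left E hd0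
      _ = q ^ 2 - 1 := hE.symm
      _ < q ^ 2 := by omega
      _ ≤ q ^ 3 := Nat.pow_le_pow_right (by omega) (by norm_num)
  · intro h
    have hp1 := hp.out.one_lt
    rcases hp.out.dvd_mul.1 h with h1 | h1
    · have h2 : p ∣ q ^ 3 := dvd_pow hpq (by norm_num)
      have h3 := (Nat.dvd_add_right h2).1 h1
      exact absurd (Nat.le_of_dvd one_pos h3) (by omega)
    · have h2 : p ∣ q ^ 2 - 1 := hE ▸ h1.mul_left _
      have h3 : p ∣ q ^ 2 := dvd_pow hpq (by norm_num)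
      have h4 := Nat.dvd_sub h3 h2
      rw [show q ^ 2 - (q ^ 2 - 1) = 1 by omega] at h4
      exact absurd (Nat.le_of_dvd one_pos h4) (by omega)
  · apply Nat.eq_of_mul_eq_mul_left hd0
    rw [hT, hE]
    ring

theorem card_P {E f : ℕ} (hf : q = p ^ f) (hE : ¬ p ∣ (q ^ 3 + 1) * E)
    (hT : Nat.card T = q ^ 3 * ((q ^ 3 + 1) * E)) (P : Sylow p T) : Nat.card P = q ^ 3 := by
  rw [P.card_eq_multiplicity, hT, Nat.factorization_mul, hf, ← pow_mul, Finsupp.coe_add, Pi.add_apply,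
    Nat.Prime.factorization_pow hp.out, Finsupp.single_eq_same, Nat.factorization_eq_zero_of_not_dvd, add_zero]
  · rw [pow_mul, ← hf]; exact hE
  · rw [hf]
    exact pow_ne_zero _ (pow_ne_zero _ hp.out.ne_zero)
  · intro h
    rw [h] at hE
    exact hE (dvd_zero _)

/-- **The number of Sylow subgroups.** -/
theorem card_sylow (hF : Fintype.card F = q ^ 2) (hq : 2 ≤ q) (e : T ≃* PSU 3 F q) (hs : IsSimpleGroup T) :
    (∀ P : Sylow p T, Nat.card P = q ^ 3) ∧ Nat.card (Sylow p T) = q ^ 3 + 1 ∧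
      (∀ P : Sylow p T, (P : Subgroup T) ≠ ⊥) := by
  obtain ⟨f, E, hf, hE0, hEQ, hpE, hT⟩ := exists_num (p := p) hF hq e
  have hPc := card_P hf hpE hT
  have hq3 : 2 ≤ q ^ 3 := by
    calc 2 ≤ q ^ 1 := by rw [pow_one]; exact hq
      _ ≤ q ^ 3 := Nat.pow_le_pow_right (by omega) (by norm_num)
  have hbot : ∀ P : Sylow p T, (P : Subgroup T) ≠ ⊥ := by
    intro P h
    have h1 : Nat.card P = 1 := Subgroup.card_eq_one.2 h
    rw [hPc] at h1
    omega
  refine ⟨hPc, ?_, hbot⟩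
  obtain ⟨P⟩ : Nonempty (Sylow p T) := inferInstance
  have h1 := Cfsg.Agent.H410.RankOne.card_sylow_dvd (ti hF e) P
  rw [hPc] at h1
  have h2 : Nat.card (Sylow p T) = (Subgroup.normalizer ((P : Subgroup T) : Set T)).index :=
    Sylow.card_eq_index_normalizer P
  obtain ⟨M, hM⟩ : Nat.card P ∣ Nat.card (Subgroup.normalizer ((P : Subgroup T) : Set T)) :=
    Subgroup.card_dvd_of_le Subgroup.le_normalizer
  rw [hPc] at hM
  have h3 := Subgroup.card_mul_index (Subgroup.normalizer ((P : Subgroup T) : Set T))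
  rw [← h2, hM, hT] at h3
  obtain ⟨w, hw⟩ := h1
  have hN0 : 0 < Nat.card (Sylow p T) := Nat.card_pos
  have h4 : (1 + q ^ 3 * w) * M = (q ^ 3 + 1) * E := by
    have h5 : 1 + q ^ 3 * w = Nat.card (Sylow p T) := by omega
    rw [h5]
    apply Nat.eq_of_mul_eq_mul_left (show 0 < q ^ 3 by omega)
    rw [← h3]; ring
  have hw1 : 1 ≤ w := by
    by_contra h
    have h0 : w = 0 := by omega
    rw [h0, mul_zero] at hw
    have h5 : Nat.card (Sylow p T) = 1 := by omega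
    rw [h2, Subgroup.index_eq_one] at h5
    have hn : (P : Subgroup T).Normal := Subgroup.normalizer_eq_top_iff.1 h5
    rcases hs.eq_bot_or_eq_top_of_normal _ hn with h6 | h6
    · exact hbot P h6
    · have h7 : Nat.card P = Nat.card T := by
        have : Nat.card (P : Subgroup T) = Nat.card (⊤ : Subgroup T) := by rw [h6]
        rwa [Subgroup.card_top] at this
      rw [hPc, hT] at h7
      have h8 : q ^ 3 * 1 = q ^ 3 * ((q ^ 3 + 1) * E) := by rw [mul_one]; exact h7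
      have h9 := Nat.eq_of_mul_eq_mul_left (show 0 < q ^ 3 by omega) h8
      have h10 : q ^ 3 + 1 ≤ (q ^ 3 + 1) * E := Nat.le_mul_of_pos_right _ hE0
      omega
  have := Cfsg.Agent.H438.ConstFix.arith hE0 hEQ h4 hw1
  rw [this, mul_one] at hw
  omega

/-- a transitive action of degree `q ^ 3 + 1`: a Sylow normaliser is a point stabiliser -/
theorem exists_point (hF : Fintype.card F = q ^ 2) (hq : 2 ≤ q) (e : T ≃* PSU 3 F q) (hs : IsSimpleGroup T)
    {Ω : Type*} [Finite Ω] [MulAction T Ω] [IsPretransitive T Ω] (hn : Nat.card Ω = q ^ 3 + 1) (P : Sylow p T) :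
    ∃ a : Ω, stabilizer T a = Subgroup.normalizer ((P : Subgroup T) : Set T) := by
  obtain ⟨hPc, hN, hbot⟩ := card_sylow (p := p) hF hq e hs
  have hpn : ¬ p ∣ Nat.card Ω := by
    obtain ⟨f, E, hf, hE0, hEQ, hpE, hT⟩ := exists_num (p := p) hF hq e
    intro h
    rw [hn] at h
    exact hpE (h.mul_right _)
  obtain ⟨a, ha⟩ := P.2.nonempty_fixed_point_of_prime_not_dvd_card Ω hpn
  have hle : (P : Subgroup T) ≤ stabilizer T a := fun u hu => ha ⟨u, hu⟩
  have hidx : (stabilizer T a).index = q ^ 3 + 1 := by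
    rw [MulAction.index_stabilizer_of_transitive, hn]
  have hne : stabilizer T a ≠ ⊤ := by
    intro h
    rw [h, Subgroup.index_top] at hidx
    have : 0 < q ^ 3 := by positivity
    omega
  have hle2 := Cfsg.Agent.H410.RankOne.le_normalizer_of_TI (ti hF e) P (hbot P) (by rw [hN, hPc]) hle hne
  refine ⟨a, ?_⟩
  apply Subgroup.eq_of_le_of_card_ge hle2
  have h2 : Nat.card (Sylow p T) = (Subgroup.normalizer ((P : Subgroup T) : Set T)).index :=
    Sylow.card_eq_index_normalizer P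
  have h3 := Subgroup.card_mul_index (Subgroup.normalizer ((P : Subgroup T) : Set T))
  have h4 := Subgroup.card_mul_index (stabilizer T a)
  rw [← h2, hN] at h3
  rw [hidx, ← h3] at h4
  exact (Nat.eq_of_mul_eq_mul_right (by positivity) h4).ge

/-- **The two-point stabilisers are commutative.** -/
theorem exists_pair (hF : Fintype.card F = q ^ 2) (hq : 2 ≤ q) (e : T ≃* PSU 3 F q) (hs : IsSimpleGroup T)
    {Ω : Type*} [Finite Ω] [MulAction T Ω] [IsPretransitive T Ω] (hn : Nat.card Ω = q ^ 3 + 1) :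
    ∃ a b : Ω, a ≠ b ∧ ∀ s ∈ stabilizer T a ⊓ stabilizer T b, ∀ t ∈ stabilizer T a ⊓ stabilizer T b, s * t = t * s := by
  obtain ⟨p, hch⟩ := CharP.exists F
  have hp : Fact p.Prime := ⟨CharP.char_is_prime F p⟩
  obtain ⟨hPc, hN, hbot⟩ := card_sylow (p := p) hF hq e hs
  have hnt : Nontrivial (Sylow p T) := Finite.one_lt_card_iff_nontrivial.1 (by
    rw [hN]
    have : 0 < q ^ 3 := by positivity
    omega)
  obtain ⟨P, Q, hPQ⟩ := exists_pair_ne (Sylow p T)
  obtain ⟨a, ha⟩ := exists_point (p := p) hF hq e hs hn P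
  obtain ⟨b, hb⟩ := exists_point (p := p) hF hq e hs hn Q
  refine ⟨a, b, ?_, ?_⟩
  · rintro rfl
    have h1 : (Q : Subgroup T) ≤ Subgroup.normalizer ((P : Subgroup T) : Set T) := by
      rw [← ha, hb]
      exact Subgroup.le_normalizer
    have h2 := IsPGroup.inf_normalizer_sylow Q.2 P
    have h3 : (Q : Subgroup T) ⊓ Subgroup.normalizer ((P : Subgroup T) : Set T) = (Q : Subgroup T) := inf_eq_left.2 h1
    have h4 := ti hF e Q P hPQ.symm
    exact hbot Q (h3.symm.trans (h2.trans h4))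
  · rintro s ⟨hs1, hs2⟩ t ⟨ht1, ht2⟩
    rw [ha] at hs1 ht1
    rw [hb] at hs2 ht2
    exact comm_of_pair hF e P Q hPQ hs1 hs2 ht1 ht2

end Cfsg.Agent.H488.PsuTwo
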