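import Cfsg.Agent.SporadicA.M24OfIndex
import Cfsg.Agent.S0366
import Cfsg.Agent.S0364

/-!
# Every transitive action of a simple group of order 244823040 on 24 points is the natural action of `M₂₄`

* `exists_natural` : the action is isomorphic to the action of `M₂₄` on the 24 points;
* `five` : it is 5-transitive.
-/

set_option autoImplicit false

namespace Cfsg.Agent.H488.M24Action

open Equiv Equiv.Perm MulAction Cfsg.Agent.SporadicA.M24OfIndex Cfsg.Agent.SporadicA.DegPOne Cfsg.Agent.SporadicA.Cand24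

/-- **The natural action.** -/
theorem exists_natural {T : Type*} [Group T] [Finite T] (hs : IsSimpleGroup T) (hc : Nat.card T = 244823040)
    {Ω : Type*} [Finite Ω] [MulAction T Ω] [IsPretransitive T Ω] (hn : Nat.card Ω = 24) :
    ∃ (E : Ω ≃ Cfsg.GolayPt) (F : T ≃* Cfsg.M24), ∀ (g : T) (x : Ω), E (g • x) = (F g : Equiv.Perm Cfsg.GolayPt) (E x) := by
  classical
  have : Fintype T := Fintype.ofFinite T
  have : Fintype Ω := Fintype.ofFinite Ω
  have hcard : Fintype.card Ω = 24 := by rw [← Nat.card_eq_fintype_card, hn]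
  let e0 : Ω ≃ Fin 24 := Fintype.equivFinOfCardEq hcard
  let φ : T →* Perm Ω := MulAction.toPermHom T Ω
  have hnt : Nontrivial Ω := Finite.one_lt_card_iff_nontrivial.1 (by omega)
  have hφ : Function.Injective φ := by
    rw [← MonoidHom.ker_eq_bot_iff]
    rcases hs.eq_bot_or_eq_top_of_normal φ.ker inferInstance with h | h
    · exact h
    · exfalso
      obtain ⟨x, y, hxy⟩ := exists_pair_ne Ω
      obtain ⟨g, hg⟩ := exists_smul_eq T x y
      have hg' : g ∈ φ.ker := h ▸ Subgroup.mem_top g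
      have h2 : φ g x = x := by rw [MonoidHom.mem_ker.1 hg']; rfl
      exact hxy (h2.symm.trans hg)
  let φ2 : T →* Perm (Fin 24) := (e0.permCongrHom).toMonoidHom.comp φ
  have hφ2 : Function.Injective φ2 := (e0.permCongrHom).injective.comp hφ
  have : Fact (Nat.Prime 23) := ⟨by norm_num⟩
  obtain ⟨g, hg⟩ := exists_prime_orderOf_dvd_card' (G := T) 23 (by rw [hc]; norm_num)
  have hσ : orderOf (φ2 g) = 23 := by rw [orderOf_injective φ2 hφ2, hg]
  have key : ∀ σ : Perm (Fin 24), orderOf σ = 23 → σ.cycleType = {23} := by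
    intro σ h
    obtain ⟨m, hm⟩ := cycleType_prime_order (σ := σ) (by rw [h]; norm_num)
    rw [h] at hm
    have hsum : σ.cycleType.sum ≤ 24 := by
      rw [sum_cycleType]
      simpa using Finset.card_le_univ σ.support
    rw [hm, Multiset.sum_replicate, smul_eq_mul] at hsum
    have hm0 : m = 0 := by omega
    rw [hm, hm0]
    rfl
  have hconj : IsConj (φ2 g) tP := by
    rw [isConj_iff_cycleType_eq, key _ hσ, key _ orderOf_tP]
  obtain ⟨c, hcc⟩ := isConj_iff.1 hconj
  let ψ : T →* Perm (Fin 24) := (MulAut.conj c).toMonoidHom.comp φ2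
  have hψ : Function.Injective ψ := (MulAut.conj c).injective.comp hφ2
  have hyp : Hyp ψ.range :=
    { card := by
        rw [← hc]
        exact (Nat.card_congr (MonoidHom.ofInjective hψ).toEquiv).symm
      even := by
        rintro _ ⟨g, rfl⟩
        exact sign_eq_one hs (by rw [hc]; norm_num) ψ g
      trans := by
        intro x y
        obtain ⟨k, hk⟩ := exists_smul_eq T (e0.symm (c⁻¹ x)) (e0.symm (c⁻¹ y))
        refine ⟨ψ k, ⟨k, rfl⟩, ?_⟩
        show c (e0 (k • e0.symm (c⁻¹ x))) = y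
        rw [hk, Equiv.apply_symm_apply]
        exact Equiv.apply_symm_apply c y
      t_mem := ⟨g, hcc⟩ }
  obtain ⟨σ, h1, h2, h3, h4⟩ := exists_relabel hyp
  let f : T →* Perm Cfsg.GolayPt :=
    (ePt.permCongrHom.toMonoidHom).comp ((MulAut.conj σ).toMonoidHom.comp ψ)
  have hf : Function.Injective f :=
    ePt.permCongrHom.injective.comp ((MulAut.conj σ).injective.comp hψ)
  have hmem : ∀ g ∈ ψ.range.map (MulAut.conj σ).toMonoidHom, ePt.permCongrHom g ∈ f.range := by
    rintro _ ⟨_, ⟨g, rfl⟩, rfl⟩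
    exact ⟨g, rfl⟩
  have hle : Cfsg.M24 ≤ f.range := by
    rw [← Cfsg.Agent.S0374.result, Subgroup.closure_le]
    intro g hg
    rcases hg with rfl | rfl | rfl
    · rw [shift_eq]; exact hmem _ h1
    · rw [projInv_eq]; exact hmem _ h4
    · obtain ⟨i, hi⟩ := cubeTwist_eq
      rw [hi]
      exact hmem _ (Subgroup.mul_mem _ (Subgroup.pow_mem _ h2 i) h3)
  have hcardf : Nat.card f.range = 244823040 := by
    rw [← hc]
    exact (Nat.card_congr (MonoidHom.ofInjective hf).toEquiv).symm
  have heq : Cfsg.M24 = f.range := by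
    apply Subgroup.eq_of_le_of_card_ge hle
    rw [hcardf, Cfsg.Agent.S0364.result]
  refine ⟨((e0.trans c).trans σ).trans ePt, (MonoidHom.ofInjective hf).trans (MulEquiv.subgroupCongr heq.symm), ?_⟩
  intro g x
  show ePt (σ (c (e0 (g • x)))) = ePt (σ (c (e0 (g • e0.symm (c⁻¹ (σ⁻¹ (ePt.symm (ePt (σ (c (e0 x)))))))))))
  have e1 : σ⁻¹ (ePt.symm (ePt (σ (c (e0 x))))) = c (e0 x) := by
    rw [Equiv.symm_apply_apply]
    exact Equiv.symm_apply_apply σ _
  have e2 : c⁻¹ (c (e0 x)) = e0 x := Equiv.symm_apply_apply c _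
  rw [e1, e2, Equiv.symm_apply_apply]

/-- **A transitive action of `M₂₄` on 24 points is 5-transitive.** -/
theorem five {T : Type*} [Group T] [Finite T] (hs : IsSimpleGroup T) (hc : Nat.card T = 244823040)
    {Ω : Type*} [Finite Ω] [MulAction T Ω] [IsPretransitive T Ω] (hn : Nat.card Ω = 24) :
    IsMultiplyPretransitive T Ω 5 := by
  obtain ⟨E, F, hEF⟩ := exists_natural hs hc hn
  have h5 : IsPretransitive Cfsg.M24 (Fin 5 ↪ Cfsg.GolayPt) := Cfsg.Agent.S0366.result
  refine ⟨fun s t => ?_⟩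
  obtain ⟨m, hm⟩ := exists_smul_eq Cfsg.M24 (s.trans E.toEmbedding) (t.trans E.toEmbedding)
  refine ⟨F.symm m, ?_⟩
  ext i
  apply E.injective
  have h1 := hEF (F.symm m) (s i)
  rw [MulEquiv.apply_symm_apply] at h1
  have h2 : (m : Equiv.Perm Cfsg.GolayPt) (E (s i)) = E (t i) := congrArg (fun u : Fin 5 ↪ Cfsg.GolayPt => u i) hm
  rw [← h2, ← h1]
  rfl

end Cfsg.Agent.H488.M24Action
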