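import Cfsg.Agent.H488.ThreeRows

/-!
# `(3+1/2)`-transitive groups: the affine case
-/

set_option autoImplicit false
set_option linter.unusedSectionVars false

namespace Cfsg.Agent.H488.ThreeHalf

open MulAction Cfsg.Agent.H392.MultTrans Cfsg.Agent.H384.TwoTrans

universe u v

variable {G : Type u} {Ω : Type v} [Group G] [MulAction G Ω]

theorem affine [Finite G] [Finite Ω] [FaithfulSMul G Ω] {N : Subgroup G} (hN : N.Normal) {p : ℕ} (hp : p.Prime)
    (hexp : ∀ n ∈ N, n ^ p = 1) (htr : ∀ x y : Ω, ∃ n ∈ N, n • x = y)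
    (hsr : ∀ x : Ω, ∀ n ∈ N, n • x = x → n = 1) (h4 : 4 ≤ Nat.card Ω) (h3 : IsMultiplyPretransitive G Ω 3)
    {r : ℕ} (hr : Half G Ω r) : Concl G Ω := by
  classical
  have hcomm : ∀ (o : Ω) (g n : G), n ∈ N → g • o = o → g • n • o = n • o → g * n * g⁻¹ = n := by
    intro o g n hn hgo hgn
    have h1 : (n⁻¹ * (g * n * g⁻¹)) • o = o := by
      rw [mul_smul, mul_smul, mul_smul, inv_smul_eq_iff.2 hgo.symm, hgn, inv_smul_smul]
    have h2 := hsr o _ (mul_mem (inv_mem hn) (hN.conj_mem n hn g)) h1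
    exact (inv_mul_eq_one.1 h2).symm
  have hfix : ∀ (o : Ω) (g m : G), g • o = o → g * m * g⁻¹ = m → g • m • o = m • o := by
    intro o g m hgo hm
    rw [smul_smul]
    have : g * m = m * g := mul_inv_eq_iff_eq_mul.1 hm
    rw [this, mul_smul, hgo]
  obtain ⟨s, b, hb⟩ := exists_tri (Ω := Ω) h4
  obtain ⟨n₁, hn₁, e₁⟩ := htr (s 0) (s 1)
  obtain ⟨n₂, hn₂, e₂⟩ := htr (s 0) (s 2)
  have hs01 : s 0 ≠ s 1 := fun h => by simpa using s.injective h
  have hs02 : s 0 ≠ s 2 := fun h => by simpa using s.injective h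
  have hs12 : s 1 ≠ s 2 := fun h => by simpa using s.injective h
  have hb0 : b ≠ s 0 := fun h => hb ⟨0, h.symm⟩
  have hb1 : b ≠ s 1 := fun h => hb ⟨1, h.symm⟩
  have hinj : ∀ (m m' : G), m ∈ N → m' ∈ N → m • s 0 = m' • s 0 → m = m' := by
    intro m m' hm hm' h
    have h1 : (m'⁻¹ * m) • s 0 = s 0 := by rw [mul_smul, h, inv_smul_smul]
    exact (inv_mul_eq_one.1 (hsr _ _ (mul_mem (inv_mem hm') hm) h1)).symm
  by_cases hp2 : p = 2
  swap
  · exfalso
    -- `n₁⁻¹` is different from `1` and `n₁`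
    have h1 : n₁⁻¹ • s 0 ≠ s 0 := by
      intro h
      have h5 := hsr _ _ (inv_mem hn₁) h
      rw [inv_eq_one] at h5
      rw [h5, one_smul] at e₁
      exact hs01 e₁
    have h2 : n₁⁻¹ • s 0 ≠ s 1 := by
      intro h
      rw [← e₁] at h
      have h5 := hinj _ _ (inv_mem hn₁) hn₁ h
      have h6 : n₁ ^ 2 = 1 := by
        rw [pow_two]
        nth_rewrite 1 [← h5]
        exact inv_mul_cancel _
      have h7 : n₁ = 1 := by
        have h8 := orderOf_dvd_of_pow_eq_one h6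
        have h9 := orderOf_dvd_of_pow_eq_one (hexp n₁ hn₁)
        have h10 : Nat.Coprime 2 p := (Nat.coprime_primes Nat.prime_two hp).2 (Ne.symm hp2)
        exact orderOf_eq_one_iff.1 (Nat.eq_one_of_dvd_coprimes h10 h8 h9)
      rw [h7, one_smul] at e₁
      exact hs01 e₁
    -- a fourth point
    obtain ⟨d, hd0, hd1, hd2⟩ : ∃ d : Ω, d ≠ s 0 ∧ d ≠ s 1 ∧ d ≠ n₁⁻¹ • s 0 := by
      by_contra hcon
      push Not at hcon
      have h5 : (Set.univ : Set Ω) ⊆ {s 0, s 1, n₁⁻¹ • s 0} := by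
        intro x _
        by_cases h6 : x = s 0
        · exact Or.inl h6
        by_cases h7 : x = s 1
        · exact Or.inr (Or.inl h7)
        · exact Or.inr (Or.inr (hcon x h6 h7))
      have h6 := Set.ncard_le_ncard h5 (Set.toFinite _)
      rw [Set.ncard_univ] at h6
      have h7 := Set.ncard_insert_le (s 0) {s 1, n₁⁻¹ • s 0}
      have h8 := Set.ncard_insert_le (s 1) {n₁⁻¹ • s 0}
      rw [Set.ncard_singleton] at h8
      omega
    obtain ⟨g, g1, g2, g3⟩ := three_pts h3 hs01 h1.symm h2.symm hs01 hd0.symm hd1.symm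
    have h5 := hcomm (s 0) g n₁ hn₁ g1 (by rw [e₁, g2])
    have h6 := hfix (s 0) g n₁⁻¹ g1 (by
      have : g * n₁⁻¹ * g⁻¹ = (g * n₁ * g⁻¹)⁻¹ := by group
      rw [this, h5])
    rw [g3] at h6
    exact hd2 h6
  · subst hp2
    have hne1 : n₁ ≠ 1 := by
      rintro rfl
      rw [one_smul] at e₁
      exact hs01 e₁
    have hne2 : n₂ ≠ 1 := by
      rintro rfl
      rw [one_smul] at e₂
      exact hs02 e₂
    refine concl_of h4 h3 hr (Or.inl ?_)
    have hmem : (n₁ * n₂) • s 0 ∉ Set.range s := by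
      rintro ⟨i, hi⟩
      fin_cases i
      · have h1 : n₁ * n₂ = 1 := hsr _ _ (mul_mem hn₁ hn₂) hi.symm
        have h2 : n₁ * n₁ = 1 := by rw [← pow_two]; exact hexp n₁ hn₁
        have h5 : n₁ = n₂ := mul_left_cancel (h2.trans h1.symm)
        apply hs12
        rw [← e₁, ← e₂, h5]
      · have hi' : s 1 = (n₁ * n₂) • s 0 := hi
        rw [← e₁] at hi'
        have h1 := hinj _ _ hn₁ (mul_mem hn₁ hn₂) hi'
        exact hne2 (left_eq_mul.1 h1)
      · have hi' : s 2 = (n₁ * n₂) • s 0 := hi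
        rw [← e₂] at hi'
        have h1 := hinj _ _ hn₂ (mul_mem hn₁ hn₂) hi'
        exact hne1 (right_eq_mul.1 h1)
    rw [← hr s _ hmem]
    have h5 : orbit (stabilizer G s) ((n₁ * n₂) • s 0) = {(n₁ * n₂) • s 0} := by
      ext ω
      constructor
      · rintro ⟨g, rfl⟩
        have hg := (mem_stab_emb s g.1).1 g.2
        have h6 := hcomm (s 0) g n₁ hn₁ (hg 0) (by rw [e₁, hg 1])
        have h7 := hcomm (s 0) g n₂ hn₂ (hg 0) (by rw [e₂, hg 2])
        show (g : G) • (n₁ * n₂) • s 0 = (n₁ * n₂) • s 0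
        apply hfix _ _ _ (hg 0)
        have h8 : (g : G) * (n₁ * n₂) * (g : G)⁻¹ = ((g : G) * n₁ * (g : G)⁻¹) * ((g : G) * n₂ * (g : G)⁻¹) := by group
        rw [h8, h6, h7]
      · rintro rfl
        exact mem_orbit_self _
    rw [h5]
    simp

end Cfsg.Agent.H488.ThreeHalf
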