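import Cfsg.Agent.H488.ThreeRows
import Cfsg.Agent.S2126
import Cfsg.Agent.S2127
import Cfsg.Agent.S2603
import Cfsg.Agent.H57.TTOut
import Cfsg.Agent.H438.ConstFixFour
import Cfsg.Agent.H438.SzMax
import Cfsg.Agent.ChevalleyStructure.ReeCount

/-!
# `(3+1/2)`-transitive groups: the rank one rows `PSU₃`, `Sz`, `²G₂`

They are not 3-transitive: `n (n - 1) (n - 2)` does not divide `|T| |Out T|`.
-/

set_option autoImplicit false
set_option linter.unusedSectionVars false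

namespace Cfsg.Agent.H488.ThreeHalf

open MulAction Cfsg.Agent.H392.MultTrans Cfsg.Agent.H384.TwoTrans

universe u v

variable {G : Type u} {Ω : Type v} [Group G] [MulAction G Ω] {T : Subgroup G}

theorem dvd_out (A : AS G Ω T) (h3 : IsMultiplyPretransitive G Ω 3) {X : Type*} [Group X] (e : T ≃* X) :
    Nat.card Ω * (Nat.card Ω - 1) * (Nat.card Ω - 2) ∣ Nat.card T * Nat.card (Cfsg.Out X) := by
  have := A.finG
  have := A.finΩ
  have := A.faithful
  refine Dvd.dvd.trans ?_ (Cfsg.Agent.H57.TTOut.AS.card_dvd A e)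
  obtain ⟨s, b, hb⟩ := exists_tri (Ω := Ω) (by have := A.five_le; omega)
  rw [card_eq_descFactorial h3 s, Nat.descFactorial_succ, Nat.descFactorial_succ, Nat.descFactorial_one]
  exact ⟨Nat.card (stabilizer G s), by ring⟩

theorem lt_two_pow (n : ℕ) : n < 2 ^ n := Nat.lt_two_pow_self

/-- `n = x (x + 1)`-type cancellation -/
theorem dvd_cancel {P : ℕ} (a b c d : ℕ) (hP : 0 < P)
    (h1 : a = P * b) (h2 : c = P * d) (h : a ∣ c) : b ∣ d := by
  rw [h1, h2] at h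
  exact Nat.dvd_of_mul_dvd_mul_left hP h

theorem not_sz (A : AS G Ω T) (h3 : IsMultiplyPretransitive G Ω 3) {F : Type} [Field F] [Fintype F] {m : ℕ}
    (hm : 1 ≤ m) (hF : Fintype.card F = 2 ^ (2 * m + 1)) (e : Nonempty (T ≃* ↥(Cfsg.Lie.Sz F (2 ^ (m + 1)))))
    (hn : Nat.card Ω = Fintype.card F ^ 2 + 1) : False := by
  obtain ⟨e⟩ := e
  have h1 := dvd_out A h3 e
  rw [Cfsg.Agent.S2126.result hm hF, Nat.card_congr e.toEquiv, Cfsg.Agent.H438.SzMax.card_sz hF, hn, hF] at h1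
  have h2 := lt_two_pow (2 * m + 1)
  generalize 2 ^ (2 * m + 1) = q at h1 h2
  obtain ⟨x, rfl⟩ : ∃ x, q = x + 1 := ⟨q - 1, by omega⟩
  have h4 : x + 2 ∣ 2 * m + 1 := by
    refine dvd_cancel (P := ((x + 1) ^ 2 + 1) * (x + 1) ^ 2 * x) _ _ _ _ ?_ ?_ ?_ h1
    · have : 0 < x := by omega
      positivity
    · have h5 : (x + 1) ^ 2 + 1 - 2 = x * (x + 2) := by
        have : (x + 1) ^ 2 + 1 = x * (x + 2) + 2 := by ring
        omega
      rw [h5, Nat.add_sub_cancel]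
      ring
    · rw [Nat.add_sub_cancel]
      ring
  have h5 := Nat.le_of_dvd (by omega) h4
  omega

theorem not_ree (A : AS G Ω T) (h3 : IsMultiplyPretransitive G Ω 3) {K : Type} [Field K] [Fintype K] {m : ℕ}
    (hm : 1 ≤ m) (hK : Fintype.card K = 3 ^ (2 * m + 1)) (e : Nonempty (T ≃* ↥(Cfsg.Lie.twistedG2 K (3 ^ m))))
    (hn : Nat.card Ω = Fintype.card K ^ 3 + 1) : False := by
  obtain ⟨e⟩ := e
  have h1 := dvd_out A h3 e
  rw [Cfsg.Agent.S2127.result hm hK, Nat.card_congr e.toEquiv,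
    Cfsg.Agent.ChevalleyStructure.ReeCount.card_twistedG2 hK, hn, hK] at h1
  have h2 : 2 * m + 1 < 3 ^ (2 * m + 1) := Nat.lt_pow_self (by norm_num)
  generalize 3 ^ (2 * m + 1) = q at h1 h2
  obtain ⟨x, rfl⟩ : ∃ x, q = x + 1 := ⟨q - 1, by omega⟩
  have h4 : (x + 1) ^ 2 + (x + 1) + 1 ∣ 2 * m + 1 := by
    refine dvd_cancel (P := ((x + 1) ^ 3 + 1) * (x + 1) ^ 3 * x) _ _ _ _ ?_ ?_ ?_ h1
    · have : 0 < x := by omega
      positivity
    · have h5 : (x + 1) ^ 3 + 1 - 2 = x * ((x + 1) ^ 2 + (x + 1) + 1) := by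
        have : (x + 1) ^ 3 + 1 = x * ((x + 1) ^ 2 + (x + 1) + 1) + 2 := by ring
        omega
      rw [h5, Nat.add_sub_cancel]
      ring
    · rw [Nat.add_sub_cancel]
      ring
  have h5 := Nat.le_of_dvd (by omega) h4
  have h6 : (x + 1) ^ 2 = x * x + 2 * x + 1 := by ring
  omega

theorem not_psu (A : AS G Ω T) (h3 : IsMultiplyPretransitive G Ω 3) {F : Type} [Field F] [Fintype F] {q : ℕ}
    (hq : 3 ≤ q) (hF : Fintype.card F = q ^ 2) (e : Nonempty (T ≃* Cfsg.PSU 3 F q))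
    (hn : Nat.card Ω = q ^ 3 + 1) : False := by
  obtain ⟨e⟩ := e
  have h1 := dvd_out A h3 e
  obtain ⟨p, hch⟩ := CharP.exists F
  obtain ⟨k, hp, hk⟩ := FiniteField.card F p
  rw [hF] at hk
  obtain ⟨f, -, hqp⟩ := (Nat.dvd_prime_pow hp).1 (by rw [← hk]; exact Dvd.intro_left q (by ring) : q ∣ p ^ (k : ℕ))
  have hf : 1 ≤ f := by
    rcases Nat.eq_zero_or_pos f with h | h
    · rw [h, pow_zero] at hqp; omega
    · exact h
  have := Fact.mk hp
  obtain ⟨φ, hφ, -, hk2⟩ := Cfsg.Agent.S2603.result (K := F) (n := 3) hf hqp hF (by norm_num) (by omega)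
  have hout : Nat.card (Cfsg.Out (Cfsg.PSU 3 F q)) = Nat.gcd 3 (q + 1) * (2 * f) := by
    have h5 := Subgroup.card_mul_index φ.ker
    rw [Subgroup.index_ker, MonoidHom.range_eq_top.2 hφ, Subgroup.card_top, hk2,
      Nat.card_congr Multiplicative.toAdd, Nat.card_zmod] at h5
    exact h5.symm
  have hT := Cfsg.Agent.H438.ConstFix.psu_card hF (by omega)
  rw [hout, Nat.card_congr e.toEquiv, hn] at h1
  have h6 : Nat.card (Cfsg.PSU 3 F q) * (Nat.gcd 3 (q + 1) * (2 * f)) =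
      (q ^ 3 * ((q ^ 3 + 1) * (q ^ 2 - 1))) * (2 * f) := by
    rw [← hT]; ring
  rw [h6] at h1
  obtain ⟨x, rfl⟩ : ∃ x, q = x + 1 := ⟨q - 1, by omega⟩
  have h4 : (x + 1) ^ 2 + (x + 1) + 1 ∣ (x + 2) * (2 * f) := by
    refine dvd_cancel (P := ((x + 1) ^ 3 + 1) * (x + 1) ^ 3 * x) _ _ _ _ ?_ ?_ ?_ h1
    · have : 0 < x := by omega
      positivity
    · have h5 : (x + 1) ^ 3 + 1 - 2 = x * ((x + 1) ^ 2 + (x + 1) + 1) := by
        have : (x + 1) ^ 3 + 1 = x * ((x + 1) ^ 2 + (x + 1) + 1) + 2 := by ring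
        omega
      rw [h5, Nat.add_sub_cancel]
      ring
    · have h5 : (x + 1) ^ 2 - 1 = x * (x + 2) := by
        have : (x + 1) ^ 2 = x * (x + 2) + 1 := by ring
        omega
      rw [h5]
      ring
  have h7 : Nat.Coprime ((x + 1) ^ 2 + (x + 1) + 1) (x + 2) := by
    have h8 : (x + 1) ^ 2 + (x + 1) + 1 = 1 + (x + 2) * (x + 1) := by ring
    rw [h8]
    simp
  have h9 := h7.dvd_of_dvd_mul_left h4
  have h10 := Nat.le_of_dvd (by omega) h9
  have h11 : f < x + 1 := by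
    rw [hqp]
    exact Nat.lt_pow_self hp.one_lt
  have h12 : (x + 1) ^ 2 = x * x + 2 * x + 1 := by ring
  nlinarith

end Cfsg.Agent.H488.ThreeHalf
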