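import Cfsg.Agent.H488.ThreeEleven
import Cfsg.Agent.OddHalf.Orders.PSpFi23
import Cfsg.Agent.ClassicalGeometry.AutPSpCount
import Cfsg.Agent.ClassicalGeometry.SympAutTwo
import Cfsg.Agent.ClassicalGeometry.SympAutCentral

/-!
# `(3+1/2)`-transitive groups: the row `Sp_{2m}(2)`

Count the transvections that map `a` to `b`.
-/

set_option autoImplicit false
set_option linter.unusedSectionVars false

namespace Cfsg.Agent.H488.ThreeHalf

open MulAction Cfsg.Agent.H392.MultTrans Cfsg.Agent.H384.TwoTrans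

universe u v

section count

variable {X Ω : Type*} [Group X] [MulAction X Ω]

/-- the number of elements of a class mapping `a` to `b` -/
theorem class_count [Finite X] [Finite Ω] (h2 : ∀ a b c d : Ω, a ≠ b → c ≠ d → ∃ g : X, g • a = c ∧ g • b = d) (C : Set X)
    (hC : ∀ t ∈ C, ∀ g : X, g * t * g⁻¹ ∈ C) {φ : ℕ} (hφ : ∀ t ∈ C, {x : Ω | t • x = x}.ncard = φ)
    {a b : Ω} (hab : a ≠ b) :
    C.ncard * (Nat.card Ω - φ) = Nat.card Ω * (Nat.card Ω - 1) * {t : X | t ∈ C ∧ t • a = b}.ncard := by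
  classical
  have : Fintype X := Fintype.ofFinite X
  have : Fintype Ω := Fintype.ofFinite Ω
  set k := {t : X | t ∈ C ∧ t • a = b}.ncard with hk
  have hk' : ∀ c d : Ω, c ≠ d → {t : X | t ∈ C ∧ t • c = d}.ncard = k := by
    intro c d hcd
    obtain ⟨g, hg1, hg2⟩ := h2 a b c d hab hcd
    have h1 : {t : X | t ∈ C ∧ t • c = d} = (fun t => g * t * g⁻¹) '' {t : X | t ∈ C ∧ t • a = b} := by
      ext t
      constructor
      · rintro ⟨h3, h4⟩
        refine ⟨g⁻¹ * t * g, ⟨by simpa using hC t h3 g⁻¹, ?_⟩, by group⟩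
        rw [mul_smul, mul_smul, hg1, h4, ← hg2, inv_smul_smul]
      · rintro ⟨s, ⟨h3, h4⟩, rfl⟩
        refine ⟨hC s h3 g, ?_⟩
        show (g * s * g⁻¹) • c = d
        rw [mul_smul, mul_smul, ← hg1, inv_smul_smul, h4, hg2]
    rw [h1, Set.ncard_image_of_injective]
    intro x y hxy
    simpa using hxy
  -- double count
  have e1 : ∀ t ∈ C.toFinset, ∑ x : Ω, (if t • x ≠ x then 1 else 0) = Nat.card Ω - φ := by
    intro t ht
    rw [Finset.sum_boole, ← hφ t (Set.mem_toFinset.1 ht)]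
    have h1 : ({x : Ω | t • x = x} : Set Ω).ncard = (Finset.univ.filter fun x : Ω => t • x = x).card := by
      rw [Set.ncard_eq_toFinset_card', Set.toFinset_ofPred]
    rw [h1, Nat.card_eq_fintype_card]
    have h3 := Finset.card_filter_add_card_filter_not (s := (Finset.univ : Finset Ω)) (fun x : Ω => t • x = x)
    rw [Finset.card_univ] at h3
    change _ + (Finset.univ.filter fun x : Ω => t • x ≠ x).card = _ at h3
    simp only [Nat.cast_id]
    omega
  have e2 : ∀ x : Ω, ∑ t ∈ C.toFinset, (if t • x ≠ x then 1 else 0) = (Nat.card Ω - 1) * k := by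
    intro x
    have h1 : ∀ t : X, (if t • x ≠ x then 1 else 0) = ∑ y ∈ Finset.univ.erase x, (if t • x = y then 1 else 0) := by
      intro t
      by_cases h : t • x = x
      · rw [if_neg (by simpa using h), Finset.sum_eq_zero]
        intro y hy
        rw [if_neg]
        rw [h]
        exact (Finset.ne_of_mem_erase hy).symm
      · rw [if_pos h, Finset.sum_ite_eq, if_pos (Finset.mem_erase.2 ⟨h, Finset.mem_univ _⟩)]
    rw [Finset.sum_congr rfl fun t _ => h1 t, Finset.sum_comm]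
    have h4 : ∀ y ∈ Finset.univ.erase x, ∑ t ∈ C.toFinset, (if t • x = y then 1 else 0) = k := by
      intro y hy
      rw [← hk' x y (Finset.ne_of_mem_erase hy).symm, Finset.sum_boole, Set.ncard_eq_toFinset_card']
      simp only [Nat.cast_id]
      congr 1
      ext t
      simp
    rw [Finset.sum_congr rfl h4, Finset.sum_const, Finset.card_erase_of_mem (Finset.mem_univ _),
      Finset.card_univ, ← Nat.card_eq_fintype_card, smul_eq_mul]
  have e3 : ∑ t ∈ C.toFinset, ∑ x : Ω, (if t • x ≠ x then 1 else 0) =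
      ∑ x : Ω, ∑ t ∈ C.toFinset, (if t • x ≠ x then 1 else 0) := Finset.sum_comm
  rw [Finset.sum_congr rfl e1, Finset.sum_congr rfl fun x _ => e2 x, Finset.sum_const, Finset.sum_const,
    smul_eq_mul, smul_eq_mul, Finset.card_univ, ← Nat.card_eq_fintype_card] at e3
  rw [Set.ncard_eq_toFinset_card', e3]
  ring

theorem dvd_sum_of_orbits {G : Type*} [Group G] [MulAction G Ω] [Fintype Ω] (N : Subgroup G) (f : Ω → ℕ)
    (hf : ∀ g ∈ N, ∀ x, f (g • x) = f x) {l : ℕ} (h : ∀ x, f x ≠ 0 → Nat.card (orbit N x) = l) : l ∣ ∑ x, f x := by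
  classical
  have h1 := Finset.sum_comp (s := (Finset.univ : Finset Ω)) (fun v : ℕ => v) f
  rw [h1]
  apply Finset.dvd_sum
  intro v hv
  rcases Nat.eq_zero_or_pos v with h2 | h2
  · rw [h2, smul_zero]; exact dvd_zero _
  · rw [smul_eq_mul]
    apply Dvd.dvd.mul_right
    have h3 := dvd_ncard_of_orbits N {x : Ω | f x = v} (fun g hg x hx => (hf g hg x).trans hx)
      (fun x hx => h x (by rw [hx]; omega))
    rw [Set.ncard_eq_toFinset_card', Set.toFinset_ofPred] at h3
    exact h3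

end count

variable {G : Type u} {Ω : Type v} [Group G] [MulAction G Ω] {T : Subgroup G}

theorem dvd_mul_fix (A : AS G Ω T) (C : Set T) (hC : ∀ t ∈ C, ∀ g : T, g * t * g⁻¹ ∈ C) {φ : ℕ}
    (hφ : ∀ t ∈ C, {x : Ω | t • x = x}.ncard = φ) {a b : Ω} (hab : a ≠ b) {l : ℕ}
    (hl : ∀ c, c ≠ a ∧ c ≠ b → Nat.card (orbit (TT T a b) c) = l) :
    l ∣ {t : T | t ∈ C ∧ t • a = b}.ncard * φ := by
  classical
  have := A.finG
  have := A.finΩ
  have : Fintype T := Fintype.ofFinite T
  have : Fintype Ω := Fintype.ofFinite Ω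
  let D : Finset T := Finset.univ.filter fun t => t ∈ C ∧ t • a = b
  have hD : ∀ t, t ∈ D ↔ t ∈ C ∧ t • a = b := fun t => by simp [D]
  let f : Ω → ℕ := fun x => (D.filter fun t => t • x = x).card
  have h1 : ∑ x, f x = {t : T | t ∈ C ∧ t • a = b}.ncard * φ := by
    have h2 : ∀ x, f x = ∑ t ∈ D, (if t • x = x then 1 else 0) := by
      intro x
      rw [Finset.sum_boole]
      rfl
    rw [Finset.sum_congr rfl fun x _ => h2 x, Finset.sum_comm]
    have h3 : ∀ t ∈ D, ∑ x : Ω, (if t • x = x then 1 else 0) = φ := by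
      intro t ht
      rw [← hφ t ((hD t).1 ht).1, Finset.sum_boole, Set.ncard_eq_toFinset_card', Set.toFinset_ofPred]
      rfl
    rw [Finset.sum_congr rfl h3, Finset.sum_const, smul_eq_mul, Set.ncard_eq_toFinset_card', Set.toFinset_ofPred]
  rw [← h1]
  apply dvd_sum_of_orbits (TT T a b) f
  · intro g hg x
    rw [mem_TT] at hg
    obtain ⟨hgT, hga, hgb⟩ := hg
    set γ : T := ⟨g, hgT⟩ with hγ
    have hγa : γ • a = a := hga
    have hγb : γ • b = b := hgb
    refine (Finset.card_bij (fun t _ => γ * t * γ⁻¹) ?_ ?_ ?_).symm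
    · intro t ht
      rw [Finset.mem_filter, hD] at ht
      rw [Finset.mem_filter, hD]
      refine ⟨⟨hC t ht.1.1 γ, ?_⟩, ?_⟩
      · rw [mul_smul, mul_smul, inv_smul_eq_iff.2 hγa.symm, ht.1.2, hγb]
      · show (γ * t * γ⁻¹) • (γ • x) = γ • x
        rw [mul_smul, mul_smul, inv_smul_smul, ht.2]
    · intro t _ s _ hts
      simpa using hts
    · intro t ht
      rw [Finset.mem_filter, hD] at ht
      refine ⟨γ⁻¹ * t * γ, ?_, by group⟩
      rw [Finset.mem_filter, hD]
      refine ⟨⟨by simpa using hC t ht.1.1 γ⁻¹, ?_⟩, ?_⟩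
      · rw [mul_smul, mul_smul, hγa, ht.1.2, inv_smul_eq_iff, hγb]
      · have h4 : t • (γ • x) = γ • x := ht.2
        rw [mul_smul, mul_smul, h4, inv_smul_smul]
  · intro x hx
    apply hl
    have h2 : 0 < f x := Nat.pos_of_ne_zero hx
    obtain ⟨t, ht⟩ := Finset.card_pos.1 h2
    rw [Finset.mem_filter, hD] at ht
    constructor
    · rintro rfl
      exact hab (ht.2.symm.trans ht.1.2)
    · rintro rfl
      apply hab
      exact smul_left_cancel t (ht.1.2.trans ht.2.symm)

/-! ### The class of transvections -/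

section Transv

open Cfsg.Agent.ClassicalGeometry Matrix

variable {F : Type*} [Field F] [Fintype F] {m : ℕ}

/-- the class of the transvections -/
def Cl (m : ℕ) (F : Type*) [Field F] : Set (Cfsg.PSp m F) :=
  {x | ∃ v : Fin m ⊕ Fin m → F, v ≠ 0 ∧ x = (QuotientGroup.mk (SympBasic.transv v 1) : Cfsg.PSp m F)}

theorem two_eq_zero (hF : Fintype.card F = 2) : (2 : F) = 0 := by
  have h := Nat.cast_card_eq_zero F
  rw [hF] at h
  exact_mod_cast h

theorem eq_zero_or_one (hF : Fintype.card F = 2) (a : F) (ha : a ≠ 0) : a = 1 := by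
  classical
  by_contra h
  have h1 : ({0, 1, a} : Finset F).card ≤ 2 := by
    rw [← hF]; exact Finset.card_le_univ _
  have h2 : ({0, 1, a} : Finset F).card = 3 := by
    rw [Finset.card_eq_three]
    exact ⟨0, 1, a, zero_ne_one, ha.symm, Ne.symm h, rfl⟩
  omega

theorem ncard_Cl (hF : Fintype.card F = 2) (hm : 2 ≤ m) : (Cl m F).ncard = 2 ^ (2 * m) - 1 := by
  classical
  have h1 : Cl m F = (fun v : Fin m ⊕ Fin m → F => (QuotientGroup.mk (SympBasic.transv v 1) : Cfsg.PSp m F)) ''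
      ({0}ᶜ : Set (Fin m ⊕ Fin m → F)) := by
    ext x
    constructor
    · rintro ⟨v, hv, rfl⟩
      exact ⟨v, hv, rfl⟩
    · rintro ⟨v, hv, rfl⟩
      exact ⟨v, hv, rfl⟩
  rw [h1, Set.InjOn.ncard_image]
  · rw [Set.ncard_compl, Set.ncard_singleton, Nat.card_eq_fintype_card, Fintype.card_fun, hF, Fintype.card_sum,
      Fintype.card_fin, two_mul]
  · intro v hv w hw hvw
    obtain ⟨a, h2, h3⟩ := SympAutCentral.mk_transv_eq hm (v := w) (w := v) hv one_ne_zero hvw
    have h4 : a ≠ 0 := by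
      rintro rfl
      simp at h3
    rw [eq_zero_or_one hF a h4, one_smul] at h2
    exact h2

theorem Cl_conj (t : Cfsg.PSp m F) (ht : t ∈ Cl m F) (g : Cfsg.PSp m F) : g * t * g⁻¹ ∈ Cl m F := by
  obtain ⟨v, hv, rfl⟩ := ht
  obtain ⟨v', hv', h⟩ := AutPSpCount.exists_conj_mk_transv g hv 1
  exact ⟨v', hv', h⟩

theorem Cl_trans (hF : Fintype.card F = 2) (t s : Cfsg.PSp m F) (ht : t ∈ Cl m F) (hs : s ∈ Cl m F) :
    ∃ g, g * t * g⁻¹ = s := by
  obtain ⟨v, hv, rfl⟩ := ht
  obtain ⟨w, hw, rfl⟩ := hs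
  obtain ⟨g, hg⟩ := SympAutTwo.transv_conj (two_eq_zero hF) hv hw (c := 1) (d := 1) one_ne_zero one_ne_zero
  exact ⟨QuotientGroup.mk g, by rw [← hg]; rfl⟩

end Transv

/-! ### Numbers -/

/-- the values of `n` with `y = z + 1 = 2 ^ (m - 1)` -/
def Deg (n z : ℕ) : Prop := n = (z + 1) * (2 * z + 3) ∨ n = (z + 1) * (2 * z + 1)

theorem num_fix {n z φ k : ℕ} (hn : Deg n z) (hz : 3 ≤ z) (hφ : φ < n)
    (h : (2 * z + 1) * (2 * z + 3) * (n - φ) = n * (n - 1) * k) :
    k * φ = (z + 1) ^ 2 ∨ k * φ = 2 * (z + 1) := by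
  obtain ⟨d, rfl⟩ : ∃ d, n = φ + d := ⟨n - φ, by omega⟩
  have hd : 0 < d := by omega
  rw [Nat.add_sub_cancel_left] at h
  rcases hn with hn | hn
  · have h1 : φ + d - 1 = (2 * z + 1) * (z + 2) := by
      have : (z + 1) * (2 * z + 3) = (2 * z + 1) * (z + 2) + 1 := by ring
      omega
    rw [h1, hn] at h
    have h2 : d = (z + 1) * (z + 2) * k := by
      have h3 : 0 < (2 * z + 1) * (2 * z + 3) := by positivity
      apply Nat.eq_of_mul_eq_mul_left h3
      rw [h]; ring
    have h4 : k = 1 := by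
      rcases Nat.lt_or_ge k 2 with h5 | h5
      · rcases Nat.eq_zero_or_pos k with h6 | h6
        · rw [h6, mul_zero] at h2; omega
        · omega
      · exfalso
        have h6 : (z + 1) * (z + 2) * 2 ≤ d := by rw [h2]; exact Nat.mul_le_mul_left _ h5
        have h7 : (z + 1) * (z + 2) * 2 = (z + 1) * (2 * z + 3) + (z + 1) := by ring
        omega
    subst h4
    left
    have h5 : (z + 1) * (2 * z + 3) = (z + 1) ^ 2 + (z + 1) * (z + 2) * 1 := by ring
    omega
  · have h1 : φ + d - 1 = (2 * z + 3) * z := by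
      have : (z + 1) * (2 * z + 1) = (2 * z + 3) * z + 1 := by ring
      omega
    rw [h1, hn] at h
    have h2 : d = (z + 1) * z * k := by
      have h3 : 0 < (2 * z + 1) * (2 * z + 3) := by positivity
      apply Nat.eq_of_mul_eq_mul_left h3
      rw [h]; ring
    have h4 : k = 1 ∨ k = 2 := by
      rcases Nat.lt_or_ge k 3 with h5 | h5
      · rcases Nat.eq_zero_or_pos k with h6 | h6
        · rw [h6, mul_zero] at h2; omega
        · omega
      · exfalso
        have h6 : (z + 1) * z * 3 ≤ d := by rw [h2]; exact Nat.mul_le_mul_left _ h5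
        have h7 : (z + 1) * z * 3 = (z + 1) * (2 * z) + (z + 1) * z := by ring
        have h8 : (z + 1) * (2 * z + 1) = (z + 1) * (2 * z) + (z + 1) := by ring
        nlinarith
    rcases h4 with rfl | rfl
    · left
      have h5 : (z + 1) * (2 * z + 1) = (z + 1) ^ 2 + (z + 1) * z * 1 := by ring
      omega
    · right
      have h5 : (z + 1) * (2 * z + 1) = (z + 1) + (z + 1) * z * 2 := by ring
      omega

theorem num_len {n z m l x : ℕ} (hn : Deg n z) (hm : 3 ≤ m) (hz : z + 1 = 2 ^ (m - 1)) (hl : l ∣ n - 2) (hlx : l ∣ x)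
    (hx : x = (z + 1) ^ 2 ∨ x = 2 * (z + 1)) : l ≤ 2 := by
  have h1 : l ∣ 2 ^ (2 * (m - 1) + 1) := by
    refine hlx.trans ?_
    have h2 : 2 ^ (2 * (m - 1) + 1) = (z + 1) ^ 2 * 2 := by
      rw [hz, ← pow_mul, ← pow_succ, mul_comm 2 (m - 1)]
    rw [h2]
    rcases hx with rfl | rfl
    · exact Dvd.intro _ rfl
    · exact ⟨z + 1, by ring⟩
  obtain ⟨j, -, rfl⟩ := (Nat.dvd_prime_pow Nat.prime_two).1 h1
  have h3 : 4 ∣ z + 1 := by
    rw [hz]
    exact (pow_dvd_pow 2 (by omega : 2 ≤ m - 1) : 2 ^ 2 ∣ _)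
  have h4 : 4 ∣ n := by
    rcases hn with rfl | rfl
    · exact h3.mul_right _
    · exact h3.mul_right _
  have h5 : 4 ≤ n := by
    rcases hn with rfl | rfl
    · nlinarith [Nat.le_of_dvd (by omega) h3]
    · nlinarith [Nat.le_of_dvd (by omega) h3]
  rcases Nat.lt_or_ge j 2 with h6 | h6
  · calc 2 ^ j ≤ 2 ^ 1 := Nat.pow_le_pow_right (by norm_num) (by omega)
      _ = 2 := by norm_num
  · exfalso
    have h7 : 4 ∣ n - 2 := (pow_dvd_pow 2 h6 : 2 ^ 2 ∣ 2 ^ j).trans hl
    omega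

theorem num_order {n z m s : ℕ} (hn : Deg n z) (hm : 3 ≤ m) (hz : z + 1 = 2 ^ (m - 1))
    (h : Cfsg.Agent.OddHalf.Orders.sp m 2 = n * (n - 1) * s) : 3 ∣ s := by
  obtain ⟨k, rfl⟩ : ∃ k, m = k + 3 := ⟨m - 3, by omega⟩
  have hz3 : 3 ≤ z := by
    have : 2 ^ 2 ≤ 2 ^ (k + 3 - 1) := Nat.pow_le_pow_right (by norm_num) (by omega)
    omega
  unfold Cfsg.Agent.OddHalf.Orders.sp at h
  rw [List.range_succ, List.range_succ, List.map_append, List.map_append, List.prod_append, List.prod_append] at h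
  simp only [List.map_cons, List.map_nil, List.prod_singleton] at h
  have h3 : 3 ∣ ((List.range (k + 1)).map fun i => 2 ^ (2 * (i + 1)) - 1).prod := by
    apply List.dvd_prod
    rw [List.mem_map]
    exact ⟨0, by simp, by norm_num⟩
  set Q := ((List.range (k + 1)).map fun i => 2 ^ (2 * (i + 1)) - 1).prod with hQ
  have e1 : 2 ^ (2 * (k + 1 + 1)) - 1 = z * (z + 2) := by
    have e : 2 ^ (2 * (k + 1 + 1)) = (z + 1) ^ 2 := by
      rw [hz, ← pow_mul]; congr 1; omega
    rw [e]
    have : (z + 1) ^ 2 = z * (z + 2) + 1 := by ring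
    omega
  have e2 : 2 ^ (2 * (k + 2 + 1)) - 1 = (2 * z + 1) * (2 * z + 3) := by
    have e : 2 ^ (2 * (k + 2 + 1)) = 4 * (z + 1) ^ 2 := by
      rw [hz, ← pow_mul, show (4 : ℕ) = 2 ^ 2 from rfl, ← pow_add]; congr 1; omega
    rw [e]
    have : 4 * (z + 1) ^ 2 = (2 * z + 1) * (2 * z + 3) + 1 := by ring
    omega
  rw [e1, e2] at h
  have key : 3 ∣ (z + 1) * s := by
    have hpos : 0 < (2 * z + 1) * (2 * z + 3) := by positivity
    rcases hn with hn | hn
    · have h1 : n - 1 = (2 * z + 1) * (z + 2) := by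
        have : (z + 1) * (2 * z + 3) = (2 * z + 1) * (z + 2) + 1 := by ring
        omega
      rw [h1, hn] at h
      have h2 : (z + 1) * s = Q * (2 ^ ((k + 3) ^ 2) * z) := by
        have hp : 0 < (2 * z + 1) * (2 * z + 3) * (z + 2) := by positivity
        apply Nat.eq_of_mul_eq_mul_left hp
        linarith
      rw [h2]
      exact h3.mul_right _
    · have h1 : n - 1 = (2 * z + 3) * z := by
        have : (z + 1) * (2 * z + 1) = (2 * z + 3) * z + 1 := by ring
        omega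
      rw [h1, hn] at h
      have h2 : (z + 1) * s = Q * (2 ^ ((k + 3) ^ 2) * (z + 2)) := by
        have hp : 0 < (2 * z + 1) * (2 * z + 3) * z := by positivity
        apply Nat.eq_of_mul_eq_mul_left hp
        linarith
      rw [h2]
      exact h3.mul_right _
  rcases Nat.prime_three.dvd_mul.1 key with h4 | h4
  · rw [hz] at h4
    have := Nat.prime_three.dvd_of_dvd_pow h4
    omega
  · exact h4

/-- **The row `Sp_{2m}(2)`.** -/
theorem not_sp (A : AS G Ω T) (h3 : IsMultiplyPretransitive G Ω 3) {F : Type} [Field F] [Fintype F] {m : ℕ}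
    (hF : Fintype.card F = 2) (hm : 3 ≤ m) (e : Nonempty (T ≃* Cfsg.PSp m F))
    (hn : Nat.card Ω = 2 ^ (m - 1) * (2 ^ m + 1) ∨ Nat.card Ω = 2 ^ (m - 1) * (2 ^ m - 1)) : False := by
  obtain ⟨e⟩ := e
  have := A.finG
  have := A.finΩ
  have := A.faithful
  obtain ⟨z, hz⟩ : ∃ z, z + 1 = 2 ^ (m - 1) := ⟨2 ^ (m - 1) - 1, by
    have := Nat.one_le_two_pow (n := m - 1)
    omega⟩
  have hz2 : 2 ^ m = 2 * (z + 1) := by
    rw [hz, mul_comm, ← pow_succ]; congr 1; omega
  have hz3 : 3 ≤ z := by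
    have : 2 ^ 2 ≤ 2 ^ (m - 1) := Nat.pow_le_pow_right (by norm_num) (by omega)
    omega
  have hdeg : Deg (Nat.card Ω) z := by
    rw [hz2, ← hz] at hn
    rcases hn with hn | hn
    · left; rw [hn]; ring
    · right; rw [hn]; congr 1
  have h2 := T_two A h3
  rw [MulAction.is_two_pretransitive_iff] at h2
  obtain ⟨a, b, hab, l, hl, hld, -, hT, -⟩ := exists_len A h3
  set C : Set T := e ⁻¹' Cl m F with hCdef
  have hC : ∀ t ∈ C, ∀ g : T, g * t * g⁻¹ ∈ C := by
    intro t ht g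
    show e (g * t * g⁻¹) ∈ Cl m F
    rw [map_mul, map_mul, map_inv]
    exact Cl_conj _ ht _
  have hCn : C.ncard = (2 * z + 1) * (2 * z + 3) := by
    have h1 : C.ncard = (Cl m F).ncard := by
      have : C = e.symm '' Cl m F := by
        ext x
        constructor
        · intro hx
          exact ⟨e x, hx, e.symm_apply_apply x⟩
        · rintro ⟨y, hy, rfl⟩
          show e (e.symm y) ∈ Cl m F
          rwa [e.apply_symm_apply]
      rw [this, Set.ncard_image_of_injective _ e.symm.injective]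
    rw [h1, ncard_Cl hF (by omega)]
    have e' : 2 ^ (2 * m) = 4 * (z + 1) ^ 2 := by
      rw [mul_comm, pow_mul, hz2]; ring
    rw [e']
    have : 4 * (z + 1) ^ 2 = (2 * z + 1) * (2 * z + 3) + 1 := by ring
    omega
  obtain ⟨t₀, ht₀⟩ : C.Nonempty := by
    rw [← Set.ncard_pos, hCn]
    positivity
  have hφ : ∀ t ∈ C, {x : Ω | t • x = x}.ncard = {x : Ω | t₀ • x = x}.ncard := by
    intro t ht
    obtain ⟨g, hg⟩ := Cl_trans hF (e t₀) (e t) ht₀ ht
    have h4 : t = e.symm g * t₀ * (e.symm g)⁻¹ := by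
      apply e.injective
      rw [map_mul, map_mul, map_inv, e.apply_symm_apply, hg]
    rw [h4]
    exact ncard_fix_conj _ _
  set φ := {x : Ω | t₀ • x = x}.ncard with hφdef
  have hφn : φ < Nat.card Ω := by
    rw [← Set.ncard_univ]
    refine Set.ncard_lt_ncard ?_ Set.finite_univ
    rw [Set.ssubset_univ_iff]
    intro h4
    -- `t₀ = 1`, hence `C = {1}`
    have h5 : t₀ = 1 := by
      apply FaithfulSMul.eq_of_smul_eq_smul (α := Ω)
      intro x
      rw [one_smul]
      have : x ∈ {x : Ω | t₀ • x = x} := by rw [h4]; trivial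
      exact this
    have h6 : C ⊆ {1} := by
      intro t ht
      obtain ⟨g, hg⟩ := Cl_trans hF (e t₀) (e t) ht₀ ht
      rw [h5, map_one, mul_one, mul_inv_cancel] at hg
      exact e.injective (by rw [← hg, map_one])
    have h7 := Set.ncard_le_ncard h6
    rw [Set.ncard_singleton, hCn] at h7
    nlinarith
  have hcount := class_count (X := T) (Ω := Ω) (fun a b c d hab hcd => h2 hab hcd) C hC hφ hab
  rw [hCn] at hcount
  have hfix := num_fix hdeg hz3 hφn hcount
  have hdvd := dvd_mul_fix A C hC hφ hab hl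
  have hl2 := num_len hdeg hm hz hld hdvd hfix
  have h8 : ∀ c : Ω, Nat.card (orbit (TT T a b) c) ≤ 2 := by
    intro c
    by_cases hc : c = a
    · rw [hc, TT_orbit_a.1]; norm_num
    by_cases hc' : c = b
    · rw [hc', TT_orbit_a.2]; norm_num
    · rw [hl c ⟨hc, hc'⟩]; exact hl2
  have h9 : 3 ∣ Nat.card (TT T a b) := by
    refine num_order hdeg hm hz ?_
    rw [← hT, Nat.card_congr e.toEquiv, ← hF, ← Cfsg.Agent.OddHalf.Orders.card_psp (F := F) m (by omega)]
    rw [hF]
    have : Cfsg.Agent.OddHalf.Orders.spDen 2 = 1 := rfl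
    rw [this, one_mul]
  exact absurd (card_pow_two A h8 Nat.prime_three h9) (by norm_num)

end Cfsg.Agent.H488.ThreeHalf
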