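import Cfsg.Agent.H488.ThreeRows

/-!
# `(3+1/2)`-transitive groups: `M₁₂` of degree 12
-/

set_option autoImplicit false
set_option linter.unusedSectionVars false

namespace Cfsg.Agent.H488.ThreeHalf

open MulAction Cfsg.Agent.H392.MultTrans Cfsg.Agent.H384.TwoTrans

universe u v

variable {G : Type u} {Ω : Type v} [Group G] [MulAction G Ω] [Finite G] [Finite Ω]

/-- the kernel on an invariant set -/
theorem exists_ker (N : Subgroup G) (O : Set Ω) (hO : ∀ g ∈ N, ∀ x ∈ O, g • x ∈ O) :
    ∃ K : Subgroup G, K ≤ N ∧ (∀ g ∈ K, ∀ x ∈ O, g • x = x) ∧ Nat.card N ≤ O.ncard.factorial * Nat.card K := by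
  classical
  let S : SubMulAction N Ω :=
    { carrier := O
      smul_mem' := fun g b hb => hO g g.2 b hb }
  let φ : N →* Equiv.Perm S := toPermHom N S
  refine ⟨φ.ker.map N.subtype, ?_, ?_, ?_⟩
  · rintro _ ⟨y, -, rfl⟩
    exact y.2
  · rintro _ ⟨y, hy, rfl⟩ x hx
    have h1 : φ y = 1 := hy
    have h2 := congrArg (fun σ : Equiv.Perm S => ((σ ⟨x, hx⟩ : S) : Ω)) h1
    exact h2
  · have h1 : Nat.card (φ.ker.map N.subtype : Subgroup G) = Nat.card φ.ker :=
      Nat.card_congr (Subgroup.equivMapOfInjective _ _ N.subtype_injective).symm.toEquiv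
    rw [h1]
    have h2 : Nat.card N = Nat.card φ.range * Nat.card φ.ker := by
      rw [← φ.ker.index_mul_card, Subgroup.index_ker]
    rw [h2]
    apply Nat.mul_le_mul_right
    have h3 : Nat.card φ.range ≤ Nat.card (Equiv.Perm S) := Nat.card_le_card_of_injective _ Subtype.val_injective
    rw [Nat.card_perm] at h3
    have h4 : Nat.card S = O.ncard := by rw [← Nat.card_coe_set_eq]; rfl
    rwa [h4] at h3

/-- a primitive group with an element moving at most three points -/
theorem concl_of_support [FaithfulSMul G Ω] (hp : IsPreprimitive G Ω) (h5 : 5 ≤ Nat.card Ω) {g : G} (hg : g ≠ 1)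
    (hs : ({x : Ω | g • x ≠ x} : Set Ω).ncard ≤ 3) : Concl G Ω := by
  classical
  have : Fintype Ω := Fintype.ofFinite Ω
  have hnt : Nontrivial Ω := Finite.one_lt_card_iff_nontrivial.1 (by omega)
  have hprim : IsPreprimitive (toPermHom G Ω).range Ω := by
    let f : Ω →ₑ[(toPermHom G Ω).rangeRestrict] Ω := { toFun := id, map_smul' := fun _ _ => rfl }
    exact IsPreprimitive.of_surjective (f := f) Function.surjective_id
  set σ : Equiv.Perm Ω := toPermHom G Ω g with hσ
  have hσ1 : σ ≠ 1 := by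
    intro h
    apply hg
    apply FaithfulSMul.eq_of_smul_eq_smul (α := Ω)
    intro b
    rw [one_smul]
    exact congrArg (fun τ : Equiv.Perm Ω => τ b) h
  have hcard : σ.support.card ≤ 3 := by
    have h1 : ({x : Ω | g • x ≠ x} : Set Ω) = σ.support := by
      ext x
      simp only [Set.mem_ofPred_eq, Finset.mem_coe, Equiv.Perm.mem_support]
      rfl
    rwa [h1, Set.ncard_coe_finset] at hs
  have h2 := Equiv.Perm.two_le_card_support_of_ne_one hσ1
  have hmem : σ ∈ (toPermHom G Ω).range := ⟨g, rfl⟩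
  have hle : alternatingGroup Ω ≤ (toPermHom G Ω).range := by
    rcases (show σ.support.card = 2 ∨ σ.support.card = 3 by omega) with h | h
    · rw [Equiv.Perm.subgroup_eq_top_of_isPreprimitive_of_isSwap_mem hprim σ
        (Equiv.Perm.card_support_eq_two.1 h) hmem]
      exact le_top
    · exact Equiv.Perm.alternatingGroup_le_of_isPreprimitive_of_isThreeCycle_mem hprim
        (card_support_eq_three_iff.1 h) hmem
  exact concl_of_alt h5 hle

/-- **`M₁₂` of degree 12.** -/
theorem m12 [FaithfulSMul G Ω] {T : Subgroup G} (A : AS G Ω T) (hT : Nat.card T = 95040)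
    (h3 : IsMultiplyPretransitive G Ω 3) (hn : Nat.card Ω = 12) {r : ℕ} (hr : Half G Ω r) : Concl G Ω := by
  obtain ⟨s, b, hb, hrn, hrd, -⟩ := exists_stab (Ω := Ω) (by omega) h3 hr
  have h1 := card_eq_descFactorial h3 s
  have h0 : Nat.descFactorial 12 3 = 1320 := by simp [Nat.descFactorial]
  rw [hn, h0] at h1
  have h2 : 95040 ∣ Nat.card G := hT ▸ Subgroup.card_subgroup_dvd_card T
  have h72 : 72 ≤ Nat.card (stabilizer G s) := by
    have h4 : 0 < Nat.card (stabilizer G s) := Nat.card_pos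
    rw [h1] at h2
    obtain ⟨k, hk⟩ := h2
    omega
  rw [hn] at hrn
  by_cases hr39 : r = 1 ∨ r = Nat.card Ω - 3
  · exact concl_of (by omega) h3 hr hr39
  have hr3 : r = 3 := by
    have h10 : r ∣ 3 ^ 2 := hrn
    obtain ⟨k, hk, rfl⟩ := (Nat.dvd_prime_pow Nat.prime_three).1 h10
    rw [hn] at hr39
    interval_cases k <;> simp_all
  subst hr3
  -- the first two orbits
  set N := stabilizer G s with hN
  obtain ⟨c, hc, hcb⟩ : ∃ c, c ∉ Set.range s ∧ c ∉ orbit N b := by
    by_contra hcon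
    push Not at hcon
    have h10 : ((Set.range s)ᶜ : Set Ω) ⊆ orbit N b := fun x hx => hcon x hx
    have h11 := Set.ncard_le_ncard h10 (Set.toFinite _)
    rw [← Nat.card_coe_set_eq, ← Nat.card_coe_set_eq, card_compl_range, hn, hr s b hb] at h11
    omega
  have hinv : ∀ x : Ω, ∀ g ∈ N, ∀ y ∈ orbit N x, g • y ∈ orbit N x := by
    rintro x g hg _ ⟨k, rfl⟩
    exact ⟨⟨g, hg⟩ * k, mul_smul (⟨g, hg⟩ : N) k x⟩
  obtain ⟨K, hK, hKb, hKc⟩ := exists_ker N (orbit N b) (hinv b)
  obtain ⟨L, hL, hLb, hLc⟩ := exists_ker K (orbit N c) (fun g hg => hinv c g (hK hg))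
  rw [← Nat.card_coe_set_eq, hr s b hb] at hKc
  rw [← Nat.card_coe_set_eq, hr s c hc] at hLc
  have h6 : Nat.factorial 3 = 6 := rfl
  rw [h6] at hKc hLc
  have hL2 : 1 < Nat.card L := by omega
  obtain ⟨g, hg1⟩ : ∃ g : L, g ≠ 1 := by
    have := (Finite.one_lt_card_iff_nontrivial (α := L)).1 hL2
    exact exists_ne 1
  refine concl_of_support A.isPreprimitive (by omega) (g := (g : G)) (fun h => hg1 (Subtype.ext h)) ?_
  -- the fixed points
  have hsub : ({x : Ω | (g : G) • x ≠ x} : Set Ω) ⊆ ((Set.range s ∪ orbit N b) ∪ orbit N c : Set Ω)ᶜ := by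
    rintro x hx ((⟨i, rfl⟩ | h) | h)
    · exact hx ((mem_stab_emb s _).1 (hK (hL g.2)) i)
    · exact hx (hKb _ (hL g.2) x h)
    · exact hx (hLb _ g.2 x h)
  have h7 := Set.ncard_le_ncard hsub (Set.toFinite _)
  rw [Set.ncard_compl] at h7
  have h8 : (Set.range s ∪ orbit N b ∪ orbit N c : Set Ω).ncard = 9 := by
    rw [Set.ncard_union_eq, Set.ncard_union_eq, ← Nat.card_coe_set_eq (orbit N b), hr s b hb,
      ← Nat.card_coe_set_eq (orbit N c), hr s c hc]
    · have h6 : (Set.range s).ncard = 3 := by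
        rw [← Set.image_univ, Set.ncard_image_of_injective _ s.injective, Set.ncard_univ]
        simp
      omega
    · rw [Set.disjoint_left]
      intro x hx hx'
      exact orbit_subset_compl s hb hx' hx
    · rw [Set.disjoint_left]
      rintro x (hx | hx) hx'
      · exact orbit_subset_compl s hc hx' hx
      · apply hcb
        rw [← orbit_eq_iff.2 hx, orbit_eq_iff.2 hx']
        exact mem_orbit_self c
  rw [h8, hn] at h7
  exact h7

end Cfsg.Agent.H488.ThreeHalf
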