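import Cfsg.Agent.H488.ThreePslTwo
import Cfsg.Agent.H488.ThreeAffine
import Cfsg.Agent.H488.ThreeSp
import Cfsg.Agent.H488.ThreeLie
import Cfsg.Agent.H488.ThreeTwelve
import Cfsg.Agent.H488.M24Action
import Cfsg.Agent.S0243
import Cfsg.Agent.Cit.ElevenFact
import Cfsg.Agent.H660.SporPrimeIndex
import Cfsg.Agent.H392.KHalf

/-!
# `(3+1/2)`-transitive groups: the main theorem, from the list of the 2-transitive groups
-/

set_option autoImplicit false
set_option linter.unusedSectionVars false

namespace Cfsg.Agent.H488.ThreeHalf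

open MulAction Cfsg.Agent.H392.MultTrans Cfsg.Agent.H384.TwoTrans

universe u v

variable {G : Type u} {Ω : Type v} [Group G] [MulAction G Ω] {T : Subgroup G} {r : ℕ}

/-- if `T` is 4-transitive, so is `G` -/
theorem concl_of_four (h : IsMultiplyPretransitive T Ω 4) : Concl G Ω := by
  left
  refine ⟨fun s t => ?_⟩
  obtain ⟨g, hg⟩ := exists_smul_eq T s t
  refine ⟨(g : G), ?_⟩
  ext i
  have := DFunLike.congr_fun hg i
  exact this

theorem card_psl_four {F : Type*} [Field F] [Fintype F] (hF : Fintype.card F = 2) :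
    Nat.card (Matrix.ProjectiveSpecialLinearGroup (Fin 4) F) = 20160 := by
  have h := Cfsg.Agent.S0243.result hF 4 (by norm_num)
  norm_num [Fin.prod_univ_succ] at h
  exact h

theorem card_psl_two {F : Type*} [Field F] [Fintype F] {q : ℕ} (hF : Fintype.card F = q) :
    Nat.gcd 2 (q - 1) * ((q - 1) * Nat.card (Matrix.ProjectiveSpecialLinearGroup (Fin 2) F)) =
      (q ^ 2 - 1) * (q ^ 2 - q) := by
  have h := Cfsg.Agent.S0243.result hF 2 (by norm_num)
  rw [h]
  simp [Fin.prod_univ_two]

theorem card_alt {n : ℕ} (hn : 2 ≤ n) : Nat.card (alternatingGroup (Fin n)) * 2 = n.factorial := by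
  have : Nontrivial (Fin n) := Fin.nontrivial_iff_two_le.2 hn
  rw [Nat.card_eq_fintype_card, mul_comm, two_mul_card_alternatingGroup, Fintype.card_perm, Fintype.card_fin]

/-- `M₁₁`: `T = G` -/
theorem isM11 (A : AS G Ω T) (h : Cfsg.Spor.IsoM11 T) : Cfsg.IsM11 G := by
  have hT : T = ⊤ := eq_top_of_inner A (fun α => by
    by_contra hcon
    push Not at hcon
    exact Cfsg.Agent.Cit.ElevenFact.outer h hcon)
  have e : T ≃* G := (MulEquiv.subgroupCongr hT).trans Subgroup.topEquiv
  have := A.simple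
  have hs : IsSimpleGroup G := e.symm.isSimpleGroup
  exact ⟨hs, by rw [← Nat.card_congr e.toEquiv, Cfsg.Agent.NotCT.Orders.m11 h]⟩

/-- **The almost simple case.** -/
theorem almost (A : AS G Ω T) (hK : Known2 T (Nat.card Ω)) (h3 : IsMultiplyPretransitive G Ω 3)
    (hr : Half G Ω r) : Concl G Ω ∨ Third G Ω := by
  have := A.finG
  have := A.finΩ
  have := A.faithful
  have := A.finT
  have := A.simple
  have := A.transitive
  generalize hn : Nat.card Ω = n at hK
  cases hK with
  | alt n hn5 e =>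
    left
    obtain ⟨e⟩ := e
    refine alt (G := G) (T := T) (by omega) ?_
    rw [Nat.card_congr e.toEquiv, card_alt (by omega), hn]
  | psl F d n hd hd2 e hn' =>
    subst hn
    rcases Nat.lt_or_ge 2 d with h | h
    · exact (not_psl A h3 h e hn').elim
    · obtain rfl : d = 2 := by omega
      exact psl_two A h3 hr (hd2 rfl) e hn'
  | sp F m n hF hm e hn' => exact (not_sp A h3 hF hm e (by rwa [hn])).elim
  | psu F q n hq hF e hn' => exact (not_psu A h3 hq hF e (by rwa [hn])).elim
  | sz F m n hm hF e hn' => exact (not_sz A h3 hm hF e (by rwa [hn])).elim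
  | ree K m n hm hK e hn' => exact (not_ree A h3 hm hK e (by rwa [hn])).elim
  | psl2_8 F hF e =>
    obtain ⟨e⟩ := e
    refine (psl2_8 A h3 hn ?_).elim
    rw [Nat.card_congr e.toEquiv]
    have h := card_psl_two hF
    norm_num at h
    omega
  | psl2_9 F hF e =>
    left
    obtain ⟨e⟩ := e
    refine alt (G := G) (T := T) (by omega) ?_
    rw [Nat.card_congr e.toEquiv, hn]
    have h := card_psl_two hF
    norm_num [Nat.factorial] at h ⊢
    omega
  | psl2_11 F hF e =>
    obtain ⟨e⟩ := e
    refine (psl2_11 A h3 hn ?_).elim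
    rw [Nat.card_congr e.toEquiv]
    have h := card_psl_two hF
    norm_num at h
    omega
  | psl4_2 F hF e =>
    left
    obtain ⟨e⟩ := e
    refine alt (G := G) (T := T) (by omega) ?_
    rw [Nat.card_congr e.toEquiv, hn, card_psl_four hF]
    norm_num [Nat.factorial]
  | a7 e =>
    obtain ⟨e⟩ := e
    refine (a7 A h3 hn ?_).elim
    rw [Nat.card_congr e.toEquiv]
    have h := card_alt (n := 7) (by norm_num)
    have h7 : (7 : ℕ).factorial = 5040 := by decide
    rw [h7] at h
    omega
  | m11 h => exact Or.inl (m11_11 (isM11 A h) h3 hn hr)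
  | m11' h => exact Or.inl (m11_12 (isM11 A h) h3 hn hr)
  | m12 h => exact Or.inl (m12 A (Cfsg.Agent.NotCT.Orders.m12 h) h3 hn hr)
  | m22 h => exact Or.inl (m22 hn h3 hr)
  | m23 h => exact Or.inl (concl_of_four (Cfsg.Agent.H660.SporPrimeIndex.m23_four h hn))
  | m24 h =>
    refine Or.inl (concl_of_four (T := T) ?_)
    have := M24Action.five (T := T) (Ω := Ω) A.simple (Cfsg.Agent.NotCT.Orders.m24 h) hn
    exact isMultiplyPretransitive_of_le (n := 5) (by norm_num) (by omega)
  | hs h => exact (hs A h3 hn (Cfsg.Agent.NotCT.Orders.hs h)).elim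
  | co3 h => exact (co3 A h3 hn (Cfsg.Agent.NotCT.Orders.co3 h)).elim

/-- **`(3+1/2)`-transitive groups**, from the classification of the 2-transitive groups. -/
theorem main [Finite G] [FaithfulSMul G Ω] [Finite Ω] (hn : 4 ≤ Nat.card Ω) (h3 : IsMultiplyPretransitive G Ω 3)
    (hhalf : ∀ s : Fin 3 ↪ Ω, ∀ b c : Ω, b ∉ Set.range s → c ∉ Set.range s →
      Nat.card (orbit (stabilizer G s) b) = Nat.card (orbit (stabilizer G s) c))
    (hK : ∀ T : Subgroup G, AS G Ω T → Known2 T (Nat.card Ω)) : Concl G Ω ∨ Third G Ω := by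
  obtain ⟨s₀, b₀, hb₀⟩ := exists_tri (Ω := Ω) hn
  have hr : Half G Ω (Nat.card (orbit (stabilizer G s₀) b₀)) := by
    intro s b hb
    obtain ⟨g, hg⟩ := exists_map h3 s s₀
    have hgb : g • b ∉ Set.range s₀ := by
      rintro ⟨i, hi⟩
      apply hb
      refine ⟨i, ?_⟩
      have := hg i
      rw [hi] at this
      exact smul_left_cancel g this
    rw [Cfsg.Agent.H392.KHalf.orbit_card_conj s s₀ g hg b]
    exact hhalf s₀ _ _ hgb hb₀
  have h2 : IsMultiplyPretransitive G Ω 2 := isMultiplyPretransitive_of_le (n := 3) (by norm_num) (by omega)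
  rcases reduction h2 (by omega) with ⟨N, hN, -, -, ⟨p, hp, hexp⟩, htr, hsr⟩ | ⟨T, A⟩
  · exact Or.inl (affine hN hp hexp htr hsr hn h3 hr)
  · exact almost A (hK T A) h3 hr

end Cfsg.Agent.H488.ThreeHalf
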