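import Cfsg.Agent.H392.MultTrans
import Cfsg.Agent.H384.TwoTransRed

/-!
# `(3+1/2)`-transitive groups: general part

`TH G Ω T r`: `AS G Ω T`, `G` is 3-transitive and all the orbits of the stabiliser of three points on the
other points have length `r`.
-/

set_option autoImplicit false

namespace Cfsg.Agent.H488.ThreeHalf

open MulAction Cfsg.Agent.H392.MultTrans Cfsg.Agent.H384.TwoTrans

universe u v

variable {G : Type u} {Ω : Type v} [Group G] [MulAction G Ω] {T : Subgroup G}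

/-- the triple -/
def tri (a b c : Ω) (hab : a ≠ b) (hac : a ≠ c) (hbc : b ≠ c) : Fin 3 ↪ Ω :=
  ⟨![a, b, c], by
    intro i j hij
    fin_cases i <;> fin_cases j <;> simp_all⟩

theorem three_pts (h3 : IsMultiplyPretransitive G Ω 3) {a b c a' b' c' : Ω} (hab : a ≠ b) (hac : a ≠ c)
    (hbc : b ≠ c) (hab' : a' ≠ b') (hac' : a' ≠ c') (hbc' : b' ≠ c') :
    ∃ g : G, g • a = a' ∧ g • b = b' ∧ g • c = c' := by
  obtain ⟨g, hg⟩ := exists_map h3 (tri a b c hab hac hbc) (tri a' b' c' hab' hac' hbc')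
  exact ⟨g, hg 0, hg 1, hg 2⟩

/-- an element normalising `N` permutes the `N`-orbits -/
theorem card_orbit_smul {N : Subgroup G} {g : G} (hg : ∀ n, n ∈ N ↔ g * n * g⁻¹ ∈ N) (c : Ω) :
    Nat.card (orbit N (g • c)) = Nat.card (orbit N c) := by
  have h1 : (fun x : Ω => g • x) '' (orbit N c) = orbit N (g • c) := by
    ext x
    constructor
    · rintro ⟨_, ⟨u, rfl⟩, rfl⟩
      refine ⟨⟨g * u * g⁻¹, (hg u).1 u.2⟩, ?_⟩
      show (g * u * g⁻¹) • (g • c) = g • ((u : G) • c)
      rw [mul_smul, mul_smul, inv_smul_smul]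
    · rintro ⟨u, rfl⟩
      have h2 : g⁻¹ * u * g ∈ N := by
        rw [hg]
        have : g * (g⁻¹ * u * g) * g⁻¹ = u := by group
        rw [this]
        exact u.2
      refine ⟨(g⁻¹ * u * g) • c, ⟨⟨g⁻¹ * u * g, h2⟩, rfl⟩, ?_⟩
      show g • (g⁻¹ * u * g) • c = (u : G) • (g • c)
      rw [mul_smul, mul_smul, smul_inv_smul]
  rw [← h1]
  exact Nat.card_image_of_injective (fun x y h => smul_left_cancel g h) _

/-- the stabiliser of two points in `T`, as a subgroup of `G` -/
def TT (T : Subgroup G) (a b : Ω) : Subgroup G := T ⊓ (stabilizer G a ⊓ stabilizer G b)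

theorem mem_TT {a b : Ω} {g : G} : g ∈ TT T a b ↔ g ∈ T ∧ g • a = a ∧ g • b = b := by
  unfold TT
  rw [Subgroup.mem_inf, Subgroup.mem_inf, mem_stabilizer_iff, mem_stabilizer_iff]

theorem TT_conj (hT : T.Normal) {a b : Ω} {g : G} (ha : g • a = a) (hb : g • b = b) (n : G) :
    n ∈ TT T a b ↔ g * n * g⁻¹ ∈ TT T a b := by
  rw [mem_TT, mem_TT]
  have h1 : g⁻¹ • a = a := by rw [inv_smul_eq_iff, ha]
  have h2 : g⁻¹ • b = b := by rw [inv_smul_eq_iff, hb]
  rw [mul_smul, mul_smul, mul_smul, mul_smul, h1, h2]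
  constructor
  · rintro ⟨h, h3, h4⟩
    exact ⟨hT.conj_mem _ h g, by rw [h3, ha], by rw [h4, hb]⟩
  · rintro ⟨h, h3, h4⟩
    refine ⟨?_, ?_, ?_⟩
    · have := hT.conj_mem _ h g⁻¹
      have h5 : g⁻¹ * (g * n * g⁻¹) * g⁻¹⁻¹ = n := by group
      rwa [h5] at this
    · rw [← inv_smul_eq_iff.2 ha.symm] at h3
      have := smul_left_cancel g (h3.trans (by rw [inv_smul_eq_iff.2 ha.symm, ha] : (g⁻¹ • a) = g • a))
      rwa [inv_smul_eq_iff.2 ha.symm] at this
    · rw [← inv_smul_eq_iff.2 hb.symm] at h4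
      have := smul_left_cancel g (h4.trans (by rw [inv_smul_eq_iff.2 hb.symm, hb] : (g⁻¹ • b) = g • b))
      rwa [inv_smul_eq_iff.2 hb.symm] at this

section AS

variable (A : AS G Ω T) (h3 : IsMultiplyPretransitive G Ω 3)
include A

theorem exists_moved (a : Ω) : ∃ t ∈ T, ∃ x : Ω, t • a = a ∧ t • x ≠ x := by
  have := A.finG
  have := A.finΩ
  have := A.faithful
  have := A.normal
  by_contra hcon
  push Not at hcon
  have h1 : ∀ b : Ω, stabilizer T b = ⊥ := by
    intro b
    have := A.transitive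
    obtain ⟨t, ht⟩ := exists_smul_eq T a b
    rw [eq_bot_iff]
    intro x hx
    rw [Subgroup.mem_bot]
    have hxb : (x : G) • b = b := hx
    have hta : (t : G) • a = b := ht
    have h2 : ((t : G)⁻¹ * x * t) • a = a := by
      rw [mul_smul, mul_smul, hta, hxb, ← hta, inv_smul_smul]
    have h3 : ((t : G)⁻¹ * x * t) = 1 := by
      apply FaithfulSMul.eq_of_smul_eq_smul (α := Ω)
      intro y
      rw [one_smul]
      exact hcon _ (mul_mem (mul_mem (inv_mem t.2) x.2) t.2) y h2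
    apply Subtype.ext
    have h4 : (x : G) = (t : G) * ((t : G)⁻¹ * x * t) * (t : G)⁻¹ := by group
    rw [h4, h3]
    simp
  have hne : Nonempty Ω := ⟨a⟩
  have h2 := Cfsg.Agent.PermutationGroups.TwoTransitiveNormal.regular_normal_elementary_abelian A.two' T h1
  exact A.nonab h2.1

include h3

theorem exists_T_map {a b c : Ω} (hb : b ≠ a) (hc : c ≠ a) : ∃ t ∈ T, t • a = a ∧ t • b = c := by
  by_cases hbc : b = c
  · exact ⟨1, one_mem _, one_smul _ _, by rw [one_smul, hbc]⟩
  obtain ⟨t, ht, x, hta, htx⟩ := exists_moved A a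
  have hxa : x ≠ a := by
    rintro rfl
    exact htx hta
  have htxa : t • x ≠ a := by
    intro h
    rw [← hta] at h
    exact hxa (smul_left_cancel t h)
  obtain ⟨g, g1, g2, g3⟩ := three_pts h3 hxa.symm htxa.symm (Ne.symm htx) hb.symm hc.symm hbc
  refine ⟨g * t * g⁻¹, A.normal.conj_mem _ ht g, ?_, ?_⟩
  · rw [mul_smul, mul_smul, inv_smul_eq_iff.2 g1.symm, hta, g1]
  · rw [mul_smul, mul_smul, inv_smul_eq_iff.2 g2.symm, g3]

/-- `T` is 2-transitive -/
theorem T_two : IsMultiplyPretransitive T Ω 2 := by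
  rw [MulAction.is_two_pretransitive_iff]
  intro a b c d hab hcd
  have := A.transitive
  obtain ⟨t, ht⟩ := exists_smul_eq T a c
  have h1 : (t : G) • b ≠ c := by
    intro h
    apply hab
    have h2 : (t : G) • a = c := ht
    exact smul_left_cancel (t : G) (h2.trans h.symm)
  obtain ⟨s, hs, hsc, hsd⟩ := exists_T_map A h3 h1 hcd.symm
  refine ⟨⟨s, hs⟩ * t, ?_, ?_⟩
  · rw [mul_smul, ht]; exact hsc
  · rw [mul_smul]; exact hsd

/-- all the orbits of `T_ab` on the other points have the same length -/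
theorem card_orbit_TT {a b c d : Ω} (hab : a ≠ b) (hc : c ≠ a ∧ c ≠ b) (hd : d ≠ a ∧ d ≠ b) :
    Nat.card (orbit (TT T a b) c) = Nat.card (orbit (TT T a b) d) := by
  obtain ⟨g, g1, g2, g3⟩ := three_pts h3 hab hc.1.symm hc.2.symm hab hd.1.symm hd.2.symm
  rw [← g3, card_orbit_smul (TT_conj A.normal g1 g2)]

end AS

/-- an invariant set is a union of orbits of the same length -/
theorem dvd_ncard_of_orbits [Finite Ω] (N : Subgroup G) (S : Set Ω) (hS : ∀ g ∈ N, ∀ x ∈ S, g • x ∈ S) {l : ℕ}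
    (h : ∀ x ∈ S, Nat.card (orbit N x) = l) : l ∣ S.ncard := by
  classical
  have : Fintype Ω := Fintype.ofFinite Ω
  let C : SubMulAction N Ω :=
    { carrier := S
      smul_mem' := fun g b hb => hS g g.2 b hb }
  have hcard : Nat.card C = S.ncard := by
    rw [← Nat.card_coe_set_eq]; rfl
  rw [← hcard]
  have h2 : Nat.card C = ∑ ω : Quotient (orbitRel N C), Nat.card (orbitRel.Quotient.orbit ω) := by
    rw [Nat.card_congr (MulAction.selfEquivSigmaOrbits' N C), Nat.card_sigma]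
  rw [h2]
  apply Finset.dvd_sum
  intro ω _
  induction ω using Quotient.inductionOn with
  | h b =>
    rw [MulAction.orbitRel.Quotient.orbit_mk]
    have h3 : Nat.card (orbit N b) = Nat.card (orbit N (b : Ω)) := by
      have : (Subtype.val '' (orbit N b) : Set Ω) = orbit N (b : Ω) := by
        ext c
        constructor
        · rintro ⟨c', ⟨g, hg⟩, rfl⟩
          exact ⟨g, by rw [← hg]; rfl⟩
        · rintro ⟨g, hg⟩
          exact ⟨g • b, ⟨g, rfl⟩, by rw [← hg]; rfl⟩
      rw [← this, Nat.card_image_of_injective Subtype.val_injective]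
    rw [h3, h b b.2]

theorem ncard_compl_pair [Finite Ω] {a b : Ω} (hab : a ≠ b) : ({x : Ω | x ≠ a ∧ x ≠ b} : Set Ω).ncard = Nat.card Ω - 2 := by
  have h1 : ({x : Ω | x ≠ a ∧ x ≠ b} : Set Ω) = ({a, b} : Set Ω)ᶜ := by
    ext x; simp
  rw [h1, Set.ncard_compl, Set.ncard_pair hab]

/-- the common length of the orbits of `T_ab` divides `n - 2` -/
theorem card_orbit_dvd (A : AS G Ω T) (h3 : IsMultiplyPretransitive G Ω 3) {a b c : Ω} (hab : a ≠ b)
    (hc : c ≠ a ∧ c ≠ b) : Nat.card (orbit (TT T a b) c) ∣ Nat.card Ω - 2 := by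
  have := A.finΩ
  rw [← ncard_compl_pair hab]
  refine dvd_ncard_of_orbits (TT T a b) _ ?_ ?_
  · rintro g hg x ⟨hx1, hx2⟩
    rw [mem_TT] at hg
    refine ⟨fun h => hx1 ?_, fun h => hx2 ?_⟩
    · rw [← hg.2.1] at h
      exact smul_left_cancel g h
    · rw [← hg.2.2] at h
      exact smul_left_cancel g h
  · intro x hx
    exact card_orbit_TT A h3 hab hx hc

theorem card_orbit_dvd_card (N : Subgroup G) (c : Ω) : Nat.card (orbit N c) ∣ Nat.card N := by
  have := MulAction.index_stabilizer N c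
  rw [← Nat.card_coe_set_eq] at this
  rw [← this]
  exact Subgroup.index_dvd_card _

theorem TT_card (A : AS G Ω T) (h3 : IsMultiplyPretransitive G Ω 3) {a b : Ω} (hab : a ≠ b) :
    Nat.card T = Nat.card Ω * (Nat.card Ω - 1) * Nat.card (TT T a b) := by
  have := A.finT
  have := A.finΩ
  have h2 := T_two A h3
  let s : Fin 2 ↪ Ω := ⟨![a, b], by
    intro i j hij
    fin_cases i <;> fin_cases j <;> simp_all⟩
  have h4 := card_eq_descFactorial h2 s
  have h5 : Nat.card (stabilizer T s) = Nat.card (TT T a b) := by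
    refine Nat.card_congr
      { toFun := fun x => ⟨x.1.1, mem_TT.2 ⟨x.1.2, (mem_stab_emb s x.1).1 x.2 0, (mem_stab_emb s x.1).1 x.2 1⟩⟩
        invFun := fun x => ⟨⟨x.1, (mem_TT.1 x.2).1⟩, (mem_stab_emb s _).2 (by
          intro i
          fin_cases i
          · exact (mem_TT.1 x.2).2.1
          · exact (mem_TT.1 x.2).2.2)⟩
        left_inv := fun x => rfl
        right_inv := fun x => rfl }
  have h6 : (Nat.card Ω).descFactorial 2 = Nat.card Ω * (Nat.card Ω - 1) := by
    rw [Nat.descFactorial_succ, Nat.descFactorial_one, mul_comm]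
  rw [h6] at h4
  exact h4.trans (congrArg (fun x => Nat.card Ω * (Nat.card Ω - 1) * x) h5)

/-- if the orbits of `N` have length one, `N` is trivial -/
theorem eq_bot_of_orbit_one [FaithfulSMul G Ω] (N : Subgroup G) (h : ∀ x : Ω, Nat.card (orbit N x) = 1) : N = ⊥ := by
  rw [eq_bot_iff]
  intro g hg
  rw [Subgroup.mem_bot]
  apply FaithfulSMul.eq_of_smul_eq_smul (α := Ω)
  intro b
  rw [one_smul]
  have h1 := h b
  rw [Nat.card_eq_one_iff_unique] at h1
  have h2 : (⟨g • b, ⟨⟨g, hg⟩, rfl⟩⟩ : orbit N b) = ⟨b, mem_orbit_self b⟩ := h1.1.elim _ _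
  exact congrArg Subtype.val h2

theorem TT_orbit_a {a b : Ω} : Nat.card (orbit (TT T a b) a) = 1 ∧ Nat.card (orbit (TT T a b) b) = 1 := by
  constructor
  · have : orbit (TT T a b) a = {a} := by
      ext x
      constructor
      · rintro ⟨g, rfl⟩
        exact (mem_TT.1 g.2).2.1
      · rintro rfl
        exact mem_orbit_self _
    rw [this]; simp
  · have : orbit (TT T a b) b = {b} := by
      ext x
      constructor
      · rintro ⟨g, rfl⟩
        exact (mem_TT.1 g.2).2.2
      · rintro rfl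
        exact mem_orbit_self _
    rw [this]; simp

/-- `T_ab` is trivial if one of its orbits outside `{a, b}` has length one -/
theorem TT_eq_bot (A : AS G Ω T) (h3 : IsMultiplyPretransitive G Ω 3) {a b c : Ω} (hab : a ≠ b)
    (hc : c ≠ a ∧ c ≠ b) (h : Nat.card (orbit (TT T a b) c) = 1) : TT T a b = ⊥ := by
  have := A.faithful
  apply eq_bot_of_orbit_one (Ω := Ω)
  intro x
  by_cases h1 : x = a
  · rw [h1]; exact TT_orbit_a.1
  by_cases h2 : x = b
  · rw [h2]; exact TT_orbit_a.2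
  · rw [card_orbit_TT A h3 hab ⟨h1, h2⟩ hc, h]

/-- **Arithmetic form**: the common length `l` of the orbits of `T_ab` outside `{a, b}` divides `n - 2` and `|T_ab|`,
where `|T| = n (n - 1) |T_ab|`; if `l = 1` then `|T_ab| = 1`. -/
theorem exists_len (A : AS G Ω T) (h3 : IsMultiplyPretransitive G Ω 3) : ∃ (a b : Ω), a ≠ b ∧ ∃ l : ℕ,
    (∀ c, c ≠ a ∧ c ≠ b → Nat.card (orbit (TT T a b) c) = l) ∧ l ∣ Nat.card Ω - 2 ∧ l ∣ Nat.card (TT T a b) ∧
      Nat.card T = Nat.card Ω * (Nat.card Ω - 1) * Nat.card (TT T a b) ∧ (l = 1 → Nat.card (TT T a b) = 1) := by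
  classical
  have := A.finΩ
  have h5 := A.five_le
  have hnt := A.nontrivialΩ
  obtain ⟨a, b, hab⟩ := exists_pair_ne Ω
  obtain ⟨c, hc⟩ : ∃ c : Ω, c ≠ a ∧ c ≠ b := by
    by_contra hcon
    push Not at hcon
    have h1 := ncard_compl_pair hab
    have h2 : ({x : Ω | x ≠ a ∧ x ≠ b} : Set Ω) = ∅ := by
      ext x
      simp only [Set.mem_ofPred_eq, Set.mem_empty_iff_false, iff_false, not_and, not_not]
      exact hcon x
    rw [h2, Set.ncard_empty] at h1
    omega
  refine ⟨a, b, hab, Nat.card (orbit (TT T a b) c), fun d hd => card_orbit_TT A h3 hab hd hc,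
    card_orbit_dvd A h3 hab hc, card_orbit_dvd_card _ _, TT_card A h3 hab, fun h => ?_⟩
  rw [TT_eq_bot A h3 hab hc h, Subgroup.card_bot]

/-- `T_ab` has exponent two if all its orbits have length at most two -/
theorem sq_eq_one (A : AS G Ω T) {a b : Ω} (h : ∀ c : Ω, Nat.card (orbit (TT T a b) c) ≤ 2) :
    ∀ g ∈ TT T a b, g * g = 1 := by
  have := A.faithful
  have := A.finΩ
  intro g hg
  apply FaithfulSMul.eq_of_smul_eq_smul (α := Ω)
  intro c
  rw [one_smul, mul_smul]
  by_contra hne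
  have h1 : g • c ≠ c := by
    intro h1
    rw [h1, h1] at hne
    exact hne rfl
  have h2 : g • g • c ≠ g • c := fun h2 => h1 (smul_left_cancel g h2)
  have h4 : ({c, g • c, g • g • c} : Set Ω) ⊆ orbit (TT T a b) c := by
    rintro x (rfl | rfl | rfl)
    · exact mem_orbit_self _
    · exact ⟨⟨g, hg⟩, rfl⟩
    · exact ⟨⟨g, hg⟩ * ⟨g, hg⟩, by
        show (g * g) • c = _
        rw [mul_smul]⟩
  have h5 := Set.ncard_le_ncard h4 (Set.toFinite _)
  have h6 : ({c, g • c, g • g • c} : Set Ω).ncard = 3 := by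
    rw [Set.ncard_eq_three]
    exact ⟨c, g • c, g • g • c, h1.symm, fun h => hne h.symm, h2.symm, rfl⟩
  have h7 := h c
  rw [Nat.card_coe_set_eq] at h7
  omega

/-- if all the orbits of `T_ab` have length at most two, its order is a power of two -/
theorem card_pow_two (A : AS G Ω T) {a b : Ω} (h : ∀ c : Ω, Nat.card (orbit (TT T a b) c) ≤ 2) {p : ℕ}
    (hp : p.Prime) (hd : p ∣ Nat.card (TT T a b)) : p = 2 := by
  have := A.finG
  have := Fact.mk hp
  obtain ⟨x, hx⟩ := exists_prime_orderOf_dvd_card' p hd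
  have h1 := sq_eq_one A h x x.2
  have h2 : x ^ 2 = 1 := by
    apply Subtype.ext
    rw [pow_two]
    exact h1
  have h3 := orderOf_dvd_of_pow_eq_one h2
  rw [hx] at h3
  exact (Nat.prime_dvd_prime_iff_eq hp Nat.prime_two).1 h3

end Cfsg.Agent.H488.ThreeHalf
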