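import Cfsg.Agent.H488.ThreeRows
import Cfsg.Agent.H410.ASLie

/-!
# `(3+1/2)`-transitive groups: the row `PSL_d(q)`, `d ≥ 3`

The stabiliser in `T` of the points `a`, `b` has an orbit of length at most `q` on the line `ab` and one of length at
least `q ^ 2` outside.
-/

set_option autoImplicit false
set_option linter.unusedSectionVars false

namespace Cfsg.Agent.H488.ThreeHalf

open MulAction Matrix Cfsg.Agent.H392.MultTrans Cfsg.Agent.H384.TwoTrans
open scoped LinearAlgebra.Projectivization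

universe u v

section vec

variable {F : Type*} [Field F] {ι : Type*} [Fintype ι] [DecidableEq ι]

theorem single_ne (i : ι) : (Pi.single i 1 : ι → F) ≠ 0 := by
  intro h
  have := congrFun h i
  rw [Pi.single_eq_same] at this
  exact one_ne_zero this

theorem smul_eq (M : SpecialLinearGroup ι F) (v : ι → F) : M • v = M.1 *ᵥ v := rfl

theorem line_ne {i j : ι} (hij : i ≠ j) (x : F) : (Pi.single i 1 + x • Pi.single j 1 : ι → F) ≠ 0 := by
  intro h
  have := congrFun h i
  rw [Pi.add_apply, Pi.single_eq_same, Pi.smul_apply, Pi.single_eq_of_ne hij, smul_zero, add_zero] at this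
  exact one_ne_zero this

theorem plane_ne {i j k : ι} (hik : i ≠ k) (hjk : j ≠ k) (x y : F) :
    (Pi.single k 1 + x • Pi.single i 1 + y • Pi.single j 1 : ι → F) ≠ 0 := by
  intro h
  have := congrFun h k
  simp [Pi.single_eq_of_ne hik.symm, Pi.single_eq_of_ne hjk.symm] at this

/-- the point `[e_i]` -/
def P (F : Type*) [Field F] (i : ι) : ℙ F (ι → F) := Projectivization.mk F (Pi.single i 1) (single_ne i)

/-- the point `[e_i + x e_j]` -/
def L {i j : ι} (hij : i ≠ j) (x : F) : ℙ F (ι → F) := Projectivization.mk F (Pi.single i 1 + x • Pi.single j 1) (line_ne hij x)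

/-- the point `[e_k + x e_i + y e_j]` -/
def Q {i j k : ι} (hik : i ≠ k) (hjk : j ≠ k) (x y : F) : ℙ F (ι → F) :=
  Projectivization.mk F (Pi.single k 1 + x • Pi.single i 1 + y • Pi.single j 1) (plane_ne hik hjk x y)

theorem fix_P {M : SpecialLinearGroup ι F} {i : ι} (h : M • P F i = P F i) :
    ∃ l : F, l ≠ 0 ∧ M.1 *ᵥ (Pi.single i 1) = l • (Pi.single i 1 : ι → F) := by
  rw [P, Projectivization.smul_mk, Projectivization.mk_eq_mk_iff'] at h
  obtain ⟨l, hl⟩ := h
  refine ⟨l, ?_, hl.symm⟩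
  rintro rfl
  rw [zero_smul] at hl
  have h1 : (Pi.single i 1 : ι → F) = 0 := by
    have h2 : M⁻¹ • (M • (Pi.single i 1 : ι → F)) = M⁻¹ • (0 : ι → F) := by rw [← hl]
    rwa [inv_smul_smul, smul_zero] at h2
  exact single_ne i h1

theorem line_smul {M : SpecialLinearGroup ι F} {i j : ι} (hij : i ≠ j) (hi : M • P F i = P F i) (hj : M • P F j = P F j)
    (x : F) : ∃ y : F, M • L hij x = L hij y := by
  obtain ⟨l, hl, h1⟩ := fix_P hi
  obtain ⟨m, hm, h2⟩ := fix_P hj
  refine ⟨l⁻¹ * (x * m), ?_⟩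
  rw [L, L, Projectivization.smul_mk, Projectivization.mk_eq_mk_iff']
  refine ⟨l, ?_⟩
  rw [smul_eq, mulVec_add, mulVec_smul, h1, h2, smul_add, smul_smul, smul_smul, ← mul_assoc, mul_inv_cancel₀ hl, one_mul]

theorem tr_single {i j k : ι} (hij : i ≠ j) (x : F) :
    (SpecialLinearGroup.transvection hij x).1 *ᵥ (Pi.single k 1) =
      if k = j then (Pi.single j 1 + x • Pi.single i 1 : ι → F) else Pi.single k 1 := by
  have h0 : (SpecialLinearGroup.transvection hij x).1 = 1 + Matrix.single i j x := rfl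
  rw [h0, add_mulVec, one_mulVec]
  split_ifs with h
  · subst h
    congr 1
    rw [mulVec_single_one]
    ext l
    rw [Matrix.col_apply, Pi.smul_apply, smul_eq_mul]
    by_cases hl : l = i
    · subst hl; simp
    · rw [Pi.single_eq_of_ne hl, mul_zero, Matrix.single_apply, if_neg (fun h => hl h.1.symm)]
  · rw [mulVec_single_one]
    convert add_zero _
    ext l
    rw [Matrix.col_apply, Matrix.single_apply, if_neg (fun h' => h h'.2.symm)]
    rfl

theorem tr_P {i j k : ι} (hij : i ≠ j) (hk : k ≠ j) (x : F) :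
    SpecialLinearGroup.transvection hij x • P F k = P F k := by
  rw [P, Projectivization.smul_mk]
  congr 1
  rw [smul_eq, tr_single, if_neg hk]

theorem tr_Q {i j k : ι} (hik : i ≠ k) (hjk : j ≠ k) (x y : F) :
    (SpecialLinearGroup.transvection hik x * SpecialLinearGroup.transvection hjk y) • P F k = Q hik hjk x y := by
  rw [P, Q, Projectivization.smul_mk]
  congr 1
  rw [mul_smul, smul_eq, smul_eq, tr_single, if_pos rfl, mulVec_add, mulVec_smul, tr_single, if_pos rfl, tr_single,
    if_neg hjk]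

theorem Q_inj {i j k : ι} (hij : i ≠ j) (hik : i ≠ k) (hjk : j ≠ k) {x y x' y' : F}
    (h : Q hik hjk x y = Q hik hjk x' y') : x = x' ∧ y = y' := by
  rw [Q, Q, Projectivization.mk_eq_mk_iff'] at h
  obtain ⟨l, hl⟩ := h
  have h1 := congrFun hl k
  have h2 := congrFun hl i
  have h3 := congrFun hl j
  simp [Pi.single_eq_of_ne hik.symm, Pi.single_eq_of_ne hjk.symm] at h1
  subst h1
  simp [Pi.single_eq_of_ne hik, Pi.single_eq_of_ne hij] at h2
  simp [Pi.single_eq_of_ne hjk, Pi.single_eq_of_ne hij.symm] at h3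
  exact ⟨h2.symm, h3.symm⟩

end vec

variable {G : Type u} {Ω : Type v} [Group G] [MulAction G Ω] {T : Subgroup G}

theorem not_psl_three (A : AS G Ω T) (h3 : IsMultiplyPretransitive G Ω 3) {F : Type*} [Field F] [Fintype F]
    {ι : Type*} [Fintype ι] [DecidableEq ι] {i j k : ι} (hij : i ≠ j) (hik : i ≠ k) (hjk : j ≠ k)
    (e : T ≃* ProjectiveSpecialLinearGroup ι F) (Φ : Ω ≃ ℙ F (ι → F))
    (hΦ : ∀ (t : T) (ω : Ω), Φ (t • ω) = e t • Φ ω) : False := by
  have := A.finG
  have := A.finΩ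
  have h1 : 1 < Fintype.card F := Fintype.one_lt_card
  have hlift : ∀ (M : SpecialLinearGroup ι F) (p : ℙ F (ι → F)),
      e.symm (QuotientGroup.mk M) • Φ.symm p = Φ.symm (M • p) := by
    intro M p
    apply Φ.injective
    rw [hΦ, e.apply_symm_apply, Φ.apply_symm_apply, Φ.apply_symm_apply]
    rfl
  have hPne : ∀ {i j : ι}, i ≠ j → P F i ≠ P F j := by
    intro i j hij h
    rw [P, P, Projectivization.mk_eq_mk_iff'] at h
    obtain ⟨l, hl⟩ := h
    have := congrFun hl i
    simp [Pi.single_eq_of_ne hij] at this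
  have hLne : ∀ k : ι, k = i ∨ k = j → L hij (1 : F) ≠ P F k := by
    intro k hk h
    rw [L, P, Projectivization.mk_eq_mk_iff'] at h
    obtain ⟨l, hl⟩ := h
    have h4 := congrFun hl i
    have h5 := congrFun hl j
    rcases hk with rfl | rfl
    · simp [Pi.single_eq_of_ne hij.symm] at h5
    · simp [Pi.single_eq_of_ne hij] at h4
  have hab : Φ.symm (P F i) ≠ Φ.symm (P F j) := fun h => hPne hij (Φ.symm.injective h)
  have hmain := card_orbit_TT A h3 hab (c := Φ.symm (L hij 1)) (d := Φ.symm (P F k))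
    ⟨fun h => hLne i (Or.inl rfl) (Φ.symm.injective h), fun h => hLne j (Or.inr rfl) (Φ.symm.injective h)⟩
    ⟨fun h => hPne hik.symm (Φ.symm.injective h), fun h => hPne hjk.symm (Φ.symm.injective h)⟩
  -- upper bound
  have hle : Nat.card (orbit (TT T (Φ.symm (P F i)) (Φ.symm (P F j))) (Φ.symm (L hij 1))) ≤ Fintype.card F := by
    have h4 : orbit (TT T (Φ.symm (P F i)) (Φ.symm (P F j))) (Φ.symm (L hij 1)) ⊆
        (fun x : F => Φ.symm (L hij x)) '' Set.univ := by
      rintro _ ⟨g, rfl⟩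
      obtain ⟨g, hg⟩ := g
      rw [mem_TT] at hg
      obtain ⟨hgT, hga, hgb⟩ := hg
      obtain ⟨M, hM⟩ := QuotientGroup.mk_surjective (e ⟨g, hgT⟩)
      have hg' : (⟨g, hgT⟩ : T) = e.symm (QuotientGroup.mk M) := by rw [hM, e.symm_apply_apply]
      have h5 : M • P F i = P F i := by
        apply Φ.symm.injective
        rw [← hlift, ← hg']
        exact hga
      have h6 : M • P F j = P F j := by
        apply Φ.symm.injective
        rw [← hlift, ← hg']
        exact hgb
      obtain ⟨y, hy⟩ := line_smul hij h5 h6 1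
      refine ⟨y, trivial, ?_⟩
      show Φ.symm (L hij y) = (⟨g, hgT⟩ : T) • Φ.symm (L hij 1)
      rw [hg', hlift, hy]
    rw [Nat.card_coe_set_eq]
    calc _ ≤ _ := Set.ncard_le_ncard h4 (Set.toFinite _)
      _ ≤ (Set.univ : Set F).ncard := Set.ncard_image_le (Set.toFinite _)
      _ = Fintype.card F := by rw [Set.ncard_univ, Nat.card_eq_fintype_card]
  -- lower bound
  have hge : Fintype.card F * Fintype.card F ≤
      Nat.card (orbit (TT T (Φ.symm (P F i)) (Φ.symm (P F j))) (Φ.symm (P F k))) := by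
    have h4 : (fun x : F × F => Φ.symm (Q hik hjk x.1 x.2)) '' Set.univ ⊆
        orbit (TT T (Φ.symm (P F i)) (Φ.symm (P F j))) (Φ.symm (P F k)) := by
      rintro _ ⟨⟨x, y⟩, -, rfl⟩
      set M := SpecialLinearGroup.transvection hik x * SpecialLinearGroup.transvection hjk y with hM
      refine ⟨⟨(e.symm (QuotientGroup.mk M) : G), ?_⟩, ?_⟩
      · rw [mem_TT]
        refine ⟨(e.symm (QuotientGroup.mk M)).2, ?_, ?_⟩
        · show e.symm (QuotientGroup.mk M) • Φ.symm (P F i) = _
          rw [hlift, hM, mul_smul, tr_P hjk hik, tr_P hik hik]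
        · show e.symm (QuotientGroup.mk M) • Φ.symm (P F j) = _
          rw [hlift, hM, mul_smul, tr_P hjk hjk, tr_P hik hjk]
      · show e.symm (QuotientGroup.mk M) • Φ.symm (P F k) = Φ.symm (Q hik hjk x y)
        rw [hlift, hM, tr_Q]
    rw [Nat.card_coe_set_eq]
    calc Fintype.card F * Fintype.card F = (Set.univ : Set (F × F)).ncard := by
          rw [Set.ncard_univ, Nat.card_eq_fintype_card, Fintype.card_prod]
      _ = _ := by
          rw [Set.ncard_image_of_injective]
          rintro ⟨x, y⟩ ⟨x', y'⟩ h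
          have h' : Φ.symm (Q hik hjk x y) = Φ.symm (Q hik hjk x' y') := h
          obtain ⟨h5, h6⟩ := Q_inj hij hik hjk (Φ.symm.injective h')
          rw [h5, h6]
      _ ≤ _ := Set.ncard_le_ncard h4 (Set.toFinite _)
  rw [hmain] at hle
  nlinarith

/-- the degree is prime to the characteristic -/
theorem char_not_dvd {F : Type*} [Field F] [Fintype F] {r d n : ℕ} [CharP F r] (hr : r.Prime) (hd : 1 ≤ d)
    (hn : n * (Fintype.card F - 1) = Fintype.card F ^ d - 1) : ¬ r ∣ n := by
  intro h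
  have h1 : r ∣ Fintype.card F := by
    obtain ⟨m, hp, hm⟩ := FiniteField.card F r
    rw [hm]
    exact dvd_pow_self _ m.2.ne'
  have h2 : r ∣ Fintype.card F ^ d - 1 := by
    rw [← hn]
    exact h.mul_right _
  have h3 : r ∣ Fintype.card F ^ d := dvd_pow h1 (by omega)
  have h4 : 1 ≤ Fintype.card F ^ d := Nat.one_le_pow _ _ Fintype.card_pos
  have h5 := (Nat.dvd_sub h3 h2)
  rw [Nat.sub_sub_self h4] at h5
  exact hr.one_lt.ne' (Nat.dvd_one.1 h5)

/-- **The row `PSL_d(q)`, `d ≥ 3`.** -/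
theorem not_psl (A : AS G Ω T) (h3 : IsMultiplyPretransitive G Ω 3) {F : Type*} [Field F] [Fintype F] {d : ℕ}
    (hd : 3 ≤ d) (e : Nonempty (T ≃* ProjectiveSpecialLinearGroup (Fin d) F))
    (hn : Nat.card Ω * (Fintype.card F - 1) = Fintype.card F ^ d - 1) : False := by
  obtain ⟨e⟩ := e
  obtain ⟨r, hch⟩ := CharP.exists F
  obtain ⟨-, hr, -⟩ := FiniteField.card F r
  have := Fact.mk hr
  obtain ⟨k, rfl⟩ : ∃ k, d = k + 1 + 1 + 1 := ⟨d - 3, by omega⟩
  obtain ⟨e', Φ, hΦ⟩ := Cfsg.Agent.H410.ASLie.psl_equiv (m := k + 1) A e (char_not_dvd (d := k + 1 + 1 + 1) hr (by omega) hn)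
  refine not_psl_three A h3 (i := (0 : Fin (k + 1 + 1 + 1))) (j := 1) (k := ⟨2, by omega⟩) ?_ ?_ ?_ e' Φ hΦ
  · intro h
    have := congrArg Fin.val h
    simp at this
  · intro h
    have := congrArg Fin.val h
    simp at this
  · intro h
    have := congrArg Fin.val h
    simp at this

end Cfsg.Agent.H488.ThreeHalf
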