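import Cfsg.Agent.H488.ThreePsl

/-!
# The projective line in coordinates

`Line G Ω T F` : coordinates of an action of `T` on `Ω` as `PSL₂(F)` on the projective line; `exists_line` : from an
isomorphism of actions.
-/

set_option autoImplicit false
set_option linter.unusedSectionVars false

namespace Cfsg.Agent.H488.ThreeHalf

open MulAction Matrix Cfsg.Agent.H392.MultTrans Cfsg.Agent.H384.TwoTrans
open scoped LinearAlgebra.Projectivization

universe u v

/-- coordinates of the projective line -/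
structure Line {G : Type u} (Ω : Type v) [Group G] [MulAction G Ω] (T : Subgroup G) (F : Type*) [Field F] where
  inf : Ω
  pt : F → Ω
  pt_inj : Function.Injective pt
  pt_ne : ∀ x, pt x ≠ inf
  pt_surj : ∀ ω, ω ≠ inf → ∃ x, pt x = ω
  u : F → T
  u_inf : ∀ b, u b • inf = inf
  u_pt : ∀ b x, u b • pt x = pt (x + b)
  h : F → T
  h_inf : ∀ s ≠ 0, h s • inf = inf
  h_pt : ∀ s ≠ 0, ∀ x, h s • pt x = pt (s ^ 2 * x)
  stab : ∀ t : T, t • inf = inf → ∃ s c, s ≠ 0 ∧ ∀ x, t • pt x = pt (s ^ 2 * x + c)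

variable {F : Type*} [Field F]

/-- `[x e₀ + e₁]` -/
def Pt (x : F) : ℙ F (Fin 2 → F) := Projectivization.mk F ![x, 1] (by
  intro h
  have := congrFun h 1
  simp at this)

/-- `[e₀]` -/
def Inf (F : Type*) [Field F] : ℙ F (Fin 2 → F) := Projectivization.mk F ![1, 0] (by
  intro h
  have := congrFun h 0
  simp at this)

theorem Pt_inj {x y : F} (h : Pt x = Pt y) : x = y := by
  rw [Pt, Pt, Projectivization.mk_eq_mk_iff'] at h
  obtain ⟨l, hl⟩ := h
  have h1 := congrFun hl 1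
  have h2 := congrFun hl 0
  simp at h1 h2
  rw [h1, one_mul] at h2
  exact h2.symm

theorem Pt_ne (x : F) : Pt x ≠ Inf F := by
  intro h
  rw [Pt, Inf, Projectivization.mk_eq_mk_iff'] at h
  obtain ⟨l, hl⟩ := h
  have h1 := congrFun hl 1
  simp at h1

theorem Pt_surj (p : ℙ F (Fin 2 → F)) (hp : p ≠ Inf F) : ∃ x, Pt x = p := by
  induction p using Projectivization.ind with
  | h v hv =>
    by_cases h1 : v 1 = 0
    · exfalso
      apply hp
      rw [Inf, Projectivization.mk_eq_mk_iff']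
      refine ⟨v 0, ?_⟩
      ext i
      fin_cases i
      · simp
      · simp [h1]
    · refine ⟨v 0 / v 1, ?_⟩
      rw [Pt, Projectivization.mk_eq_mk_iff']
      refine ⟨(v 1)⁻¹, ?_⟩
      ext i
      fin_cases i
      · simp; field_simp
      · simp [h1]

theorem smul_Pt (M : SpecialLinearGroup (Fin 2) F) (x y : F) (l : F) (h0 : M.1 0 0 * x + M.1 0 1 = l * y)
    (h1 : M.1 1 0 * x + M.1 1 1 = l) : M • Pt x = Pt y := by
  rw [Pt, Pt, Projectivization.smul_mk, Projectivization.mk_eq_mk_iff']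
  refine ⟨l, ?_⟩
  rw [smul_eq]
  ext i
  fin_cases i
  · simp [Matrix.mulVec, dotProduct, Fin.sum_univ_two, h0]
  · simp [Matrix.mulVec, dotProduct, Fin.sum_univ_two, h1]

theorem smul_Inf (M : SpecialLinearGroup (Fin 2) F) : M • Inf F = Inf F ↔ M.1 1 0 = 0 := by
  rw [Inf, Projectivization.smul_mk, Projectivization.mk_eq_mk_iff']
  constructor
  · rintro ⟨l, hl⟩
    rw [smul_eq] at hl
    have := congrFun hl 1
    simp [Matrix.mulVec, dotProduct, Fin.sum_univ_two] at this
    exact this.symm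
  · intro h
    refine ⟨M.1 0 0, ?_⟩
    rw [smul_eq]
    ext i
    fin_cases i
    · simp [Matrix.mulVec, dotProduct, Fin.sum_univ_two]
    · simp [Matrix.mulVec, dotProduct, Fin.sum_univ_two, h]

theorem stab_Inf {M : SpecialLinearGroup (Fin 2) F} (h : M • Inf F = Inf F) :
    ∃ s c : F, s ≠ 0 ∧ ∀ x, M • Pt x = Pt (s ^ 2 * x + c) := by
  rw [smul_Inf] at h
  have hdet := M.2
  rw [Matrix.det_fin_two, h, mul_zero, sub_zero] at hdet
  have h0 : M.1 0 0 ≠ 0 := left_ne_zero_of_mul_eq_one hdet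
  refine ⟨M.1 0 0, M.1 0 0 * M.1 0 1, h0, fun x => smul_Pt M x _ (M.1 1 1) ?_ ?_⟩
  · linear_combination (-(M.1 0 0 * x) - M.1 0 1) * hdet
  · rw [h, zero_mul, zero_add]

/-- unipotent -/
def U (b : F) : SpecialLinearGroup (Fin 2) F := ⟨!![1, b; 0, 1], by rw [Matrix.det_fin_two_of]; ring⟩

/-- diagonal -/
def H' (s : F) (h : s ≠ 0) : SpecialLinearGroup (Fin 2) F :=
  ⟨!![s, 0; 0, s⁻¹], by rw [Matrix.det_fin_two_of, mul_inv_cancel₀ h]; ring⟩

open Classical in
/-- diagonal -/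
noncomputable def H (s : F) : SpecialLinearGroup (Fin 2) F := if h : s = 0 then 1 else H' s h

theorem H_eq {s : F} (hs : s ≠ 0) : H s = H' s hs := by rw [H, dif_neg hs]

theorem U_Pt (b x : F) : U b • Pt x = Pt (x + b) := smul_Pt _ _ _ 1 (by simp [U]) (by simp [U])

theorem U_Inf (b : F) : U b • Inf F = Inf F := by rw [smul_Inf]; simp [U]

theorem H_Pt {s : F} (hs : s ≠ 0) (x : F) : H s • Pt x = Pt (s ^ 2 * x) := by
  rw [H_eq hs]
  refine smul_Pt _ _ _ s⁻¹ ?_ ?_
  · simp [H']; field_simp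
  · simp [H']

theorem H_Inf {s : F} (hs : s ≠ 0) : H s • Inf F = Inf F := by
  rw [H_eq hs, smul_Inf]; simp [H']

variable {G : Type u} {Ω : Type v} [Group G] [MulAction G Ω] {T : Subgroup G}

/-- coordinates from an isomorphism of actions -/
theorem exists_line (e : T ≃* ProjectiveSpecialLinearGroup (Fin 2) F) (Φ : Ω ≃ ℙ F (Fin 2 → F))
    (hΦ : ∀ (t : T) (ω : Ω), Φ (t • ω) = e t • Φ ω) : Nonempty (Line Ω T F) := by
  have hlift : ∀ (M : SpecialLinearGroup (Fin 2) F) (p : ℙ F (Fin 2 → F)),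
      e.symm (QuotientGroup.mk M) • Φ.symm p = Φ.symm (M • p) := by
    intro M p
    apply Φ.injective
    rw [hΦ, e.apply_symm_apply, Φ.apply_symm_apply, Φ.apply_symm_apply]
    rfl
  exact ⟨{
    inf := Φ.symm (Inf F)
    pt := fun x => Φ.symm (Pt x)
    pt_inj := fun x y h => Pt_inj (Φ.symm.injective h)
    pt_ne := fun x h => Pt_ne x (Φ.symm.injective h)
    pt_surj := fun ω hω => by
      obtain ⟨x, hx⟩ := Pt_surj (Φ ω) (fun h => hω (by rw [← h, Φ.symm_apply_apply]))
      exact ⟨x, by rw [hx, Φ.symm_apply_apply]⟩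
    u := fun b => e.symm (QuotientGroup.mk (U b))
    u_inf := fun b => by rw [hlift, U_Inf]
    u_pt := fun b x => by rw [hlift, U_Pt]
    h := fun s => e.symm (QuotientGroup.mk (H s))
    h_inf := fun s hs => by rw [hlift, H_Inf hs]
    h_pt := fun s hs x => by rw [hlift, H_Pt hs]
    stab := fun t ht => by
      obtain ⟨M, hM⟩ := QuotientGroup.mk_surjective (e t)
      have ht' : t = e.symm (QuotientGroup.mk M) := by rw [hM, e.symm_apply_apply]
      rw [ht', hlift] at ht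
      obtain ⟨s, c, hs, h⟩ := stab_Inf (Φ.symm.injective ht)
      exact ⟨s, c, hs, fun x => by rw [ht', hlift, h]⟩ }⟩

/-- coordinates for the row `PSL₂` -/
theorem exists_line_of (A : AS G Ω T) [Fintype F] (e : Nonempty (T ≃* ProjectiveSpecialLinearGroup (Fin 2) F))
    (hn : Nat.card Ω * (Fintype.card F - 1) = Fintype.card F ^ 2 - 1) : Nonempty (Line Ω T F) := by
  obtain ⟨e⟩ := e
  obtain ⟨r, hch⟩ := CharP.exists F
  obtain ⟨-, hr, -⟩ := FiniteField.card F r
  have := Fact.mk hr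
  obtain ⟨e', Φ, hΦ⟩ := Cfsg.Agent.H410.ASLie.psl_equiv (m := 0) A e (char_not_dvd (d := 2) hr (by omega) hn)
  exact exists_line e' Φ hΦ

end Cfsg.Agent.H488.ThreeHalf
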