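import Cfsg.Agent.H488.Line

/-!
# The stabiliser of three points of the projective line acts by field automorphisms

`Λ : Line Ω T F`, `T` normal in `G`.
-/

set_option autoImplicit false
set_option linter.unusedSectionVars false

namespace Cfsg.Agent.H488.ThreeHalf

open MulAction Matrix Cfsg.Agent.H392.MultTrans Cfsg.Agent.H384.TwoTrans

universe u v

variable {G : Type u} {Ω : Type v} [Group G] [MulAction G Ω] {T : Subgroup G} {F : Type*} [Field F]

namespace Line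

variable (Λ : Line Ω T F)

theorem ext_pt [FaithfulSMul G Ω] {s t : T} (hi : s • Λ.inf = t • Λ.inf) (h : ∀ x, s • Λ.pt x = t • Λ.pt x) :
    s = t := by
  apply Subtype.ext
  apply FaithfulSMul.eq_of_smul_eq_smul (α := Ω)
  intro ω
  by_cases hω : ω = Λ.inf
  · rw [hω]; exact hi
  · obtain ⟨x, rfl⟩ := Λ.pt_surj ω hω
    exact h x

theorem u_pow (b : F) (k : ℕ) (x : F) : (Λ.u b) ^ k • Λ.pt x = Λ.pt (x + k * b) := by
  induction k with
  | zero => simp
  | succ k ih =>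
    rw [pow_succ', mul_smul, ih, Λ.u_pt]
    congr 1
    push_cast
    ring

theorem pow_inf {t : T} (ht : t • Λ.inf = Λ.inf) (k : ℕ) : t ^ k • Λ.inf = Λ.inf := by
  have : t ∈ stabilizer T Λ.inf := ht
  exact (pow_mem this k : t ^ k ∈ stabilizer T Λ.inf)

theorem u_pow_char [FaithfulSMul G Ω] (b : F) {p : ℕ} (hp : (p : F) = 0) : (Λ.u b) ^ p = 1 := by
  apply Λ.ext_pt
  · rw [Λ.pow_inf (Λ.u_inf b), one_smul]
  · intro x
    rw [u_pow, hp, zero_mul, add_zero, one_smul]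

theorem exists_u [FaithfulSMul G Ω] {p : ℕ} [Fact p.Prime] [CharP F p] {t : T} (ht : t • Λ.inf = Λ.inf)
    (htp : t ^ p = 1) : ∃ c, t = Λ.u c := by
  obtain ⟨s, c, hs, h⟩ := Λ.stab t ht
  have key : s ^ 2 = 1 := by
    by_contra hne
    have h1 : (1 : F) - s ^ 2 ≠ 0 := fun h => hne (sub_eq_zero.1 h).symm
    set x₀ := c / (1 - s ^ 2) with hx₀
    have h2 : ∀ y, t • Λ.pt (x₀ + y) = Λ.pt (x₀ + s ^ 2 * y) := by
      intro y
      rw [h]
      congr 1
      have : x₀ * (1 - s ^ 2) = c := div_mul_cancel₀ _ h1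
      linear_combination (-1 : F) * this
    have h3 : ∀ (k : ℕ) (y : F), t ^ k • Λ.pt (x₀ + y) = Λ.pt (x₀ + (s ^ 2) ^ k * y) := by
      intro k
      induction k with
      | zero => intro y; simp
      | succ k ih =>
        intro y
        rw [pow_succ', mul_smul, ih, h2]
        congr 2
        ring
    have h4 := h3 p 1
    rw [htp, one_smul] at h4
    have h5 := Λ.pt_inj h4
    rw [mul_one] at h5
    have h6 : (s ^ 2) ^ p = 1 := (add_left_cancel h5).symm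
    have h7 : (s ^ 2 - 1) ^ p = 0 := by
      rw [sub_pow_char, h6, one_pow, sub_self]
    exact hne (sub_eq_zero.1 (pow_eq_zero_iff (Fact.out : p.Prime).ne_zero |>.1 h7))
  refine ⟨c, Λ.ext_pt ?_ ?_⟩
  · rw [ht, Λ.u_inf]
  · intro x
    rw [h, key, one_mul, Λ.u_pt]

/-- elements fixing `∞` normalise the root group -/
theorem conj_u [FaithfulSMul G Ω] [T.Normal] {p : ℕ} [Fact p.Prime] [CharP F p] {g : G} (hg : g • Λ.inf = Λ.inf) (b : F) :
    ∃ c, g * (Λ.u b : G) * g⁻¹ = (Λ.u c : G) := by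
  have hmem : g * (Λ.u b : G) * g⁻¹ ∈ T := (inferInstance : T.Normal).conj_mem _ (Λ.u b).2 g
  obtain ⟨c, hc⟩ := Λ.exists_u (p := p) (t := ⟨_, hmem⟩) (by
    show (g * (Λ.u b : G) * g⁻¹) • Λ.inf = Λ.inf
    have h1 : (Λ.u b : G) • Λ.inf = Λ.inf := Λ.u_inf b
    rw [mul_smul, mul_smul, inv_smul_eq_iff.2 hg.symm, h1, hg]) (by
    apply Subtype.ext
    show (g * (Λ.u b : G) * g⁻¹) ^ p = 1
    rw [conj_pow, ← Subgroup.coe_pow, Λ.u_pow_char b (CharP.cast_eq_zero F p), Subgroup.coe_one, mul_one,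
      mul_inv_cancel])
  exact ⟨c, congrArg Subtype.val hc⟩

/-- the stabiliser of three points acts by maps that are additive, and multiplicative on squares -/
theorem exists_map [FaithfulSMul G Ω] [T.Normal] {p : ℕ} [Fact p.Prime] [CharP F p] {g : G} (hg : g • Λ.inf = Λ.inf)
    (h0 : g • Λ.pt 0 = Λ.pt 0) (h1 : g • Λ.pt 1 = Λ.pt 1) :
    ∃ f : F → F, (∀ x, g • Λ.pt x = Λ.pt (f x)) ∧ (∀ x y, f (x + y) = f x + f y) ∧ f 1 = 1 ∧
      ∀ s x, f (s ^ 2 * x) = f (s ^ 2) * f x := by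
  have hne : ∀ x, g • Λ.pt x ≠ Λ.inf := by
    intro x h
    rw [← hg] at h
    exact Λ.pt_ne x (smul_left_cancel g h)
  choose f hf using fun x => Λ.pt_surj _ (hne x)
  have f0 : f 0 = 0 := Λ.pt_inj ((hf 0).trans h0)
  have f1 : f 1 = 1 := Λ.pt_inj ((hf 1).trans h1)
  have hadd : ∀ x y, f (x + y) = f x + f y := by
    intro x y
    obtain ⟨c, hc⟩ := Λ.conj_u (p := p) hg y
    have key : ∀ z, Λ.pt (f (z + y)) = Λ.pt (f z + c) := by
      intro z
      have h2 : (Λ.u y : G) • Λ.pt z = Λ.pt (z + y) := Λ.u_pt y z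
      have h3 : (Λ.u c : G) • Λ.pt (f z) = Λ.pt (f z + c) := Λ.u_pt c (f z)
      rw [hf, ← h2, ← h3, ← hc, hf, mul_smul, mul_smul, inv_smul_smul]
    have h4 := Λ.pt_inj (key 0)
    have h5 := Λ.pt_inj (key x)
    rw [zero_add, f0, zero_add] at h4
    rw [h5, h4]
  refine ⟨f, fun x => (hf x).symm, hadd, f1, ?_⟩
  intro s x
  by_cases hs : s = 0
  · subst hs
    have e0 : (0 : F) ^ 2 = 0 := by ring
    rw [e0, zero_mul, f0, zero_mul]
  have hmem : g * (Λ.h s : G) * g⁻¹ ∈ T := (inferInstance : T.Normal).conj_mem _ (Λ.h s).2 g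
  have hh : (Λ.h s : G) • Λ.inf = Λ.inf := Λ.h_inf s hs
  have hh' : ∀ x, (Λ.h s : G) • Λ.pt x = Λ.pt (s ^ 2 * x) := Λ.h_pt s hs
  obtain ⟨a, c, ha, hac⟩ := Λ.stab ⟨_, hmem⟩ (by
    show (g * (Λ.h s : G) * g⁻¹) • Λ.inf = Λ.inf
    rw [mul_smul, mul_smul, inv_smul_eq_iff.2 hg.symm, hh, hg])
  have hac' : ∀ x, (g * (Λ.h s : G) * g⁻¹) • Λ.pt x = Λ.pt (a ^ 2 * x + c) := hac
  have key : ∀ z, f (s ^ 2 * z) = a ^ 2 * f z + c := by
    intro z
    apply Λ.pt_inj
    rw [hf, ← hac' (f z), ← hh' z, hf, mul_smul, mul_smul, inv_smul_smul]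
  have h2 := key 0
  rw [mul_zero, f0, mul_zero, zero_add] at h2
  have h3 := key 1
  rw [mul_one, f1, mul_one, ← h2, add_zero] at h3
  have h4 := key x
  rw [← h2, add_zero, ← h3] at h4
  exact h4

end Line

end Cfsg.Agent.H488.ThreeHalf
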