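import Cfsg.Agent.H488.ThreeRows
import Cfsg.Agent.SporadicA.M11Facts
import Cfsg.Agent.H392.HalfTrans

/-!
# `(3+1/2)`-transitive groups: `M₁₁` of degree 11 and 12
-/

set_option autoImplicit false
set_option linter.unusedSectionVars false

namespace Cfsg.Agent.H488.ThreeHalf

open MulAction Cfsg.Agent.H392.MultTrans Cfsg.Agent.H384.TwoTrans

universe u v

variable {G : Type u} {Ω : Type v} [Group G] [MulAction G Ω]

theorem eq_top_of_inner {T : Subgroup G} (A : AS G Ω T) (inn : ∀ α : MulAut T, ∃ k, α = MulAut.conj k) : T = ⊤ := by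
  have := A.normal
  rw [eq_top_iff]
  intro g _
  obtain ⟨k, hk⟩ := inn (MulAut.conjNormal g)
  have h1 : (k : G)⁻¹ * g ∈ Subgroup.centralizer (T : Set G) := by
    rw [Subgroup.mem_centralizer_iff]
    intro t ht
    have h2 := congrArg (fun (α : MulAut T) => ((α ⟨t, ht⟩ : T) : G)) hk
    have h3 : g * t * g⁻¹ = k * t * (k : G)⁻¹ := by simpa using h2
    have h4 : g * t = k * t * (k : G)⁻¹ * g := by rw [← h3]; group
    have h5 : (k : G)⁻¹ * g * t = t * ((k : G)⁻¹ * g) := by
      rw [mul_assoc, h4]; group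
    exact h5.symm
  rw [A.cent, Subgroup.mem_bot] at h1
  have h2 : g = k := (inv_mul_eq_one.1 h1).symm
  rw [h2]
  exact k.2

section count

variable [Finite G] [Finite Ω]

/-- Counting the pairs (involution, fixed triple). -/
theorem count_inv (h3 : IsMultiplyPretransitive G Ω 3) (s : Fin 3 ↪ Ω) {f : ℕ}
    (hf : ∀ t : G, orderOf t = 2 → ({c : Ω | t • c = c} : Set Ω).ncard = f) :
    Nat.card {t : G // orderOf t = 2} * f.descFactorial 3 =
      (Nat.card Ω).descFactorial 3 * Nat.card {t : stabilizer G s // orderOf t = 2} := by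
  classical
  have : Fintype Ω := Fintype.ofFinite Ω
  have : Fintype G := Fintype.ofFinite G
  let P := {p : {t : G // orderOf t = 2} × (Fin 3 ↪ Ω) // ∀ i, (p.1 : G) • p.2 i = p.2 i}
  have h1 : Nat.card P = Nat.card {t : G // orderOf t = 2} * f.descFactorial 3 := by
    have e : P ≃ Σ t : {t : G // orderOf t = 2}, {s : Fin 3 ↪ Ω // ∀ i, (t : G) • s i = s i} :=
      { toFun := fun p => ⟨p.1.1, ⟨p.1.2, p.2⟩⟩
        invFun := fun q => ⟨(q.1, q.2.1), q.2.2⟩
        left_inv := fun _ => rfl
        right_inv := fun _ => rfl }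
    rw [Nat.card_congr e, Nat.card_sigma]
    have h2 : ∀ t : {t : G // orderOf t = 2}, Nat.card {s : Fin 3 ↪ Ω // ∀ i, (t : G) • s i = s i} =
        f.descFactorial 3 := by
      intro t
      have e2 : {s : Fin 3 ↪ Ω // ∀ i, (t : G) • s i = s i} ≃ (Fin 3 ↪ {c : Ω // (t : G) • c = c}) :=
        { toFun := fun s => ⟨fun i => ⟨s.1 i, s.2 i⟩, fun i j h => s.1.injective (congrArg Subtype.val h)⟩
          invFun := fun s => ⟨s.trans (Function.Embedding.subtype _), fun i => (s i).2⟩
          left_inv := fun _ => rfl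
          right_inv := fun _ => rfl }
      rw [Nat.card_congr e2, Nat.card_eq_fintype_card, Fintype.card_embedding_eq, Fintype.card_fin,
        ← Nat.card_eq_fintype_card]
      have h3 := hf t t.2
      rw [← Nat.card_coe_set_eq] at h3
      have h4 : Nat.card {c : Ω // (t : G) • c = c} = f := h3
      rw [h4]
    rw [Finset.sum_congr rfl (fun t _ => h2 t), Finset.sum_const, Finset.card_univ, smul_eq_mul,
      Nat.card_eq_fintype_card]
  have h2 : Nat.card P = (Nat.card Ω).descFactorial 3 * Nat.card {t : stabilizer G s // orderOf t = 2} := by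
    have e : P ≃ Σ s : (Fin 3 ↪ Ω), {t : {t : G // orderOf t = 2} // ∀ i, (t : G) • s i = s i} :=
      { toFun := fun p => ⟨p.1.2, ⟨p.1.1, p.2⟩⟩
        invFun := fun q => ⟨(q.2.1, q.1), q.2.2⟩
        left_inv := fun _ => rfl
        right_inv := fun _ => rfl }
    rw [Nat.card_congr e, Nat.card_sigma]
    have h4 : ∀ s' : Fin 3 ↪ Ω, Nat.card {t : {t : G // orderOf t = 2} // ∀ i, (t : G) • s' i = s' i} =
        Nat.card {t : stabilizer G s // orderOf t = 2} := by
      intro s'
      obtain ⟨g, hg⟩ := exists_map h3 s s'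
      have ho : ∀ x y : G, orderOf (y * x * y⁻¹) = orderOf x := by
        intro x y
        have := orderOf_injective (MulAut.conj y).toMonoidHom (MulAut.conj y).injective x
        simpa using this
      have hs1 : ∀ x ∈ stabilizer G s, ∀ i, (g * x * g⁻¹) • s' i = s' i := by
        intro x hx i
        rw [← hg, mul_smul, mul_smul, inv_smul_smul, (mem_stab_emb s _).1 hx]
      have hs2 : ∀ x : G, (∀ i, x • s' i = s' i) → g⁻¹ * x * g ∈ stabilizer G s := by
        intro x hx
        rw [mem_stab_emb]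
        intro i
        rw [mul_smul, mul_smul, hg, hx, ← hg, inv_smul_smul]
      have ho2 : ∀ x : G, orderOf (g⁻¹ * x * g) = orderOf x := by
        intro x
        have := ho x g⁻¹
        rwa [inv_inv] at this
      exact (Nat.card_congr (α := {t : stabilizer G s // orderOf t = 2})
        (β := {t : {t : G // orderOf t = 2} // ∀ i, (t : G) • s' i = s' i})
        { toFun := fun t => ⟨⟨g * t.1.1 * g⁻¹, by rw [ho, Subgroup.orderOf_coe]; exact t.2⟩, hs1 _ t.1.2⟩
          invFun := fun t => ⟨⟨g⁻¹ * t.1.1 * g, hs2 _ t.2⟩, by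
            rw [← Subgroup.orderOf_coe]
            exact (ho2 _).trans t.1.2⟩
          left_inv := fun t => by
            apply Subtype.ext
            apply Subtype.ext
            show g⁻¹ * (g * (t.1.1 : G) * g⁻¹) * g = t.1.1
            group
          right_inv := fun t => by
            apply Subtype.ext
            apply Subtype.ext
            show g * (g⁻¹ * (t.1.1 : G) * g) * g⁻¹ = t.1.1
            group }).symm
    rw [Finset.sum_congr rfl (fun s' _ => h4 s'), Finset.sum_const, Finset.card_univ, smul_eq_mul,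
      Fintype.card_embedding_eq, Fintype.card_fin, ← Nat.card_eq_fintype_card]
  rw [← h1, h2]

end count

section eleven

variable [Finite G] [Finite Ω]

theorem mod_fix {p : ℕ} (hp : p.Prime) {y : G} (hyp : orderOf y = p) :
    Nat.card Ω ≡ ({c : Ω | y • c = c} : Set Ω).ncard [MOD p] := by
  have := Fact.mk hp
  have h1 : IsPGroup p (Subgroup.zpowers y) := IsPGroup.of_card (n := 1) (by
    rw [Nat.card_zpowers, hyp, pow_one])
  have h2 := h1.card_modEq_card_fixedPoints Ω
  have h3 : fixedPoints (Subgroup.zpowers y) Ω = {c : Ω | y • c = c} := by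
    ext c
    constructor
    · intro h
      exact h ⟨y, Subgroup.mem_zpowers y⟩
    · rintro h ⟨g, hg⟩
      obtain ⟨k, rfl⟩ := Subgroup.mem_zpowers_iff.1 hg
      have h4 : y ∈ stabilizer G c := h
      exact (Subgroup.zpow_mem _ h4 k : y ^ k ∈ stabilizer G c)
  rw [h3, Nat.card_coe_set_eq] at h2
  exact h2

theorem ncard_fix_conj (g t : G) : ({c : Ω | (g * t * g⁻¹) • c = c} : Set Ω).ncard =
    ({c : Ω | t • c = c} : Set Ω).ncard := by
  have h1 : ({c : Ω | (g * t * g⁻¹) • c = c} : Set Ω) = (fun c => g • c) '' {c : Ω | t • c = c} := by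
    ext c
    constructor
    · intro h
      refine ⟨g⁻¹ • c, ?_, smul_inv_smul _ _⟩
      show t • g⁻¹ • c = g⁻¹ • c
      rw [eq_inv_smul_iff, smul_smul, smul_smul]
      exact h
    · rintro ⟨d, hd, rfl⟩
      have hd' : t • d = d := hd
      show (g * t * g⁻¹) • g • d = g • d
      rw [mul_smul, mul_smul, inv_smul_smul, hd']
  rw [h1, Set.ncard_image_of_injective _ (MulAction.injective g)]

/-- the number of involutions of `M₁₁` -/
theorem card_inv (hG : Cfsg.IsM11 G) : Nat.card {t : G // orderOf t = 2} = 165 := by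
  have := Fact.mk Nat.prime_two
  obtain ⟨u, hu⟩ := exists_prime_orderOf_dvd_card' (G := G) 2 (by rw [hG.2]; norm_num)
  have h1 := Cfsg.Agent.SporadicA.M11Facts.card_centralizer_two hG hu
  have h2 := Cfsg.Agent.Characters.CentralCharacter.index_centralizer_eq_card u
  have h3 := (Subgroup.centralizer ({u} : Set G)).index_mul_card
  rw [h1, hG.2, h2] at h3
  have h4 : Nat.card {x : G // IsConj u x} = Nat.card {t : G // orderOf t = 2} := by
    apply Nat.card_congr
    refine Equiv.subtypeEquivRight fun x => ⟨fun h => ?_, fun h => ?_⟩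
    · obtain ⟨c, rfl⟩ := isConj_iff.1 h
      have := orderOf_injective (MulAut.conj c).toMonoidHom (MulAut.conj c).injective u
      have h5 : orderOf (c * u * c⁻¹) = orderOf u := by simpa using this
      rw [h5, hu]
    · exact Cfsg.Agent.SporadicA.M11Facts.isConj_involutions hG hu h
  rw [← h4]
  omega

theorem ncard_fix_inv (hG : Cfsg.IsM11 G) {t u : G} (ht : orderOf t = 2) (hu : orderOf u = 2) :
    ({c : Ω | t • c = c} : Set Ω).ncard = ({c : Ω | u • c = c} : Set Ω).ncard := by
  obtain ⟨g, rfl⟩ := isConj_iff.1 (Cfsg.Agent.SporadicA.M11Facts.isConj_involutions hG hu ht)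
  exact ncard_fix_conj g u

/-- the data common to the degrees 11 and 12 -/
theorem exists_inv (hG : Cfsg.IsM11 G) (h3 : IsMultiplyPretransitive G Ω 3) (s : Fin 3 ↪ Ω)
    (h2 : 2 ∣ Nat.card (stabilizer G s)) :
    ∃ f : ℕ, 3 ≤ f ∧ Nat.card Ω ≡ f [MOD 2] ∧ (∀ t : G, orderOf t = 2 → ({c : Ω | t • c = c} : Set Ω).ncard = f) ∧
      165 * f.descFactorial 3 = (Nat.card Ω).descFactorial 3 * Nat.card {t : stabilizer G s // orderOf t = 2} ∧
      ∃ t ∈ stabilizer G s, orderOf t = 2 := by
  have := Fact.mk Nat.prime_two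
  obtain ⟨t, ht⟩ := exists_prime_orderOf_dvd_card' (G := stabilizer G s) 2 h2
  have ht' : orderOf (t : G) = 2 := by rw [← ht]; exact Subgroup.orderOf_coe t
  have hf : ∀ u : G, orderOf u = 2 → ({c : Ω | u • c = c} : Set Ω).ncard = ({c : Ω | (t : G) • c = c} : Set Ω).ncard :=
    fun u hu => ncard_fix_inv hG hu ht'
  refine ⟨_, ?_, mod_fix Nat.prime_two ht', hf, ?_, t, t.2, ht'⟩
  · have h4 : Set.range s ⊆ {c : Ω | (t : G) • c = c} := by
      rintro _ ⟨i, rfl⟩
      exact (mem_stab_emb s _).1 t.2 i
    have h5 := Set.ncard_le_ncard h4 (Set.toFinite _)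
    have h6 : (Set.range s).ncard = 3 := by
      rw [← Set.image_univ, Set.ncard_image_of_injective _ s.injective, Set.ncard_univ]
      simp
    omega
  · rw [← card_inv hG]
    exact count_inv h3 s hf

theorem card_inv_le (N : Subgroup G) : Nat.card {t : N // orderOf t = 2} + 1 ≤ Nat.card N := by
  classical
  have : Fintype G := Fintype.ofFinite G
  have h1 : ({t : N | orderOf t = 2} : Set N).ncard + 1 ≤ Nat.card N := by
    have h2 : ({t : N | orderOf t = 2} : Set N) ⊆ {1}ᶜ := by
      intro t ht h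
      rw [Set.mem_singleton_iff] at h
      subst h
      have : orderOf (1 : N) = 2 := ht
      rw [orderOf_one] at this
      omega
    have h3 := Set.ncard_le_ncard h2 (Set.toFinite _)
    rw [Set.ncard_compl, Set.ncard_singleton] at h3
    have h4 : 0 < Nat.card N := Nat.card_pos
    omega
  rw [← Nat.card_coe_set_eq] at h1
  exact h1

/-- **`M₁₁` of degree 11.** -/
theorem m11_11 [FaithfulSMul G Ω] (hG : Cfsg.IsM11 G) (h3 : IsMultiplyPretransitive G Ω 3) (hn : Nat.card Ω = 11)
    {r : ℕ} (hr : Half G Ω r) : Concl G Ω := by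
  obtain ⟨s, b, hb⟩ := exists_tri (Ω := Ω) (by omega)
  have h1 := card_eq_descFactorial h3 s
  have h0 : Nat.descFactorial 11 3 = 990 := by simp [Nat.descFactorial]
  rw [hn, h0, hG.2] at h1
  have h8 : Nat.card (stabilizer G s) = 8 := by omega
  obtain ⟨f, f3, fm, hf, hcount, -⟩ := exists_inv hG h3 s (by rw [h8]; norm_num)
  have h9 := card_inv_le (stabilizer G s)
  rw [h8] at h9
  rw [hn, h0] at hcount
  rw [hn, Nat.ModEq] at fm
  have hf3 : f = 3 := by
    by_contra hne
    have h5 : 5 ≤ f := by omega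
    have h6 : Nat.descFactorial 5 3 ≤ f.descFactorial 3 := Nat.descFactorial_le 3 h5
    have h7 : Nat.descFactorial 5 3 = 60 := by simp [Nat.descFactorial]
    rw [h7] at h6
    omega
  subst hf3
  -- the stabiliser of a fourth point is trivial
  have hreg : stabilizer (stabilizer G s) b = ⊥ := by
    by_contra hne
    obtain ⟨⟨g, hg⟩, hg1⟩ := Subgroup.ne_bot_iff_exists_ne_one.1 hne
    have h10 : Nat.card (stabilizer (stabilizer G s) b) ∣ 8 := by
      rw [← h8]; exact Subgroup.card_subgroup_dvd_card _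
    have h11 : 2 ∣ Nat.card (stabilizer (stabilizer G s) b) := by
      rcases (Nat.dvd_prime_pow Nat.prime_two).1 (show _ ∣ 2 ^ 3 from h10) with ⟨k, -, hk⟩
      rcases Nat.eq_zero_or_pos k with h12 | h12
      · rw [h12, pow_zero, Subgroup.card_eq_one] at hk
        exact absurd hk hne
      · rw [hk]
        exact dvd_pow_self 2 (by omega)
    have := Fact.mk Nat.prime_two
    obtain ⟨t, ht⟩ := exists_prime_orderOf_dvd_card' 2 h11
    have ht' : orderOf ((t : stabilizer G s) : G) = 2 := by
      rw [← ht, Subgroup.orderOf_coe, Subgroup.orderOf_coe]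
    have h12 := hf _ ht'
    have h13 : insert b (Set.range s) ⊆ {c : Ω | ((t : stabilizer G s) : G) • c = c} := by
      rintro x (rfl | ⟨i, rfl⟩)
      · exact t.2
      · exact (mem_stab_emb s _).1 (t : stabilizer G s).2 i
    have h14 := Set.ncard_le_ncard h13 (Set.toFinite _)
    rw [Set.ncard_insert_of_notMem hb, h12] at h14
    have h6 : (Set.range s).ncard = 3 := by
      rw [← Set.image_univ, Set.ncard_image_of_injective _ s.injective, Set.ncard_univ]
      simp
    omega
  apply concl_of (by omega) h3 hr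
  right
  rw [hn, ← hr s b hb, Nat.card_coe_set_eq, ← MulAction.index_stabilizer, hreg, Subgroup.index_bot, h8]

/-- **`M₁₁` of degree 12.** -/
theorem m11_12 [FaithfulSMul G Ω] (hG : Cfsg.IsM11 G) (h3 : IsMultiplyPretransitive G Ω 3) (hn : Nat.card Ω = 12)
    {r : ℕ} (hr : Half G Ω r) : Concl G Ω := by
  obtain ⟨s, b, hb, hrn, hrd, -⟩ := exists_stab (Ω := Ω) (by omega) h3 hr
  have h1 := card_eq_descFactorial h3 s
  have h0 : Nat.descFactorial 12 3 = 1320 := by simp [Nat.descFactorial]
  rw [hn, h0, hG.2] at h1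
  have h8 : Nat.card (stabilizer G s) = 6 := by omega
  obtain ⟨f, f3, fm, hf, hcount, t, hts, ht⟩ := exists_inv hG h3 s (by rw [h8]; norm_num)
  have h9 := card_inv_le (stabilizer G s)
  rw [h8] at h9
  rw [hn, h0] at hcount
  rw [hn, Nat.ModEq] at fm
  have hf4 : f = 4 := by
    by_contra hne
    have h5 : 6 ≤ f := by omega
    have h6 : Nat.descFactorial 6 3 ≤ f.descFactorial 3 := Nat.descFactorial_le 3 h5
    have h7 : Nat.descFactorial 6 3 = 120 := by simp [Nat.descFactorial]
    rw [h7] at h6
    omega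
  rw [hn] at hrn
  rw [h8] at hrd
  apply concl_of (by omega) h3 hr
  left
  by_contra hr1
  have hr3 : r = 3 := by
    have h10 : r ∣ Nat.gcd 9 6 := Nat.dvd_gcd hrn hrd
    have h11 : r ∣ 3 := h10
    rcases (Nat.dvd_prime Nat.prime_three).1 h11 with h | h
    · exact absurd h hr1
    · exact h
  subst hr3
  have h2t : ∀ c : Ω, c ∉ Set.range s → ∃ d ∈ orbit (stabilizer G s) c, t • d = d := by
    intro c hc
    have := Fact.mk Nat.prime_two
    obtain ⟨d, hd, hd'⟩ := Cfsg.Agent.H392.HalfTrans.exists_fixed_in_orbit (p := 2) (stabilizer G s)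
      (Subgroup.zpowers t) (by rw [Subgroup.zpowers_le]; exact hts)
      (IsPGroup.of_card (n := 1) (by rw [Nat.card_zpowers, ht, pow_one])) c (by rw [hr s c hc]; norm_num)
    exact ⟨d, hd, hd' t (Subgroup.mem_zpowers t)⟩
  obtain ⟨d, hd, hd'⟩ := h2t b hb
  -- a point outside of the orbit of `b`
  obtain ⟨c, hc, hcb⟩ : ∃ c, c ∉ Set.range s ∧ c ∉ orbit (stabilizer G s) b := by
    by_contra hcon
    push Not at hcon
    have h10 : ((Set.range s)ᶜ : Set Ω) ⊆ orbit (stabilizer G s) b := fun x hx => hcon x hx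
    have h11 := Set.ncard_le_ncard h10 (Set.toFinite _)
    rw [← Nat.card_coe_set_eq, ← Nat.card_coe_set_eq, card_compl_range, hn, hr s b hb] at h11
    omega
  obtain ⟨e, he, he'⟩ := h2t c hc
  have hdb := orbit_subset_compl s hb hd
  have hec := orbit_subset_compl s hc he
  have hde : d ≠ e := by
    rintro rfl
    apply hcb
    rw [← orbit_eq_iff.2 hd, orbit_eq_iff.2 he]
    exact mem_orbit_self c
  have h13 : insert e (insert d (Set.range s)) ⊆ {c : Ω | t • c = c} := by
    rintro x (rfl | rfl | ⟨i, rfl⟩)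
    · exact he'
    · exact hd'
    · exact (mem_stab_emb s _).1 hts i
  have h14 := Set.ncard_le_ncard h13 (Set.toFinite _)
  rw [Set.ncard_insert_of_notMem, Set.ncard_insert_of_notMem hdb, hf t ht] at h14
  · have h6 : (Set.range s).ncard = 3 := by
      rw [← Set.image_univ, Set.ncard_image_of_injective _ s.injective, Set.ncard_univ]
      simp
    omega
  · rintro (h | h)
    · exact hde h.symm
    · exact hec h

end eleven

end Cfsg.Agent.H488.ThreeHalf
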