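import Cfsg.Agent.H488.LineAut
import Cfsg.Agent.H384.TwoCyc
import Cfsg.Agent.LieClassical.FieldTransfer

/-!
# `(3+1/2)`-transitive groups: the row `PSL₂(q)`
-/

set_option autoImplicit false
set_option linter.unusedSectionVars false

namespace Cfsg.Agent.H488.ThreeHalf

open MulAction Matrix Cfsg.Agent.H392.MultTrans Cfsg.Agent.H384.TwoTrans

universe u v

/-- the third conclusion -/
def Third (G : Type u) (Ω : Type v) [Group G] [MulAction G Ω] : Prop :=
  ∃ p : ℕ, ∃ _ : p.Prime, p ≠ 2 ∧ Nat.card Ω = 2 ^ p + 1 ∧ ∃ N : Subgroup G, N.Normal ∧ N.index = p ∧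
    ∀ (K : Type) [Field K] [Fintype K], Fintype.card K = 2 ^ p → Nonempty (↥N ≃* ProjectiveSpecialLinearGroup (Fin 2) K)

section field

variable {F : Type*} [Field F] [Finite F] [Algebra (ZMod 2) F]

/-- an automorphism whose fixed points are `0, 1` generates the Galois group -/
theorem orderOf_of_fix (τ : F ≃ₐ[ZMod 2] F) (h : ∀ x, τ x = x → x = 0 ∨ x = 1) :
    orderOf τ = Module.finrank (ZMod 2) F := by
  have h1 := IntermediateField.finrank_fixedField_eq_card (F := ZMod 2) (E := F) (Subgroup.zpowers τ)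
  rw [Nat.card_zpowers] at h1
  rw [← h1]
  have h2 : IntermediateField.fixedField (F := ZMod 2) (E := F) (Subgroup.zpowers τ) = ⊥ := by
    rw [eq_bot_iff]
    intro x hx
    rw [IntermediateField.mem_fixedField_iff] at hx
    rcases h x (hx τ (Subgroup.mem_zpowers τ)) with rfl | rfl
    · exact zero_mem _
    · exact one_mem _
  rw [h2]
  exact IntermediateField.finrank_bot'

/-- the automorphisms are determined by their group: a nontrivial group whose nontrivial elements have order `f` -/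
theorem prime_of_order {C : Type*} [Group C] [Finite C] {f : ℕ} (hC : ∀ g : C, g ≠ 1 → orderOf g = f) (hne : ∃ g : C, g ≠ 1)
    (hd : Nat.card C ∣ f) : f.Prime ∧ Nat.card C = f := by
  obtain ⟨g, hg⟩ := hne
  have h1 := hC g hg
  have h2 : f ≠ 1 := by
    rintro rfl
    exact hg (orderOf_eq_one_iff.1 h1)
  have hf0 : f ≠ 0 := by
    rintro rfl
    exact (orderOf_pos g).ne' h1
  have hp := Nat.minFac_prime h2
  have h3 : orderOf (g ^ (f / f.minFac)) = f.minFac := by
    rw [orderOf_pow' g (Nat.div_pos (Nat.minFac_le (Nat.pos_of_ne_zero hf0)) hp.pos).ne', h1,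
      Nat.gcd_eq_right (Nat.div_dvd_of_dvd (Nat.minFac_dvd f)), Nat.div_div_self (Nat.minFac_dvd f) hf0]
  have h4 := hC (g ^ (f / f.minFac)) (by
    intro h
    rw [h, orderOf_one] at h3
    exact hp.one_lt.ne h3)
  have h5 : f.Prime := by
    rw [← h4, h3]
    exact hp
  refine ⟨h5, ?_⟩
  rcases (Nat.dvd_prime h5).1 hd with h6 | h6
  · exfalso
    rw [Nat.card_eq_one_iff_unique] at h6
    exact hg (h6.1.elim g 1)
  · exact h6

end field

variable {G : Type u} {Ω : Type v} [Group G] [MulAction G Ω] {T : Subgroup G} {F : Type*} [Field F]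

namespace Line

variable (Λ : Line Ω T F)

/-- the three points -/
def three : Fin 3 ↪ Ω := tri Λ.inf (Λ.pt 0) (Λ.pt 1) (Λ.pt_ne 0).symm (Λ.pt_ne 1).symm
  (fun h => zero_ne_one (Λ.pt_inj h))

theorem mem_three {g : G} (hg : g ∈ stabilizer G Λ.three) :
    g • Λ.inf = Λ.inf ∧ g • Λ.pt 0 = Λ.pt 0 ∧ g • Λ.pt 1 = Λ.pt 1 := by
  rw [mem_stab_emb] at hg
  exact ⟨hg 0, hg 1, hg 2⟩

theorem not_mem_three {b : F} (h0 : b ≠ 0) (h1 : b ≠ 1) : Λ.pt b ∉ Set.range Λ.three := by
  rintro ⟨i, hi⟩
  fin_cases i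
  · exact Λ.pt_ne b hi.symm
  · exact h0 (Λ.pt_inj hi.symm)
  · exact h1 (Λ.pt_inj hi.symm)

/-- characteristic two: the action by field automorphisms -/
theorem exists_psi [FaithfulSMul G Ω] [T.Normal] [Finite F] [CharP F 2] [Algebra (ZMod 2) F] :
    ∃ ψ : stabilizer G Λ.three →* (F ≃ₐ[ZMod 2] F), ∀ (g : stabilizer G Λ.three) (x : F), (g : G) • Λ.pt x = Λ.pt (ψ g x) := by
  have := Fact.mk Nat.prime_two
  have h := fun g : stabilizer G Λ.three => Λ.exists_map (p := 2) (Λ.mem_three g.2).1 (Λ.mem_three g.2).2.1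
    (Λ.mem_three g.2).2.2
  choose f hf hadd hone hsq using h
  have hmul : ∀ g x y, f g (x * y) = f g x * f g y := by
    intro g x y
    obtain ⟨s, hs⟩ := FiniteField.isSquare_of_char_two (ringChar.eq F 2) x
    have := hsq g s y
    rwa [pow_two, ← hs] at this
  have hzero : ∀ g, f g 0 = 0 := by
    intro g
    have := hadd g 0 0
    rw [add_zero] at this
    exact left_eq_add.1 this
  let R : stabilizer G Λ.three → (F →+* F) := fun g =>
    { toFun := f g
      map_one' := hone g
      map_mul' := hmul g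
      map_zero' := hzero g
      map_add' := hadd g }
  let Alg : stabilizer G Λ.three → (F →ₐ[ZMod 2] F) := fun g =>
    { R g with
      commutes' := fun r => by
        have := RingHom.congr_fun (RingHom.ext_zmod ((R g).comp (algebraMap (ZMod 2) F)) (algebraMap (ZMod 2) F)) r
        exact this }
  have hbij : ∀ g, Function.Bijective (Alg g) := fun g =>
    Finite.injective_iff_bijective.1 (R g).injective
  refine ⟨{ toFun := fun g => AlgEquiv.ofBijective (Alg g) (hbij g), map_one' := ?_, map_mul' := ?_ }, hf⟩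
  · ext x
    show f 1 x = x
    apply Λ.pt_inj
    rw [← hf]
    exact one_smul _ _
  · intro g k
    ext x
    show f (g * k) x = f g (f k x)
    apply Λ.pt_inj
    rw [← hf, ← hf, ← hf]
    exact mul_smul (g : G) (k : G) _

end Line

section main

variable [Finite G] [Finite Ω] [FaithfulSMul G Ω] {r : ℕ}

theorem card_of_deg {q n : ℕ} (hq : 2 ≤ q) (hn : n * (q - 1) = q ^ 2 - 1) : n = q + 1 := by
  obtain ⟨x, rfl⟩ : ∃ x, q = x + 1 := ⟨q - 1, by omega⟩
  have h1 : (x + 1) ^ 2 - 1 = (x + 1 + 1) * x := by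
    have : (x + 1) ^ 2 = (x + 1 + 1) * x + 1 := by ring
    omega
  rw [h1, Nat.add_sub_cancel] at hn
  exact Nat.eq_of_mul_eq_mul_right (by omega) hn

/-- **The row `PSL₂(q)`.** -/
theorem psl_two (A : AS G Ω T) (h3 : IsMultiplyPretransitive G Ω 3) (hr : Half G Ω r) [Fintype F]
    (hq : 4 ≤ Fintype.card F) (e : Nonempty (T ≃* ProjectiveSpecialLinearGroup (Fin 2) F))
    (hn : Nat.card Ω * (Fintype.card F - 1) = Fintype.card F ^ 2 - 1) : Concl G Ω ∨ Third G Ω := by
  have := A.normal
  obtain ⟨Λ⟩ := exists_line_of A e hn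
  have hΩ := card_of_deg (by omega) hn
  obtain ⟨p, hch⟩ := CharP.exists F
  obtain ⟨f, hp, hf⟩ := FiniteField.card F p
  have := Fact.mk hp
  by_cases hp2 : p = 2
  swap
  · -- odd characteristic: `2` is fixed
    left
    have h20 : (2 : F) ≠ 0 := by
      intro h
      have h1 : (p : ℕ) ∣ 2 := (CharP.cast_eq_zero_iff F p 2).1 (by exact_mod_cast h)
      exact hp2 ((Nat.prime_dvd_prime_iff_eq hp Nat.prime_two).1 h1)
    have h21 : (2 : F) ≠ 1 := by
      intro h
      have : (1 : F) = 0 := by linear_combination h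
      exact one_ne_zero this
    refine concl_of (by omega) h3 hr (Or.inl ?_)
    rw [← hr Λ.three (Λ.pt 2) (Λ.not_mem_three h20 h21)]
    have h4 : orbit (stabilizer G Λ.three) (Λ.pt 2) = {Λ.pt 2} := by
      ext ω
      constructor
      · rintro ⟨g, rfl⟩
        obtain ⟨h5, h6, h7⟩ := Λ.mem_three g.2
        obtain ⟨φ, hφ, hadd, hone, -⟩ := Λ.exists_map (p := p) h5 h6 h7
        show (g : G) • Λ.pt 2 = Λ.pt 2
        rw [hφ]
        congr 1
        have : (2 : F) = 1 + 1 := by norm_num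
        rw [this, hadd, hone]
      · rintro rfl
        exact mem_orbit_self _
    rw [h4]
    simp
  subst hp2
  let _ : Algebra (ZMod 2) F := ZMod.algebra F 2
  set C := stabilizer G Λ.three with hC
  obtain ⟨ψ, hψ⟩ : ∃ ψ : C →* (F ≃ₐ[ZMod 2] F), ∀ (g : C) (x : F), (g : G) • Λ.pt x = Λ.pt (ψ g x) := Λ.exists_psi
  have hfr : Module.finrank (ZMod 2) F = f := by
    have h5 : Fintype.card F = 2 ^ Module.finrank (ZMod 2) F := by
      have h6 := Module.card_eq_pow_finrank (K := ZMod 2) (V := F)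
      rwa [ZMod.card] at h6
    rw [hf] at h5
    exact (Nat.pow_right_injective (le_refl 2) h5).symm
  have hinj : Function.Injective ψ := by
    rw [injective_iff_map_eq_one]
    intro g hg
    apply Subtype.ext
    apply FaithfulSMul.eq_of_smul_eq_smul (α := Ω)
    intro ω
    rw [Subgroup.coe_one, one_smul]
    by_cases hω : ω = Λ.inf
    · rw [hω]; exact (Λ.mem_three g.2).1
    · obtain ⟨x, rfl⟩ := Λ.pt_surj ω hω
      rw [hψ, hg]
      rfl
  have hcyc : IsCyclic C := isCyclic_of_injective ψ hinj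
  -- stabilisers of further points are all equal
  have hstab : ∀ b : F, b ≠ 0 → b ≠ 1 → r * Nat.card (stabilizer C (Λ.pt b)) = Nat.card C := by
    intro b h0 h1
    rw [← hr Λ.three (Λ.pt b) (Λ.not_mem_three h0 h1)]
    have h5 := (stabilizer C (Λ.pt b)).index_mul_card
    rw [MulAction.index_stabilizer, ← Nat.card_coe_set_eq] at h5
    exact h5
  have hsemi : ∀ b : F, b ≠ 0 → b ≠ 1 → stabilizer C (Λ.pt b) = ⊥ := by
    intro b h0 h1
    rw [eq_bot_iff]
    intro g hg
    rw [Subgroup.mem_bot]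
    apply hinj
    rw [map_one]
    ext x
    show ψ g x = x
    by_cases hx0 : x = 0
    · rw [hx0, map_zero]
    by_cases hx1 : x = 1
    · rw [hx1, map_one]
    have h2 : stabilizer C (Λ.pt b) = stabilizer C (Λ.pt x) := by
      apply Cfsg.Agent.H384.TwoCyc.eq_of_card
      have h4 := hstab b h0 h1
      have h5 := hstab x hx0 hx1
      have hr0 : 0 < r := by
        rcases Nat.eq_zero_or_pos r with h6 | h6
        · rw [h6, zero_mul] at h4
          exact absurd h4.symm Nat.card_pos.ne'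
        · exact h6
      exact Nat.eq_of_mul_eq_mul_left hr0 (h4.trans h5.symm)
    rw [h2] at hg
    have h4 : (g : G) • Λ.pt x = Λ.pt x := hg
    rw [hψ] at h4
    exact Λ.pt_inj h4
  obtain ⟨b, hb0, hb1⟩ : ∃ b : F, b ≠ 0 ∧ b ≠ 1 := by
    classical
    by_contra hcon
    push Not at hcon
    have h5 : (Finset.univ : Finset F) ⊆ {0, 1} := by
      intro x _
      rw [Finset.mem_insert, Finset.mem_singleton]
      by_cases hx : x = 0
      · exact Or.inl hx
      · exact Or.inr (hcon x hx)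
    have h6 := Finset.card_le_card h5
    rw [Finset.card_univ] at h6
    have h7 : ({0, 1} : Finset F).card ≤ 2 := Finset.card_le_two
    omega
  have hrC : r = Nat.card C := by
    have h5 := hstab b hb0 hb1
    rwa [hsemi b hb0 hb1, Subgroup.card_bot, mul_one] at h5
  by_cases hne : ∃ g : C, g ≠ 1
  swap
  · left
    refine concl_of (by omega) h3 hr (Or.inl ?_)
    rw [hrC, Nat.card_eq_one_iff_unique]
    push Not at hne
    exact ⟨⟨fun x y => (hne x).trans (hne y).symm⟩, ⟨1⟩⟩
  have hord : ∀ g : C, g ≠ 1 → orderOf g = f := by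
    intro g hg
    rw [← orderOf_injective ψ hinj g, ← hfr]
    apply orderOf_of_fix
    intro x hx
    by_contra hcon
    push Not at hcon
    apply hg
    have h5 : g ∈ stabilizer C (Λ.pt x) := by
      show (g : G) • Λ.pt x = Λ.pt x
      rw [hψ, hx]
    rwa [hsemi x hcon.1 hcon.2, Subgroup.mem_bot] at h5
  have hdvd : Nat.card C ∣ f := by
    rw [← hfr, ← IsGalois.card_aut_eq_finrank]
    exact Subgroup.card_dvd_of_injective ψ hinj
  obtain ⟨hfp, hCf⟩ := prime_of_order hord hne hdvd
  by_cases hf2 : (f : ℕ) = 2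
  · left
    refine concl_of (by omega) h3 hr (Or.inr ?_)
    rw [hrC, hCf, hΩ, hf, hf2]
    norm_num
  right
  refine ⟨f, hfp, hf2, by rw [hΩ, hf], T, A.normal, ?_, ?_⟩
  · obtain ⟨e⟩ := e
    have hT := Cfsg.Agent.ClassicalGeometry.PSL2Basic.card_PSL2_even F (by
      rw [hf]
      exact Nat.even_pow.2 ⟨even_two, f.2.ne'⟩)
    rw [← Nat.card_congr e.toEquiv] at hT
    have hG := card_eq_descFactorial h3 Λ.three
    rw [← hC, hCf, hΩ, Nat.descFactorial_succ, Nat.descFactorial_succ, Nat.descFactorial_one] at hG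
    have h5 := T.index_mul_card
    rw [hT, hG] at h5
    have h6 : 0 < Fintype.card F * (Fintype.card F ^ 2 - 1) := by
      rw [← hT]; exact Nat.card_pos
    apply Nat.eq_of_mul_eq_mul_right h6
    rw [h5]
    obtain ⟨x, hx⟩ : ∃ x, Fintype.card F = x + 1 := ⟨Fintype.card F - 1, by omega⟩
    rw [hx]
    have h7 : (x + 1) ^ 2 - 1 = x * (x + 2) := by
      have : (x + 1) ^ 2 = x * (x + 2) + 1 := by ring
      omega
    have h8 : x + 1 + 1 - 1 = x + 1 := by omega
    have h9 : x + 1 + 1 - 2 = x := by omega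
    rw [h7, h8, h9]
    ring
  · intro K _ _ hK
    obtain ⟨e⟩ := e
    exact ⟨e.trans (Cfsg.Agent.LieClassical.FieldTransfer.pslCongr (FiniteField.ringEquivOfCardEq (K := F) (K' := K) (by rw [hf, hK])))⟩

end main

end Cfsg.Agent.H488.ThreeHalf
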