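import Cfsg.Agent.H488.ThreeHalf
import Cfsg.Agent.NotCT.Orders
import Cfsg.Agent.ClassicalGeometry.PSL2Basic
import Cfsg.Agent.H278.ThompsonSurj
import Cfsg.Agent.H836.Sylow

/-!
# `(3+1/2)`-transitive groups: rows of the list of 2-transitive groups settled by numbers
-/

set_option autoImplicit false
set_option linter.unusedSectionVars false

namespace Cfsg.Agent.H488.ThreeHalf

open MulAction Cfsg.Agent.H392.MultTrans Cfsg.Agent.H384.TwoTrans

universe u v

variable {G : Type u} {Ω : Type v} [Group G] [MulAction G Ω] {T : Subgroup G}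

/-- the conclusion: 4-transitive or sharply 3-transitive -/
def Concl (G : Type u) (Ω : Type v) [Group G] [MulAction G Ω] : Prop :=
  IsMultiplyPretransitive G Ω 4 ∨ ∀ s : Fin 3 ↪ Ω, stabilizer G s = ⊥

/-- all the orbits of the stabiliser of three points on the other points have length `r` -/
def Half (G : Type u) (Ω : Type v) [Group G] [MulAction G Ω] (r : ℕ) : Prop :=
  ∀ (s : Fin 3 ↪ Ω) (b : Ω), b ∉ Set.range s → Nat.card (orbit (stabilizer G s) b) = r

theorem a7 (A : AS G Ω T) (h3 : IsMultiplyPretransitive G Ω 3) (hn : Nat.card Ω = 15)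
    (hT : Nat.card T = 2520) : False := by
  obtain ⟨a, b, hab, l, h1, h2, h4, h5, h6⟩ := exists_len A h3
  rw [hn, hT] at h5
  rw [hn] at h2
  have h7 : Nat.card (TT T a b) = 12 := by omega
  rw [h7] at h4 h6
  have h8 : l ∣ Nat.gcd 13 12 := Nat.dvd_gcd h2 h4
  have h9 : l = 1 := Nat.dvd_one.1 (by simpa using h8)
  exact absurd (h6 h9) (by norm_num)

theorem psl2_8 (A : AS G Ω T) (h3 : IsMultiplyPretransitive G Ω 3) (hn : Nat.card Ω = 28)
    (hT : Nat.card T = 504) : False := by
  obtain ⟨a, b, hab, l, h1, h2, h4, h5, h6⟩ := exists_len A h3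
  rw [hn, hT] at h5
  omega

theorem co3 (A : AS G Ω T) (h3 : IsMultiplyPretransitive G Ω 3) (hn : Nat.card Ω = 276)
    (hT : Nat.card T = 495766656000) : False := by
  obtain ⟨a, b, hab, l, h1, h2, h4, h5, h6⟩ := exists_len A h3
  rw [hn, hT] at h5
  rw [hn] at h2
  have h7 : Nat.card (TT T a b) = 6531840 := by omega
  rw [h7] at h4 h6
  have h8 : l ∣ Nat.gcd 274 6531840 := Nat.dvd_gcd h2 h4
  have h9 : l ≤ 2 := Nat.le_of_dvd (by norm_num) (by simpa using h8)
  have h10 : ∀ c : Ω, Nat.card (orbit (TT T a b) c) ≤ 2 := by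
    intro c
    by_cases hc : c = a
    · rw [hc, TT_orbit_a.1]; norm_num
    by_cases hc' : c = b
    · rw [hc', TT_orbit_a.2]; norm_num
    · rw [h1 c ⟨hc, hc'⟩]; exact h9
  have h11 := card_pow_two A h10 Nat.prime_three (by rw [h7]; norm_num)
  exact absurd h11 (by norm_num)

section half

variable [Finite G] [Finite Ω] [FaithfulSMul G Ω] {r : ℕ}

theorem exists_tri (h5 : 4 ≤ Nat.card Ω) : ∃ (s : Fin 3 ↪ Ω) (b : Ω), b ∉ Set.range s := by
  classical
  have : Fintype Ω := Fintype.ofFinite Ω
  obtain ⟨s⟩ : Nonempty (Fin 3 ↪ Ω) := by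
    apply Function.Embedding.nonempty_of_card_le
    rw [Fintype.card_fin, ← Nat.card_eq_fintype_card]; omega
  refine ⟨s, ?_⟩
  by_contra hne
  push Not at hne
  have h1 := card_compl_range s
  have h2 : ((Set.range s)ᶜ : Set Ω) = ∅ := by
    ext x
    simp only [Set.mem_compl_iff, Set.mem_empty_iff_false, iff_false, not_not]
    exact hne x
  rw [h2, Nat.card_coe_set_eq, Set.ncard_empty] at h1
  omega

/-- `r = 1` or `r = n - 3` -/
theorem concl_of (h5 : 4 ≤ Nat.card Ω) (h3 : IsMultiplyPretransitive G Ω 3) (hr : Half G Ω r)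
    (h : r = 1 ∨ r = Nat.card Ω - 3) : Concl G Ω := by
  rcases h with rfl | h
  · right
    intro s
    exact stab_eq_bot_of_card_orbit_one s (hr s)
  · left
    obtain ⟨s, b, hb⟩ := exists_tri h5
    exact succ_of_orbit_full h3 s hb ((hr s b hb).trans h)

theorem r_dvd (h5 : 4 ≤ Nat.card Ω) (hr : Half G Ω r) : r ∣ Nat.card Ω - 3 := by
  obtain ⟨s, b, hb⟩ := exists_tri h5
  exact orbit_dvd s (hr s)

/-- the numbers -/
theorem exists_stab (h5 : 4 ≤ Nat.card Ω) (h3 : IsMultiplyPretransitive G Ω 3) (hr : Half G Ω r) :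
    ∃ (s : Fin 3 ↪ Ω) (b : Ω), b ∉ Set.range s ∧ r ∣ Nat.card Ω - 3 ∧ r ∣ Nat.card (stabilizer G s) ∧
      Nat.card G = Nat.card Ω * (Nat.card Ω - 1) * (Nat.card Ω - 2) * Nat.card (stabilizer G s) := by
  obtain ⟨s, b, hb⟩ := exists_tri h5
  refine ⟨s, b, hb, r_dvd h5 hr, ?_, ?_⟩
  · rw [← hr s b hb]
    exact card_orbit_dvd_card _ _
  · rw [card_eq_descFactorial h3 s]
    congr 1
    rw [Nat.descFactorial_succ, Nat.descFactorial_succ, Nat.descFactorial_one]
    ring

theorem m22 (hn : Nat.card Ω = 22) (h3 : IsMultiplyPretransitive G Ω 3) (hr : Half G Ω r) : Concl G Ω := by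
  have h1 := r_dvd (by omega) hr
  rw [hn] at h1
  apply concl_of (by omega) h3 hr
  rw [hn]
  exact (Nat.dvd_prime (by norm_num)).1 h1

/-- `G` contains the alternating group -/
theorem concl_of_alt [Fintype Ω] [DecidableEq Ω] (h5 : 5 ≤ Nat.card Ω)
    (hle : alternatingGroup Ω ≤ (toPermHom G Ω).range) : Concl G Ω := by
  have hnt : Nontrivial Ω := Finite.one_lt_card_iff_nontrivial.1 (by omega)
  have hrange : (toPermHom G Ω).range = ⊤ ∨ (toPermHom G Ω).range = alternatingGroup Ω := by
    have h1 : (toPermHom G Ω).range.index ∣ 2 := by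
      have h2 : (alternatingGroup Ω).index = 2 := alternatingGroup.index_eq_two
      rw [← h2]
      exact Subgroup.index_dvd_of_le hle
    rcases (Nat.dvd_prime Nat.prime_two).1 h1 with h2 | h2
    · left; exact Subgroup.index_eq_one.1 h2
    · right; exact Equiv.Perm.eq_alternatingGroup_of_index_eq_two h2
  rcases hrange with h | h
  · left; exact of_range_top h
  · by_cases h6 : 6 ≤ Nat.card Ω
    · left
      exact of_range_alt (by omega) h
    · right
      intro s
      exact stab_bot_of_alt h (by omega) s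

/-- `T` has index two in the symmetric group -/
theorem alt (h5 : 5 ≤ Nat.card Ω) (hT : Nat.card T * 2 = (Nat.card Ω).factorial) : Concl G Ω := by
  classical
  have : Fintype Ω := Fintype.ofFinite Ω
  have hnt : Nontrivial Ω := Finite.one_lt_card_iff_nontrivial.1 (by omega)
  set R : Subgroup (Equiv.Perm Ω) := T.map (toPermHom G Ω) with hR
  have hcard : Nat.card R = Nat.card T :=
    Nat.card_congr (Subgroup.equivMapOfInjective T _ MulAction.toPerm_injective).symm.toEquiv
  have hidx : R.index = 2 := by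
    have h1 := R.index_mul_card
    rw [hcard, Nat.card_perm, ← hT, mul_comm] at h1
    exact Nat.eq_of_mul_eq_mul_left Nat.card_pos h1
  have hle : alternatingGroup Ω ≤ (toPermHom G Ω).range := by
    rw [← Equiv.Perm.eq_alternatingGroup_of_index_eq_two hidx, hR]
    exact Subgroup.map_le_range _ _
  exact concl_of_alt h5 hle

/-! ### The Frattini argument -/

/-- the order of `G` divides `|N_G(P)| |T|` -/
theorem card_dvd_frattini [T.Normal] {q : ℕ} [Fact q.Prime] (P : Sylow q T) :
    Nat.card G ∣ Nat.card ↥(Subgroup.normalizer ((P : Subgroup T).map T.subtype : Set G)) * Nat.card T := by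
  have h1 := Sylow.normalizer_sup_eq_top P
  set N := Subgroup.normalizer ((P : Subgroup T).map T.subtype : Set G)
  have h2 := Cfsg.Agent.H278.ThompsonSurj.card_sup_mul (K := T) (H := N)
    (fun g _ => by rw [Subgroup.normalizer_eq_top]; trivial)
  rw [sup_comm, h1, Subgroup.card_top] at h2
  exact ⟨_, by rw [mul_comm (Nat.card N), ← h2]⟩

/-- a fixed point free element of prime order commuting with an element of prime order -/
theorem comm_fix {q p : ℕ} (hq : q.Prime) (hp : p.Prime) {x y : G} (hxy : x * y = y * x)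
    (hx : ∀ c : Ω, x • c ≠ c) (hxq : orderOf x = q) (hyp : orderOf y = p) :
    q ∣ ({c : Ω | y • c = c} : Set Ω).ncard ∧ Nat.card Ω ≡ ({c : Ω | y • c = c} : Set Ω).ncard [MOD p] ∧
      ({c : Ω | y • c = c} : Set Ω).ncard ≠ Nat.card Ω := by
  refine ⟨?_, ?_, ?_⟩
  · refine dvd_ncard_of_orbits (Subgroup.zpowers x) _ ?_ ?_
    · intro g hg c hc
      obtain ⟨k, rfl⟩ := Subgroup.mem_zpowers_iff.1 hg
      show y • (x ^ k) • c = (x ^ k) • c
      have h1 : Commute y (x ^ k) := (Commute.zpow_right (show Commute y x from hxy.symm) k)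
      rw [smul_smul, h1.eq, mul_smul]
      congr 1
    · intro c _
      have h1 := card_orbit_dvd_card (Subgroup.zpowers x) c
      rw [Nat.card_zpowers, hxq] at h1
      rcases (Nat.dvd_prime hq).1 h1 with h2 | h2
      · exfalso
        rw [Nat.card_eq_one_iff_unique] at h2
        have h3 : (⟨x • c, ⟨⟨x, Subgroup.mem_zpowers x⟩, rfl⟩⟩ : orbit (Subgroup.zpowers x) c) =
            ⟨c, mem_orbit_self c⟩ := h2.1.elim _ _
        exact hx c (congrArg Subtype.val h3)
      · exact h2
  · have := Fact.mk hp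
    have h1 : IsPGroup p (Subgroup.zpowers y) := IsPGroup.of_card (n := 1) (by
      rw [Nat.card_zpowers, hyp, pow_one])
    have h2 := h1.card_modEq_card_fixedPoints Ω
    have h3 : fixedPoints (Subgroup.zpowers y) Ω = {c : Ω | y • c = c} := by
      ext c
      constructor
      · intro h
        exact h ⟨y, Subgroup.mem_zpowers y⟩
      · rintro h ⟨g, hg⟩
        obtain ⟨k, rfl⟩ := Subgroup.mem_zpowers_iff.1 hg
        have h4 : y ∈ stabilizer G c := h
        exact (Subgroup.zpow_mem _ h4 k : y ^ k ∈ stabilizer G c)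
    rw [h3, Nat.card_coe_set_eq] at h2
    exact h2
  · intro h
    have h1 : ({c : Ω | y • c = c} : Set Ω) = Set.univ := by
      apply Set.eq_of_subset_of_ncard_le (Set.subset_univ _)
      rw [Set.ncard_univ, h]
    have h2 : y = 1 := by
      apply FaithfulSMul.eq_of_smul_eq_smul (α := Ω)
      intro c
      rw [one_smul]
      have : c ∈ ({c : Ω | y • c = c} : Set Ω) := by rw [h1]; trivial
      exact this
    rw [h2, orderOf_one] at hyp
    exact hp.one_lt.ne hyp

/-- the common argument for `HS` of degree 176 and `PSL₂(11)` of degree 11 -/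
theorem exists_commuting (A : AS G Ω T) {q p : ℕ} (hq : q.Prime) (hp : p.Prime)
    (h1 : q ∣ Nat.card T) (h2 : ¬ q ^ 2 ∣ Nat.card T) (h3 : ¬ q ∣ Nat.card T / Nat.card Ω)
    (h4 : ¬ p ∣ q - 1) (h5 : ∀ m, Nat.card G ∣ m * Nat.card T → p ∣ m) :
    ∃ f : ℕ, f < Nat.card Ω ∧ q ∣ f ∧ Nat.card Ω ≡ f [MOD p] := by
  have := A.normal
  have := Fact.mk hq
  have := Fact.mk hp
  obtain ⟨P⟩ : Nonempty (Sylow q T) := inferInstance
  have hP : Nat.card P = q := by
    rw [P.card_eq_multiplicity]
    have h6 : (Nat.card T).factorization q = 1 := by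
      apply le_antisymm
      · by_contra hcon
        push Not at hcon
        exact h2 ((hq.pow_dvd_iff_le_factorization Nat.card_pos.ne').2 hcon)
      · exact (hq.dvd_iff_one_le_factorization Nat.card_pos.ne').1 h1
    rw [h6, pow_one]
  set R : Subgroup G := (P : Subgroup T).map T.subtype with hR
  have hRc : Nat.card R = q := by
    rw [← hP]
    exact Nat.card_congr (Subgroup.equivMapOfInjective _ _ T.subtype_injective).symm.toEquiv
  have h6 := h5 _ (card_dvd_frattini P)
  obtain ⟨k, hk, hk'⟩ := Cfsg.Agent.H836.Sylow.normalizer_centralizer hq hRc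
  rw [← hR, hk'] at h6
  have h7 : p ∣ Nat.card ↥(Subgroup.centralizer (R : Set G)) := by
    rcases hp.dvd_mul.1 h6 with h | h
    · exact h
    · exact absurd (h.trans hk) h4
  obtain ⟨y, hy⟩ := exists_prime_orderOf_dvd_card' p h7
  obtain ⟨x, hx⟩ := exists_prime_orderOf_dvd_card' (G := R) q (by rw [hRc])
  have hxT : (x : G) ∈ T := by
    obtain ⟨z, -, hz⟩ := x.2
    rw [← hz]
    exact z.2
  have hx' : orderOf (x : G) = q := by rw [← hx]; exact Subgroup.orderOf_coe x
  have hy' : orderOf (y : G) = p := by rw [← hy]; exact Subgroup.orderOf_coe y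
  have hfix : ∀ c : Ω, (x : G) • c ≠ c := by
    intro c hc
    apply h3
    have h8 := A.card_mul c
    have h9 : Nat.card T / Nat.card Ω = Nat.card (stabilizer T c) := by
      rw [← h8]
      exact Nat.mul_div_cancel_left _ (by have := A.five_le; omega)
    rw [h9]
    have h10 : (⟨x, hxT⟩ : T) ∈ stabilizer T c := hc
    have h11 : orderOf (⟨(⟨x, hxT⟩ : T), h10⟩ : stabilizer T c) = q := by
      rw [← hx', ← Subgroup.orderOf_coe, ← Subgroup.orderOf_coe]
    rw [← h11]
    exact orderOf_dvd_natCard _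
  obtain ⟨a1, a2, a3⟩ := comm_fix hq hp (x := (x : G)) (y := (y : G))
    ((Subgroup.mem_centralizer_iff.1 y.2) x x.2) hfix hx' hy'
  refine ⟨_, lt_of_le_of_ne ?_ a3, a1, a2⟩
  rw [← Set.ncard_univ]
  exact Set.ncard_le_ncard (Set.subset_univ _) (Set.toFinite _)

theorem hs (A : AS G Ω T) (h3 : IsMultiplyPretransitive G Ω 3) (hn : Nat.card Ω = 176)
    (hT : Nat.card T = 44352000) : False := by
  obtain ⟨s, b, hb⟩ := exists_tri (Ω := Ω) (by omega)
  have h1 := card_eq_descFactorial h3 s
  have h0 : Nat.descFactorial 176 3 = 176 * 175 * 174 := by simp [Nat.descFactorial]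
  rw [hn, h0] at h1
  obtain ⟨f, f1, f2, f3⟩ := exists_commuting A (q := 11) (p := 29) (by norm_num) (by norm_num)
    (by rw [hT]; norm_num) (by rw [hT]; norm_num) (by rw [hT, hn]; norm_num) (by norm_num) (by
      intro m hm
      rw [h1, hT] at hm
      have h2 : 29 ∣ m * 44352000 := (Dvd.intro _ (by ring : 29 * (176 * 175 * 6 * _) = 176 * 175 * 174 * _)).trans hm
      rcases (Nat.Prime.dvd_mul (by norm_num : Nat.Prime 29)).1 h2 with h4 | h4
      · exact h4
      · exact absurd h4 (by norm_num))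
  rw [hn] at f1 f3
  rw [Nat.ModEq] at f3
  omega

theorem psl2_11 (A : AS G Ω T) (h3 : IsMultiplyPretransitive G Ω 3) (hn : Nat.card Ω = 11)
    (hT : Nat.card T = 660) : False := by
  obtain ⟨s, b, hb⟩ := exists_tri (Ω := Ω) (by omega)
  have h1 := card_eq_descFactorial h3 s
  have h0 : Nat.descFactorial 11 3 = 11 * 10 * 9 := by simp [Nat.descFactorial]
  rw [hn, h0] at h1
  obtain ⟨f, f1, f2, f3⟩ := exists_commuting A (q := 11) (p := 3) (by norm_num) (by norm_num)
    (by rw [hT]; norm_num) (by rw [hT]; norm_num) (by rw [hT, hn]; norm_num) (by norm_num) (by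
      intro m hm
      rw [h1, hT] at hm
      have h2 : 9 ∣ m * 660 := (Dvd.intro _ (by ring : 9 * (11 * 10 * _) = 11 * 10 * 9 * _)).trans hm
      have h4 : 3 ∣ m * 220 := by
        have h5 : 3 * 3 ∣ 3 * (m * 220) := by
          have : 3 * (m * 220) = m * 660 := by ring
          rw [this]; exact h2
        exact Nat.dvd_of_mul_dvd_mul_left (by norm_num) h5
      rcases (Nat.Prime.dvd_mul (by norm_num : Nat.Prime 3)).1 h4 with h4 | h4
      · exact h4
      · exact absurd h4 (by norm_num))
  rw [hn] at f1 f3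
  rw [Nat.ModEq] at f3
  omega

end half

end Cfsg.Agent.H488.ThreeHalf
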