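import Cfsg.Agent.H488.ThreeLie
import Cfsg.Agent.S4252
import Cfsg.Agent.S0042
import Cfsg.Agent.H496.TwoFrob

/-!
# 2-transitive groups whose two-point stabiliser is simple (S3400): general part
-/

set_option autoImplicit false
set_option linter.unusedSectionVars false

namespace Cfsg.Agent.H488.TwoSimple

open MulAction Cfsg.Agent.H392.MultTrans Cfsg.Agent.H384.TwoTrans Cfsg.Agent.H488.ThreeHalf

universe u v

variable {G : Type u} {Ω : Type v} [Group G] [MulAction G Ω] {T : Subgroup G}

/-- the stabilisers in `T` of pairs of points are conjugate -/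
theorem TT_conj_pair (hT : T.Normal) {a b c d : Ω} {g : G} (ha : g • a = c) (hb : g • b = d) {x : G} :
    x ∈ TT T c d ↔ g⁻¹ * x * g ∈ TT T a b := by
  rw [mem_TT, mem_TT]
  constructor
  · rintro ⟨h1, h2, h3⟩
    refine ⟨by simpa using hT.conj_mem _ h1 g⁻¹, ?_, ?_⟩
    · rw [mul_smul, mul_smul, ha, h2, ← ha, inv_smul_smul]
    · rw [mul_smul, mul_smul, hb, h3, ← hb, inv_smul_smul]
  · rintro ⟨h1, h2, h3⟩
    have h4 : x = g * (g⁻¹ * x * g) * g⁻¹ := by group
    refine ⟨by rw [h4]; exact hT.conj_mem _ h1 g, ?_, ?_⟩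
    · rw [h4, mul_smul, mul_smul, ← ha, inv_smul_smul, h2]
    · rw [h4, mul_smul, mul_smul, ← hb, inv_smul_smul, h3]

/-- **`T_ab ≠ 1`.** -/
theorem TT_ne_bot (A : AS G Ω T) {a b : Ω} (hab : a ≠ b) : TT T a b ≠ ⊥ := by
  intro h
  have := A.finG
  have := A.finΩ
  have := A.finT
  have hs := A.simple
  have := A.transitive
  have : Fintype Ω := Fintype.ofFinite Ω
  have htriv : ∀ (c d : Ω), c ≠ d → ∀ x ∈ TT T c d, x = 1 := by
    intro c d hcd x hx
    obtain ⟨g, hg1, hg2⟩ := two_pts A.two a b c d hab hcd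
    rw [TT_conj_pair A.normal hg1 hg2, h, Subgroup.mem_bot] at hx
    have h4 : x = g * (g⁻¹ * x * g) * g⁻¹ := by group
    rw [h4, hx]; group
  obtain ⟨hC, hker⟩ := Cfsg.Agent.S4252.result (G := T) (Ω := Ω) (by
      rw [← Nat.card_eq_fintype_card]; have := A.five_le; omega)
    (fun α β => exists_smul_eq T α β)
    (by
      obtain ⟨t, ht, x, hta, htx⟩ := exists_moved A a
      refine ⟨⟨t, ht⟩, ?_, a, hta⟩
      intro h1
      apply htx
      have : t = 1 := congrArg Subtype.val h1
      rw [this, one_smul])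
    (by
      intro g hg α β hα hβ
      by_contra hne
      apply hg
      apply Subtype.ext
      exact htriv α β hne g (mem_TT.2 ⟨g.2, hα, hβ⟩)) a
  obtain ⟨N, hN, -, -⟩ := Cfsg.Agent.S0042.result _ hC
  obtain ⟨hNn, hNnil, -, hNbot, -, -⟩ := Cfsg.Agent.H496.TwoFrob.basic hC hN.symm
  rcases hs.eq_bot_or_eq_top_of_normal N hNn with h1 | h1
  · exact hNbot h1
  · subst h1
    have hnil : Group.IsNilpotent T := Group.nilpotent_of_mulEquiv (Subgroup.topEquiv : (⊤ : Subgroup T) ≃* T)
    have hnt : Nontrivial T := hs.toNontrivial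
    have hz : Subgroup.center T ≠ ⊥ := Group.IsNilpotent.center_ne_bot T
    rcases hs.eq_bot_or_eq_top_of_normal (Subgroup.center T) inferInstance with h2 | h2
    · exact hz h2
    · apply A.nonab
      refine ⟨⟨fun x y => ?_⟩⟩
      have : y ∈ Subgroup.center T := h2 ▸ Subgroup.mem_top y
      exact Subgroup.mem_center_iff.1 this x

/-- the stabiliser of two points is contained in `T` if it is simple -/
theorem le_T (A : AS G Ω T) {a b : Ω} (hab : a ≠ b)
    (hs : IsSimpleGroup ↥(stabilizer G a ⊓ stabilizer G b)) : stabilizer G a ⊓ stabilizer G b ≤ T := by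
  have := A.normal
  have h1 : ((T.subgroupOf (stabilizer G a ⊓ stabilizer G b))).Normal := inferInstance
  rcases hs.eq_bot_or_eq_top_of_normal _ h1 with h2 | h2
  · exfalso
    apply TT_ne_bot A hab
    rw [Subgroup.subgroupOf_eq_bot, disjoint_iff] at h2
    exact h2
  · rwa [Subgroup.subgroupOf_eq_top] at h2

theorem card_G (A : AS G Ω T) {a b : Ω} (hab : a ≠ b) :
    Nat.card G = Nat.card Ω * (Nat.card Ω - 1) * Nat.card ↥(stabilizer G a ⊓ stabilizer G b) := by
  have := A.finG
  have := A.finΩ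
  let s : Fin 2 ↪ Ω := ⟨![a, b], by
    intro i j hij
    fin_cases i <;> fin_cases j <;> simp_all⟩
  have h4 := card_eq_descFactorial A.two s
  have h5 : stabilizer G s = stabilizer G a ⊓ stabilizer G b := by
    ext g
    rw [mem_stab_emb, Subgroup.mem_inf, mem_stabilizer_iff, mem_stabilizer_iff]
    constructor
    · intro h
      exact ⟨h 0, h 1⟩
    · rintro ⟨h1, h2⟩ i
      fin_cases i
      · exact h1
      · exact h2
  rw [h5, Nat.descFactorial_succ, Nat.descFactorial_one] at h4
  rw [h4]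
  ring

/-- **The numbers**: `|T| = n l |L|`, `n - 1 = l i`, `i = |G : T|` divides `|Out T|`. -/
theorem numbers (A : AS G Ω T) {a b : Ω} (hab : a ≠ b)
    (hs : IsSimpleGroup ↥(stabilizer G a ⊓ stabilizer G b)) : ∃ l : ℕ,
      Nat.card T = Nat.card Ω * l * Nat.card ↥(stabilizer G a ⊓ stabilizer G b) ∧
      Nat.card Ω - 1 = l * T.index := by
  have := A.finG
  have := A.finΩ
  have := A.finT
  have hle := le_T A hab hs
  refine ⟨Nat.card (orbit (stabilizer T a) b), ?_, ?_⟩
  · have h1 := A.card_mul a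
    have h2 : Nat.card (stabilizer T a) = Nat.card (orbit (stabilizer T a) b) *
        Nat.card (stabilizer (stabilizer T a) b) := by
      have h3 := (stabilizer (stabilizer T a) b).index_mul_card
      rw [MulAction.index_stabilizer, ← Nat.card_coe_set_eq] at h3
      exact h3.symm
    have h3 : Nat.card (stabilizer (stabilizer T a) b) = Nat.card ↥(stabilizer G a ⊓ stabilizer G b) := by
      refine Nat.card_congr
        { toFun := fun x => ⟨(x.1.1 : G), x.1.2, x.2⟩
          invFun := fun x => ⟨⟨⟨x.1, hle x.2⟩, x.2.1⟩, x.2.2⟩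
          left_inv := fun x => rfl
          right_inv := fun x => rfl }
    rw [← h1, h2, h3]
    ring
  · have h1 := card_G A hab
    have h2 := T.card_mul_index
    have h3 := A.card_mul a
    have h4 : Nat.card (stabilizer T a) = Nat.card (orbit (stabilizer T a) b) *
        Nat.card ↥(stabilizer G a ⊓ stabilizer G b) := by
      have h3 := (stabilizer (stabilizer T a) b).index_mul_card
      rw [MulAction.index_stabilizer, ← Nat.card_coe_set_eq] at h3
      rw [← h3]
      congr 1
      refine Nat.card_congr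
        { toFun := fun x => ⟨(x.1.1 : G), x.1.2, x.2⟩
          invFun := fun x => ⟨⟨⟨x.1, hle x.2⟩, x.2.1⟩, x.2.2⟩
          left_inv := fun x => rfl
          right_inv := fun x => rfl }
    rw [← h3, h4, h1] at h2
    have h5 : 0 < Nat.card Ω * Nat.card ↥(stabilizer G a ⊓ stabilizer G b) := by
      have := A.five_le
      exact Nat.mul_pos (by omega) Nat.card_pos
    apply Nat.eq_of_mul_eq_mul_left h5
    calc Nat.card Ω * Nat.card ↥(stabilizer G a ⊓ stabilizer G b) * (Nat.card Ω - 1)
        = Nat.card Ω * (Nat.card Ω - 1) * Nat.card ↥(stabilizer G a ⊓ stabilizer G b) := by ring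
      _ = _ := by rw [← h2]; ring

/-- `T_a` has no orbit of length one outside `a` -/
theorem one_lt_of (A : AS G Ω T) {a b : Ω} (hab : a ≠ b)
    (hs : IsSimpleGroup ↥(stabilizer G a ⊓ stabilizer G b)) {l : ℕ}
    (h1 : Nat.card T = Nat.card Ω * l * Nat.card ↥(stabilizer G a ⊓ stabilizer G b)) : 2 ≤ l := by
  have := A.finG
  have := A.finΩ
  have := A.finT
  have := A.faithful
  have hle := le_T A hab hs
  rcases Nat.lt_or_ge l 2 with h2 | h2
  swap
  · exact h2
  exfalso
  -- `T_a = T_ab`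
  have h3 : Nat.card (stabilizer T a) ≤ Nat.card (stabilizer (stabilizer T a) b) := by
    have h4 := A.card_mul a
    rw [h1] at h4
    have h5 : 0 < Nat.card Ω := by have := A.five_le; omega
    rw [mul_assoc] at h4
    rw [Nat.eq_of_mul_eq_mul_left h5 h4]
    have h6 : Nat.card ↥(stabilizer G a ⊓ stabilizer G b) = Nat.card (stabilizer (stabilizer T a) b) := by
      refine Nat.card_congr
        { invFun := fun x => ⟨(x.1.1 : G), x.1.2, x.2⟩
          toFun := fun x => ⟨⟨⟨x.1, hle x.2⟩, x.2.1⟩, x.2.2⟩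
          left_inv := fun x => rfl
          right_inv := fun x => rfl }
    rw [h6]
    calc l * _ ≤ 1 * Nat.card (stabilizer (stabilizer T a) b) := Nat.mul_le_mul_right _ (by omega)
      _ = _ := one_mul _
  have h4 : stabilizer (stabilizer T a) b = ⊤ := Subgroup.eq_top_of_le_card _ h3
  have h5 : ∀ t : T, t • a = a → (t : G) = 1 := by
    intro t ht
    apply FaithfulSMul.eq_of_smul_eq_smul (α := Ω)
    intro x
    rw [one_smul]
    by_cases hx : x = a
    · rw [hx]; exact ht
    obtain ⟨g, hg1, hg2⟩ := two_pts A.two a b a x hab (Ne.symm hx)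
    have hmem : g⁻¹ * (t : G) * g ∈ T := by simpa using A.normal.conj_mem _ t.2 g⁻¹
    have h6 : (⟨_, hmem⟩ : T) ∈ stabilizer T a := by
      show (g⁻¹ * (t : G) * g) • a = a
      have ht' : (t : G) • a = a := ht
      rw [mul_smul, mul_smul, hg1, ht', inv_smul_eq_iff, hg1]
    have h7 : (⟨⟨_, hmem⟩, h6⟩ : stabilizer T a) ∈ stabilizer (stabilizer T a) b := h4 ▸ Subgroup.mem_top _
    have h8 : (g⁻¹ * (t : G) * g) • b = b := h7
    rw [mul_smul, mul_smul, hg2, inv_smul_eq_iff, hg2] at h8
    exact h8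
  apply TT_ne_bot A hab
  rw [eq_bot_iff]
  intro x hx
  rw [mem_TT] at hx
  exact h5 ⟨x, hx.1⟩ hx.2.1

/-- `|G : T|` divides `|Out T|` -/
theorem index_dvd (A : AS G Ω T) {X : Type*} [Group X] (e : T ≃* X) : T.index ∣ Nat.card (Cfsg.Out X) := by
  have := A.finG
  have h1 := Cfsg.Agent.H57.TTOut.AS.card_dvd A e
  rw [← T.card_mul_index] at h1
  exact Nat.dvd_of_mul_dvd_mul_left Nat.card_pos h1

/-- the stabilisers of two points are isomorphic -/
theorem exists_equiv (A : AS G Ω T) {a b c d : Ω} (hab : a ≠ b) (hcd : c ≠ d) :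
    Nonempty (↥(stabilizer G a ⊓ stabilizer G b) ≃* ↥(stabilizer G c ⊓ stabilizer G d)) := by
  obtain ⟨g, hg1, hg2⟩ := two_pts A.two a b c d hab hcd
  have h1 : (stabilizer G a ⊓ stabilizer G b).map (MulAut.conj g).toMonoidHom = stabilizer G c ⊓ stabilizer G d := by
    ext x
    constructor
    · rintro ⟨y, ⟨h3, h4⟩, rfl⟩
      have h3' : y • a = a := h3
      have h4' : y • b = b := h4
      refine ⟨?_, ?_⟩
      · show (g * y * g⁻¹) • c = c
        rw [mul_smul, mul_smul, ← hg1, inv_smul_smul, h3']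
      · show (g * y * g⁻¹) • d = d
        rw [mul_smul, mul_smul, ← hg2, inv_smul_smul, h4']
    · rintro ⟨h3, h4⟩
      have h3' : x • c = c := h3
      have h4' : x • d = d := h4
      refine ⟨g⁻¹ * x * g, ⟨?_, ?_⟩, ?_⟩
      · show (g⁻¹ * x * g) • a = a
        rw [mul_smul, mul_smul, hg1, h3', inv_smul_eq_iff, hg1]
      · show (g⁻¹ * x * g) • b = b
        rw [mul_smul, mul_smul, hg2, h4', inv_smul_eq_iff, hg2]
      · show g * (g⁻¹ * x * g) * g⁻¹ = x
        group
  exact ⟨(Subgroup.equivMapOfInjective _ _ (MulAut.conj g).injective).trans (MulEquiv.subgroupCongr h1)⟩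

end Cfsg.Agent.H488.TwoSimple
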