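import Cfsg.Agent.H488.TwoSimpleSpor

/-!
# 2-transitive groups whose two-point stabiliser is simple (S3400): the alternating groups
-/

set_option autoImplicit false
set_option linter.unusedSectionVars false

namespace Cfsg.Agent.H488.TwoSimple

open MulAction Cfsg.Agent.H392.MultTrans Cfsg.Agent.H384.TwoTrans Cfsg.Agent.H488.ThreeHalf Cfsg.Agent.H488.WalterNum

universe u v

variable {G : Type u} {Ω : Type v} [Group G] [MulAction G Ω] {T : Subgroup G}

/-- the Sylow 2-subgroups of `A₆` are not abelian -/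
theorem not_sa_six : ¬ ∀ S : Sylow 2 (alternatingGroup (Fin 6)), IsMulCommutative (S : Subgroup (alternatingGroup (Fin 6))) := by
  intro h
  have hs : IsSimpleGroup (alternatingGroup (Fin 6)) := alternatingGroup.isSimpleGroup (by simp)
  have hc : Nat.card (alternatingGroup (Fin 6)) = 360 := by
    have h1 := card_alt (n := 6) (by norm_num)
    have h7 : (6 : ℕ).factorial = 720 := by decide
    rw [h7] at h1
    omega
  have hna : ¬ IsMulCommutative (alternatingGroup (Fin 6)) := by
    intro hcomm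
    let x : alternatingGroup (Fin 6) := ⟨Equiv.swap 0 1 * Equiv.swap 1 2, by
      rw [Equiv.Perm.mem_alternatingGroup, Equiv.Perm.sign_mul, Equiv.Perm.sign_swap (by decide), Equiv.Perm.sign_swap (by decide)]
      norm_num⟩
    let y : alternatingGroup (Fin 6) := ⟨Equiv.swap 1 2 * Equiv.swap 2 3, by
      rw [Equiv.Perm.mem_alternatingGroup, Equiv.Perm.sign_mul, Equiv.Perm.sign_swap (by decide), Equiv.Perm.sign_swap (by decide)]
      norm_num⟩
    have h1 := congrArg (fun z : alternatingGroup (Fin 6) => (z : Equiv.Perm (Fin 6)) 1) (hcomm.is_comm.comm x y)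
    exact absurd h1 (by decide)
  have h1 := small (walter_num hs hna h) (by rw [hc]; norm_num)
  omega

theorem image_eq_alt [Finite G] [Fintype Ω] [DecidableEq Ω] [FaithfulSMul G Ω] (h5 : 5 ≤ Nat.card Ω)
    (hT : Nat.card T * 2 = (Nat.card Ω).factorial) : T.map (toPermHom G Ω) = alternatingGroup Ω := by
  have hnt : Nontrivial Ω := Finite.one_lt_card_iff_nontrivial.1 (by omega)
  have hcard : Nat.card (T.map (toPermHom G Ω)) = Nat.card T :=
    Nat.card_congr (Subgroup.equivMapOfInjective T _ MulAction.toPerm_injective).symm.toEquiv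
  have hidx : (T.map (toPermHom G Ω)).index = 2 := by
    have h1 := (T.map (toPermHom G Ω)).index_mul_card
    rw [hcard, Nat.card_perm, ← hT, mul_comm] at h1
    exact Nat.eq_of_mul_eq_mul_left Nat.card_pos h1
  exact Equiv.Perm.eq_alternatingGroup_of_index_eq_two hidx

theorem alt_le_seven (A : AS G Ω T) {a b : Ω} (hab : a ≠ b) (hs : SA ↥(stabilizer G a ⊓ stabilizer G b))
    (hT : Nat.card T * 2 = (Nat.card Ω).factorial) : Nat.card Ω ≤ 7 := by
  classical
  have := A.finG
  have := A.finΩ
  have := A.faithful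
  have : Fintype Ω := Fintype.ofFinite Ω
  by_contra hcon
  push Not at hcon
  have himg := image_eq_alt (T := T) (by omega) hT
  -- six points
  obtain ⟨ι⟩ : Nonempty (Fin 6 ↪ {x : Ω // x ≠ a ∧ x ≠ b}) := by
    apply Function.Embedding.nonempty_of_card_le
    rw [Fintype.card_fin, ← Nat.card_eq_fintype_card]
    have h1 := ncard_compl_pair hab
    rw [← Nat.card_coe_set_eq] at h1
    have h2 : Nat.card {x : Ω // x ≠ a ∧ x ≠ b} = Nat.card Ω - 2 := h1
    omega
  let κ : Fin 6 ↪ Ω := ι.trans (Function.Embedding.subtype _)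
  have hκ : ∀ i, κ i ≠ a ∧ κ i ≠ b := fun i => (ι i).2
  let f : Fin 6 ≃ {x : Ω // x ∈ Set.range κ} := Equiv.ofInjective κ κ.injective
  have hfix : ∀ (σ : Equiv.Perm (Fin 6)) (x : Ω), (x = a ∨ x = b) → (σ.extendDomain f) x = x := by
    intro σ x hx
    apply Equiv.Perm.extendDomain_apply_not_subtype
    rintro ⟨i, rfl⟩
    rcases hx with h | h
    · exact (hκ i).1 h
    · exact (hκ i).2 h
  have hex : ∀ σ : alternatingGroup (Fin 6), ∃ g : ↥(stabilizer G a ⊓ stabilizer G b),
      toPermHom G Ω g = (σ : Equiv.Perm (Fin 6)).extendDomain f := by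
    intro σ
    have h1 : (σ : Equiv.Perm (Fin 6)).extendDomain f ∈ alternatingGroup Ω := by
      rw [Equiv.Perm.mem_alternatingGroup, Equiv.Perm.sign_extendDomain]
      exact Equiv.Perm.mem_alternatingGroup.1 σ.2
    rw [← himg] at h1
    obtain ⟨t, ht, h2⟩ := h1
    have h3 : ∀ x : Ω, t • x = ((σ : Equiv.Perm (Fin 6)).extendDomain f) x := fun x => by rw [← h2]; rfl
    exact ⟨⟨t, ⟨(h3 a).trans (hfix σ a (Or.inl rfl)), (h3 b).trans (hfix σ b (Or.inr rfl))⟩⟩, h2⟩
  choose φ hφ using hex
  have hinj : Function.Injective (toPermHom G Ω) := MulAction.toPerm_injective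
  have hmul : ∀ σ τ, φ (σ * τ) = φ σ * φ τ := by
    intro σ τ
    apply Subtype.ext
    apply hinj
    rw [Subgroup.coe_mul, map_mul, hφ, hφ, hφ, Subgroup.coe_mul, Equiv.Perm.extendDomain_mul]
  let Φ : alternatingGroup (Fin 6) →* ↥(stabilizer G a ⊓ stabilizer G b) := MonoidHom.mk' φ hmul
  have hΦ : Function.Injective Φ := by
    intro σ τ h
    have h1 : φ σ = φ τ := h
    have h2 := hφ σ
    rw [h1, hφ τ] at h2
    apply Subtype.ext
    exact (Equiv.Perm.extendDomainHom_injective f h2).symm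
  apply not_sa_six
  intro S
  have h1 := hs.comm (S.2.map Φ)
  refine ⟨⟨fun x y => ?_⟩⟩
  have h2 := congrArg Subtype.val (h1.is_comm.comm ⟨Φ x, ⟨x, x.2, rfl⟩⟩ ⟨Φ y, ⟨y, y.2, rfl⟩⟩)
  apply Subtype.ext
  apply hΦ
  rw [Subgroup.coe_mul, Subgroup.coe_mul, map_mul, map_mul]
  exact h2

/-- **The alternating rows.** -/
theorem alt_row (A : AS G Ω T) {a b : Ω} (hab : a ≠ b) (hs : SA ↥(stabilizer G a ⊓ stabilizer G b))
    (hT : Nat.card T * 2 = (Nat.card Ω).factorial) : Nat.card Ω = 7 ∧ T = ⊤ := by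
  have := A.finG
  have h7 := alt_le_seven A hab hs hT
  have h5 := A.five_le
  obtain ⟨l, h1, h2⟩ := numbers A hab hs.1
  have hl := one_lt_of A hab hs.1 h1
  have h60 := sixty_le hs.1 hs.2.1
  have hsm := small hs.wn
  generalize Nat.card ↥(stabilizer G a ⊓ stabilizer G b) = L at h1 h60 hsm
  generalize hn : Nat.card Ω = n at *
  rw [h1] at hT
  obtain rfl | rfl | rfl : n = 5 ∨ n = 6 ∨ n = 7 := by omega
  · exfalso
    have : (5 : ℕ).factorial = 120 := by decide
    rw [this] at hT
    nlinarith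
  · exfalso
    have : (6 : ℕ).factorial = 720 := by decide
    rw [this] at hT
    nlinarith
  · have : (7 : ℕ).factorial = 5040 := by decide
    rw [this] at hT
    have h6 : l * L = 360 := by nlinarith
    have h8 : l ≤ 6 := by
      by_contra hcon
      push Not at hcon
      nlinarith
    have h9 : L < 504 := by nlinarith
    rw [hsm h9] at h6
    have h10 : l = 6 := by omega
    subst h10
    refine ⟨rfl, ?_⟩
    apply Subgroup.index_eq_one.1
    omega

end Cfsg.Agent.H488.TwoSimple
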