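import Cfsg.Agent.H488.TwoSimpleAlt

/-!
# 2-transitive groups whose two-point stabiliser is simple (S3400): `Sz`, `²G₂`, `Sp_{2m}(2)`, `PSL`
-/

set_option autoImplicit false
set_option linter.unusedSectionVars false

namespace Cfsg.Agent.H488.TwoSimple

open MulAction Cfsg.Agent.H392.MultTrans Cfsg.Agent.H384.TwoTrans Cfsg.Agent.H488.ThreeHalf Cfsg.Agent.H488.WalterNum

universe u v

variable {G : Type u} {Ω : Type v} [Group G] [MulAction G Ω] {T : Subgroup G}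

theorem sz_false (A : AS G Ω T) {a b : Ω} (hab : a ≠ b) (hs : SA ↥(stabilizer G a ⊓ stabilizer G b))
    {F : Type} [Field F] [Fintype F] {m : ℕ} (hF : Fintype.card F = 2 ^ (2 * m + 1))
    (e : Nonempty (T ≃* ↥(Cfsg.Lie.Sz F (2 ^ (m + 1))))) : False := by
  obtain ⟨e⟩ := e
  have := A.finG
  obtain ⟨l, h1, -⟩ := numbers A hab hs.1
  have h3 : 3 ∣ Nat.card T := by
    rw [h1]
    exact (three_dvd hs.wn).mul_left _
  rw [Nat.card_congr e.toEquiv, Cfsg.Agent.H438.SzMax.card_sz hF] at h3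
  have h4 : 2 ^ (2 * m + 1) % 3 = 2 := by
    rw [pow_succ, pow_mul, Nat.mul_mod, Nat.pow_mod]
    norm_num
  generalize 2 ^ (2 * m + 1) = q at h3 h4
  rcases Nat.prime_three.dvd_mul.1 h3 with h5 | h5
  · rcases Nat.prime_three.dvd_mul.1 h5 with h6 | h6
    · have := Nat.prime_three.dvd_of_dvd_pow h6
      omega
    · omega
  · have h6 : (q ^ 2 + 1) % 3 = 2 := by
      rw [Nat.add_mod, Nat.pow_mod, h4]
    omega

theorem ree_false (A : AS G Ω T) {a b : Ω} (hab : a ≠ b) (hs : SA ↥(stabilizer G a ⊓ stabilizer G b))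
    {K : Type} [Field K] [Fintype K] {m : ℕ} (hK : Fintype.card K = 3 ^ (2 * m + 1))
    (e : Nonempty (T ≃* ↥(Cfsg.Lie.twistedG2 K (3 ^ m)))) (hn : Nat.card Ω = Fintype.card K ^ 3 + 1) : False := by
  obtain ⟨e⟩ := e
  have := A.finG
  obtain ⟨l, h1, -⟩ := numbers A hab hs.1
  have h2 := four_dvd hs.wn
  rw [Nat.card_congr e.toEquiv, Cfsg.Agent.ChevalleyStructure.ReeCount.card_twistedG2 hK, hn, hK] at h1
  have h3 := mod_ree m
  have h4 : 1 ≤ 3 ^ (2 * m + 1) := Nat.one_le_pow _ _ (by norm_num)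
  generalize 3 ^ (2 * m + 1) = q at h1 h3 h4
  have h5 : q ^ 3 * (q - 1) = l * Nat.card ↥(stabilizer G a ⊓ stabilizer G b) := by
    have h6 : 0 < q ^ 3 + 1 := by positivity
    apply Nat.eq_of_mul_eq_mul_left h6
    linarith
  have h6 : 4 ∣ q ^ 3 * (q - 1) := by
    rw [h5]
    exact h2.mul_left _
  have h7 : Nat.Coprime 4 (q ^ 3) := by
    apply Nat.Coprime.pow_right
    have : Odd q := by rw [Nat.odd_iff]; omega
    rw [show (4 : ℕ) = 2 ^ 2 from rfl]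
    exact (Nat.coprime_two_left.2 this).pow_left 2
  have h8 := h7.dvd_of_dvd_mul_left h6
  omega

/-! ### `Sp_{2m}(2)` -/

theorem prod_bound (m : ℕ) :
    Odd ((List.range m).map fun i => 2 ^ (2 * (i + 1)) - 1).prod ∧
      ((List.range m).map fun i => 2 ^ (2 * (i + 1)) - 1).prod ≤ 2 ^ (m * (m + 1)) := by
  induction m with
  | zero => simp
  | succ m ih =>
    rw [List.range_succ, List.map_append, List.prod_append, List.map_singleton, List.prod_singleton]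
    constructor
    · apply ih.1.mul
      have h1 : Even (2 ^ (2 * (m + 1))) := Nat.even_pow.2 ⟨even_two, by omega⟩
      obtain ⟨x, hx⟩ := h1
      have h2 : 0 < 2 ^ (2 * (m + 1)) := by positivity
      exact ⟨x - 1, by omega⟩
    · calc _ ≤ 2 ^ (m * (m + 1)) * 2 ^ (2 * (m + 1)) := Nat.mul_le_mul ih.2 (Nat.sub_le _ _)
        _ = 2 ^ ((m + 1) * (m + 1 + 1)) := by rw [← pow_add]; congr 1; ring

theorem sp_false (A : AS G Ω T) {a b : Ω} (hab : a ≠ b) (hs : SA ↥(stabilizer G a ⊓ stabilizer G b))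
    {F : Type} [Field F] [Fintype F] {m : ℕ}
    (hF : Fintype.card F = 2) (hm : 3 ≤ m) (e : Nonempty (T ≃* Cfsg.PSp m F))
    (hn : Nat.card Ω = 2 ^ (m - 1) * (2 ^ m + 1) ∨ Nat.card Ω = 2 ^ (m - 1) * (2 ^ m - 1)) : False := by
  obtain ⟨e⟩ := e
  have := A.finG
  obtain ⟨l, h1, h2⟩ := numbers A hab hs.1
  have hcard := Cfsg.Agent.OddHalf.Orders.card_psp (F := F) m (by omega)
  rw [hF] at hcard
  have hden : Cfsg.Agent.OddHalf.Orders.spDen 2 = 1 := rfl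
  rw [hden, one_mul, ← Nat.card_congr e.toEquiv] at hcard
  unfold Cfsg.Agent.OddHalf.Orders.sp at hcard
  obtain ⟨hodd, hle⟩ := prod_bound m
  set M := ((List.range m).map fun i => 2 ^ (2 * (i + 1)) - 1).prod with hM
  -- `n = 2 ^ (m - 1) n'`
  obtain ⟨n', hn', hn2⟩ : ∃ n', Nat.card Ω = 2 ^ (m - 1) * n' ∧ Odd n' := by
    have h3 : Even (2 ^ m) := Nat.even_pow.2 ⟨even_two, by omega⟩
    have h4 : 0 < 2 ^ m := by positivity
    obtain ⟨x, hx⟩ := h3
    rcases hn with h | h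
    · exact ⟨_, h, ⟨x, by omega⟩⟩
    · exact ⟨_, h, ⟨x - 1, by omega⟩⟩
  have hlodd : Odd l := by
    have h3 : Even (Nat.card Ω) := by
      rw [hn']
      exact (Nat.even_pow.2 ⟨even_two, by omega⟩).mul_right _
    have h4 : Odd (Nat.card Ω - 1) := by
      obtain ⟨x, hx⟩ := h3
      have := A.five_le
      exact ⟨x - 1, by omega⟩
    rw [h2] at h4
    exact (Nat.odd_mul.1 h4).1
  obtain ⟨c, hc⟩ : ∃ c, m ^ 2 = (m - 1) + c ∧ 4 ≤ c ∧ m * (m + 1) + 2 ≤ 2 * c := by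
    obtain ⟨x, rfl⟩ : ∃ x, m = x + 3 := ⟨m - 3, by omega⟩
    refine ⟨x ^ 2 + 5 * x + 7, ?_, by nlinarith, by nlinarith⟩
    rw [show x + 3 - 1 = x + 2 by omega]
    ring
  obtain ⟨hc1, hc2, hc3⟩ := hc
  have h5 : n' * l * Nat.card ↥(stabilizer G a ⊓ stabilizer G b) = 2 ^ c * M := by
    have h6 : 0 < 2 ^ (m - 1) := by positivity
    apply Nat.eq_of_mul_eq_mul_left h6
    rw [← mul_assoc (2 ^ (m - 1)) (2 ^ c), ← pow_add, ← hc1, ← hcard, h1, hn']
    ring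
  have h6 : 2 ^ c ∣ Nat.card ↥(stabilizer G a ⊓ stabilizer G b) := by
    have h7 : 2 ^ c ∣ n' * l * Nat.card ↥(stabilizer G a ⊓ stabilizer G b) := h5 ▸ Dvd.intro _ rfl
    have h8 : Nat.Coprime (2 ^ c) (n' * l) := (Nat.coprime_two_left.2 (hn2.mul hlodd)).pow_left c
    exact h8.dvd_of_dvd_mul_left h7
  obtain ⟨w, hw⟩ := h6
  have h7 : n' * l * w = M := by
    have h8 : 0 < 2 ^ c := by positivity
    apply Nat.eq_of_mul_eq_mul_left h8
    rw [← h5, hw]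
    ring
  have hwodd : Odd w := by
    rw [← h7] at hodd
    exact (Nat.odd_mul.1 hodd).2
  have h8 := of_two_part hs.wn hc2 hwodd hw
  have h9 : w = 4 ^ c - 1 := by
    rw [hw] at h8
    exact Nat.eq_of_mul_eq_mul_left (by positivity) h8
  have h10 : w ≤ M := by
    rw [← h7]
    have h11 : 1 ≤ n' * l := (hn2.mul hlodd).pos
    exact Nat.le_mul_of_pos_left w h11
  have h11 : 4 * 2 ^ (m * (m + 1)) ≤ 4 ^ c := by
    have : (4 : ℕ) = 2 ^ 2 := rfl
    rw [this, ← pow_mul, ← pow_add]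
    exact Nat.pow_le_pow_right (by norm_num) (by omega)
  have h12 : 0 < 2 ^ (m * (m + 1)) := by positivity
  omega

/-! ### `PSL₂` -/

theorem psl_two_false (A : AS G Ω T) {a b : Ω} (hab : a ≠ b) (hs : SA ↥(stabilizer G a ⊓ stabilizer G b))
    {F : Type*} [Field F] [Fintype F] (e : Nonempty (T ≃* Matrix.ProjectiveSpecialLinearGroup (Fin 2) F))
    (hn : Nat.card Ω * (Fintype.card F - 1) = Fintype.card F ^ 2 - 1) : False := by
  have := A.finG
  have := A.faithful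
  obtain ⟨Λ⟩ := exists_line_of A e hn
  obtain ⟨f⟩ := exists_equiv A hab (Λ.pt_ne 0).symm
  have hs' := hs.congr f
  have hle := le_T A (Λ.pt_ne 0).symm hs'.1
  apply hs'.2.1
  refine ⟨⟨fun x y => ?_⟩⟩
  have key : ∀ x : ↥(stabilizer G Λ.inf ⊓ stabilizer G (Λ.pt 0)), (⟨x.1, hle x.2⟩ : T) • Λ.inf = Λ.inf ∧
      ∃ s, ∀ z, (⟨x.1, hle x.2⟩ : T) • Λ.pt z = Λ.pt (s * z) := by
    intro x
    have h1 : (⟨x.1, hle x.2⟩ : T) • Λ.inf = Λ.inf := x.2.1
    have h2 : (⟨x.1, hle x.2⟩ : T) • Λ.pt 0 = Λ.pt 0 := x.2.2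
    obtain ⟨s, c, -, h3⟩ := Λ.stab _ h1
    have h4 := h3 0
    rw [h2, mul_zero, zero_add] at h4
    have h5 := Λ.pt_inj h4
    exact ⟨h1, s ^ 2, fun z => by rw [h3, ← h5, add_zero]⟩
  obtain ⟨x1, s, hs1⟩ := key x
  obtain ⟨y1, t, ht1⟩ := key y
  have h6 : (⟨x.1, hle x.2⟩ : T) * ⟨y.1, hle y.2⟩ = (⟨y.1, hle y.2⟩ : T) * ⟨x.1, hle x.2⟩ := by
    apply Λ.ext_pt
    · rw [mul_smul, mul_smul, y1, x1, y1]
    · intro z
      rw [mul_smul, mul_smul, ht1, hs1, hs1, ht1]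
      congr 1
      ring
  apply Subtype.ext
  exact congrArg (fun z : T => (z : G)) h6

end Cfsg.Agent.H488.TwoSimple
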