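import Cfsg.Agent.H488.TwoSimplePsl
import Cfsg.Agent.H488.PsuTwo
import Cfsg.Agent.H488.ThreeMain

/-!
# 2-transitive groups whose two-point stabiliser is simple (S3400): the main theorem, from the list
-/

set_option autoImplicit false
set_option linter.unusedSectionVars false

namespace Cfsg.Agent.H488.TwoSimple

open MulAction Cfsg.Agent.H392.MultTrans Cfsg.Agent.H384.TwoTrans Cfsg.Agent.H488.ThreeHalf
  Cfsg.Agent.H488.WalterNum

universe u v

variable {G : Type u} {Ω : Type v} [Group G] [MulAction G Ω] {T : Subgroup G}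

theorem psu_false (A : AS G Ω T) {a b : Ω} (hab : a ≠ b) (hs : SA ↥(stabilizer G a ⊓ stabilizer G b))
    {F : Type} [Field F] [Fintype F] {q : ℕ} (hq : 3 ≤ q) (hF : Fintype.card F = q ^ 2)
    (e : Nonempty (T ≃* Cfsg.PSU 3 F q)) (hn : Nat.card Ω = q ^ 3 + 1) : False := by
  obtain ⟨e⟩ := e
  have := A.finG
  have := A.finΩ
  have := A.finT
  have := A.transitive
  obtain ⟨c, d, hcd, hcomm⟩ := PsuTwo.exists_pair hF (by omega) e A.simple hn
  obtain ⟨f⟩ := exists_equiv A hab hcd
  have hs' := hs.congr f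
  have hle := le_T A hcd hs'.1
  apply hs'.2.1
  refine ⟨⟨fun x y => ?_⟩⟩
  apply Subtype.ext
  have h1 := hcomm ⟨x, hle x.2⟩ ⟨x.2.1, x.2.2⟩ ⟨y, hle y.2⟩ ⟨y.2.1, y.2.2⟩
  have h2 : (x : G) * (y : G) = (y : G) * (x : G) := congrArg (fun z : T => (z : G)) h1
  exact h2

/-- the conclusion -/
def Concl2 (G : Type u) [Group G] : Prop :=
  Nonempty (G ≃* ↥(alternatingGroup (Fin 7))) ∨ Cfsg.Spor.IsoM11 G

theorem alt_concl (A : AS G Ω T) {a b : Ω} (hab : a ≠ b) (hs : SA ↥(stabilizer G a ⊓ stabilizer G b))
    (hT : Nat.card T * 2 = (Nat.card Ω).factorial) (h : Nat.card Ω = 7 → Nonempty (T ≃* alternatingGroup (Fin 7))) :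
    Concl2 G := by
  obtain ⟨h1, h2⟩ := alt_row A hab hs hT
  obtain ⟨e⟩ := h h1
  exact Or.inl ⟨(Subgroup.topEquiv.symm.trans (MulEquiv.subgroupCongr h2.symm)).trans e⟩

/-- **The almost simple case.** -/
theorem almost (A : AS G Ω T) (hK : Known2 T (Nat.card Ω)) {a b : Ω} (hab : a ≠ b)
    (hs : SA ↥(stabilizer G a ⊓ stabilizer G b)) : Concl2 G := by
  have := A.finG
  have := A.finΩ
  have := A.faithful
  have := A.finT
  have := A.simple
  have := A.transitive
  generalize hn : Nat.card Ω = n at hK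
  cases hK with
  | alt n hn5 e =>
    refine alt_concl A hab hs ?_ ?_
    · obtain ⟨e⟩ := e
      rw [Nat.card_congr e.toEquiv, card_alt (by omega), hn]
    · intro h
      obtain rfl : n = 7 := by omega
      exact e
  | psl F d n hd hd2 e hn' =>
    subst hn
    rcases Nat.lt_or_ge 2 d with h | h
    · exact (psl_false A hab hs h e hn').elim
    · obtain rfl : d = 2 := by omega
      exact (psl_two_false A hab hs e hn').elim
  | sp F m n hF hm e hn' => exact (sp_false A hab hs hF hm e (by rwa [hn])).elim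
  | psu F q n hq hF e hn' => exact (psu_false A hab hs hq hF e (by rwa [hn])).elim
  | sz F m n hm hF e hn' => exact (sz_false A hab hs hF e).elim
  | ree K m n hm hK e hn' => exact (ree_false A hab hs hK e (by rwa [hn])).elim
  | psl2_8 F hF e =>
    obtain ⟨e⟩ := e
    refine (psl2_8_false A hab hs hn ?_).elim
    rw [Nat.card_congr e.toEquiv]
    have h := card_psl_two hF
    norm_num at h
    omega
  | psl2_9 F hF e =>
    obtain ⟨e⟩ := e
    refine alt_concl A hab hs ?_ (fun h => by omega)
    rw [Nat.card_congr e.toEquiv, hn]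
    have h := card_psl_two hF
    norm_num [Nat.factorial] at h ⊢
    omega
  | psl2_11 F hF e =>
    obtain ⟨e⟩ := e
    refine (psl2_11_false A hab hs hn ?_).elim
    rw [Nat.card_congr e.toEquiv]
    have h := card_psl_two hF
    norm_num at h
    omega
  | psl4_2 F hF e =>
    obtain ⟨e⟩ := e
    refine alt_concl A hab hs ?_ (fun h => by omega)
    rw [Nat.card_congr e.toEquiv, hn, card_psl_four hF]
    norm_num [Nat.factorial]
  | a7 e =>
    obtain ⟨e⟩ := e
    refine (a7_false A hab hs hn ?_).elim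
    rw [Nat.card_congr e.toEquiv]
    have h := card_alt (n := 7) (by norm_num)
    have h7 : (7 : ℕ).factorial = 5040 := by decide
    rw [h7] at h
    omega
  | m11 h => exact (m11_false A hab hs hn h).elim
  | m11' h => exact Or.inr (isoM11 A h)
  | m12 h => exact (m12_false A hab hs hn h).elim
  | m22 h => exact (m22_false A hab hs hn h).elim
  | m23 h => exact (m23_false A hab hs hn h).elim
  | m24 h => exact (m24_false A hab hs hn h).elim
  | hs h => exact (hs_false A hab hs hn h).elim
  | co3 h => exact (co3_false A hab hs hn h).elim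

/-- **2-transitive groups whose two-point stabiliser is simple with abelian Sylow 2-subgroups**, from the
classification of the 2-transitive groups. -/
theorem main [Finite G] [FaithfulSMul G Ω] [Finite Ω] (h2 : IsMultiplyPretransitive G Ω 2) {a b : Ω} (hab : a ≠ b)
    (hs : SA ↥(stabilizer G a ⊓ stabilizer G b)) (hK : ∀ T : Subgroup G, AS G Ω T → Known2 T (Nat.card Ω)) :
    Nonempty (G ≃* ↥(alternatingGroup (Fin 7))) ∨ Cfsg.Spor.IsoM11 G ∨
      (∃ N : Subgroup G, N.Normal ∧ MulAction.IsPretransitive ↥N Ω ∧ ∀ x : Ω, MulAction.stabilizer ↥N x = ⊥) := by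
  have h3 : 3 ≤ Nat.card Ω := by
    by_contra hcon
    push Not at hcon
    apply hs.2.1
    have h4 : ∀ g : ↥(stabilizer G a ⊓ stabilizer G b), g = 1 := by
      intro g
      apply Subtype.ext
      apply FaithfulSMul.eq_of_smul_eq_smul (α := Ω)
      intro x
      show (g : G) • x = (1 : G) • x
      rw [one_smul]
      by_cases hxa : x = a
      · rw [hxa]; exact g.2.1
      by_cases hxb : x = b
      · rw [hxb]; exact g.2.2
      exfalso
      have h5 : Function.Injective (![a, b, x] : Fin 3 → Ω) := by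
        intro i j hij
        fin_cases i <;> fin_cases j <;> simp_all
      have h6 := Nat.card_le_card_of_injective _ h5
      rw [Nat.card_fin] at h6
      omega
    exact ⟨⟨fun x y => by rw [h4 x, h4 y]⟩⟩
  rcases reduction h2 h3 with ⟨N, hN, -, -, -, htr, hreg⟩ | ⟨T, A⟩
  · right; right
    refine ⟨N, hN, ⟨fun x y => ?_⟩, fun x => ?_⟩
    · obtain ⟨n, hn, h⟩ := htr x y
      exact ⟨⟨n, hn⟩, h⟩
    · rw [eq_bot_iff]
      intro n hn
      rw [Subgroup.mem_bot]
      apply Subtype.ext
      exact hreg x n n.2 hn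
  · rcases almost A (hK T A) hab hs with h | h
    · exact Or.inl h
    · exact Or.inr (Or.inl h)

end Cfsg.Agent.H488.TwoSimple
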