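import Cfsg.Agent.H488.TwoSimpleLie

/-!
# 2-transitive groups whose two-point stabiliser is simple (S3400): `PSL_d(q)`, `d ≥ 3`
-/

set_option autoImplicit false
set_option linter.unusedSectionVars false

namespace Cfsg.Agent.H488.TwoSimple

open MulAction Matrix Cfsg.Agent.H392.MultTrans Cfsg.Agent.H384.TwoTrans Cfsg.Agent.H488.ThreeHalf
  Cfsg.Agent.H488.WalterNum
open scoped LinearAlgebra.Projectivization

universe u v

section vec

variable {F : Type*} [Field F] {ι : Type*} [Fintype ι] [DecidableEq ι]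

/-- the plane `⟨e_i, e_j⟩` -/
def InSp (i j : ι) (u : ι → F) : Prop := ∀ k, k ≠ i → k ≠ j → u k = 0

theorem InSp.eq {i j : ι} (hij : i ≠ j) {u : ι → F} (h : InSp i j u) :
    u = u i • Pi.single i 1 + u j • Pi.single j 1 := by
  ext k
  by_cases hi : k = i
  · subst hi
    simp [Pi.single_eq_of_ne hij]
  by_cases hj : k = j
  · subst hj
    simp [Pi.single_eq_of_ne hij.symm]
  · rw [h k hi hj]
    simp [Pi.single_eq_of_ne hi, Pi.single_eq_of_ne hj]

theorem InSp.add {i j : ι} {u v : ι → F} (h : InSp i j u) (h' : InSp i j v) : InSp i j (u + v) := by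
  intro k hi hj
  rw [Pi.add_apply, h k hi hj, h' k hi hj, add_zero]

theorem InSp.neg {i j : ι} {u : ι → F} (h : InSp i j u) : InSp i j (-u) := by
  intro k hi hj
  rw [Pi.neg_apply, h k hi hj, neg_zero]

theorem InSp.smul {i j : ι} {u : ι → F} (h : InSp i j u) (c : F) : InSp i j (c • u) := by
  intro k hi hj
  rw [Pi.smul_apply, h k hi hj, smul_zero]

theorem inSp_i {i j : ι} : InSp i j (Pi.single i 1 : ι → F) := by
  intro k hi _
  rw [Pi.single_eq_of_ne hi]

theorem inSp_j {i j : ι} : InSp i j (Pi.single j 1 : ι → F) := by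
  intro k _ hj
  rw [Pi.single_eq_of_ne hj]

theorem fix_InSp {i j : ι} (hij : i ≠ j) {M : SpecialLinearGroup ι F}
    (h1 : M.1 *ᵥ (Pi.single i 1) = (Pi.single i 1 : ι → F)) (h2 : M.1 *ᵥ (Pi.single j 1) = (Pi.single j 1 : ι → F))
    {u : ι → F} (hu : InSp i j u) : M.1 *ᵥ u = u := by
  rw [hu.eq hij, mulVec_add, mulVec_smul, mulVec_smul, h1, h2]

theorem mul_mulVec (M N : SpecialLinearGroup ι F) (v : ι → F) : (M * N).1 *ᵥ v = M.1 *ᵥ (N.1 *ᵥ v) := by
  rw [mulVec_mulVec]; rfl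

theorem one_mulVec' (v : ι → F) : (1 : SpecialLinearGroup ι F).1 *ᵥ v = v := one_mulVec v

theorem inv_mulVec (M : SpecialLinearGroup ι F) {v w : ι → F} (h : M.1 *ᵥ v = w) : M⁻¹.1 *ᵥ w = v := by
  rw [← h, ← mul_mulVec, inv_mul_cancel]
  exact one_mulVec v

/-- the unipotent radical: trivial on `⟨e_i, e_j⟩` and on the quotient -/
def W {i j : ι} (hij : i ≠ j) : Subgroup (SpecialLinearGroup ι F) where
  carrier := {M | M.1 *ᵥ (Pi.single i 1) = (Pi.single i 1 : ι → F) ∧ M.1 *ᵥ (Pi.single j 1) = (Pi.single j 1 : ι → F) ∧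
    ∀ v, InSp i j (M.1 *ᵥ v - v)}
  mul_mem' := by
    rintro M N ⟨h1, h2, h3⟩ ⟨h4, h5, h6⟩
    refine ⟨?_, ?_, fun v => ?_⟩
    · rw [mul_mulVec, h4, h1]
    · rw [mul_mulVec, h5, h2]
    · have : (M * N).1 *ᵥ v - v = (M.1 *ᵥ (N.1 *ᵥ v) - N.1 *ᵥ v) + (N.1 *ᵥ v - v) := by
        rw [mul_mulVec, sub_add_sub_cancel]
      rw [this]
      exact (h3 _).add (h6 v)
  one_mem' := by
    refine ⟨one_mulVec _, one_mulVec _, fun v => ?_⟩
    have : (1 : SpecialLinearGroup ι F).1 *ᵥ v - v = 0 := by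
      rw [one_mulVec', sub_self]
    rw [this]
    intro k _ _
    rfl
  inv_mem' := by
    rintro M ⟨h1, h2, h3⟩
    refine ⟨inv_mulVec M h1, inv_mulVec M h2, fun v => ?_⟩
    have h4 := h3 (M⁻¹.1 *ᵥ v)
    rw [← mul_mulVec, mul_inv_cancel, one_mulVec'] at h4
    have : M⁻¹.1 *ᵥ v - v = -(v - M⁻¹.1 *ᵥ v) := by rw [neg_sub]
    rw [this]
    exact h4.neg

theorem W_comm {i j : ι} (hij : i ≠ j) {M N : SpecialLinearGroup ι F} (hM : M ∈ W hij) (hN : N ∈ W hij) :
    M * N = N * M := by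
  obtain ⟨h1, h2, h3⟩ := hM
  obtain ⟨h4, h5, h6⟩ := hN
  apply Subtype.ext
  apply Matrix.ext_of_mulVec_single
  intro k
  have key : ∀ v : ι → F, (M * N).1 *ᵥ v = (N * M).1 *ᵥ v := by
    intro v
    rw [mul_mulVec, mul_mulVec]
    have e1 : M.1 *ᵥ (N.1 *ᵥ v) = M.1 *ᵥ v + (N.1 *ᵥ v - v) := by
      have h7 := fix_InSp hij h1 h2 (h6 v)
      rw [mulVec_sub] at h7
      rw [← h7]
      abel
    have e2 : N.1 *ᵥ (M.1 *ᵥ v) = N.1 *ᵥ v + (M.1 *ᵥ v - v) := by
      have h7 := fix_InSp hij h4 h5 (h3 v)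
      rw [mulVec_sub] at h7
      rw [← h7]
      abel
    rw [e1, e2]
    abel
  exact key _

theorem W_conj {i j : ι} (hij : i ≠ j) {g M : SpecialLinearGroup ι F} (hi : g • P F i = P F i) (hj : g • P F j = P F j)
    (hM : M ∈ W hij) : g * M * g⁻¹ ∈ W hij := by
  obtain ⟨l, hl, hgi⟩ := fix_P hi
  obtain ⟨m, hm, hgj⟩ := fix_P hj
  obtain ⟨h1, h2, h3⟩ := hM
  have e1 : g⁻¹.1 *ᵥ (Pi.single i 1) = l⁻¹ • (Pi.single i 1 : ι → F) := by
    apply inv_mulVec
    rw [mulVec_smul, hgi, smul_smul, inv_mul_cancel₀ hl, one_smul]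
  have e2 : g⁻¹.1 *ᵥ (Pi.single j 1) = m⁻¹ • (Pi.single j 1 : ι → F) := by
    apply inv_mulVec
    rw [mulVec_smul, hgj, smul_smul, inv_mul_cancel₀ hm, one_smul]
  refine ⟨?_, ?_, fun v => ?_⟩
  · rw [mul_mulVec, mul_mulVec, e1, mulVec_smul, h1, mulVec_smul, hgi, smul_smul, inv_mul_cancel₀ hl, one_smul]
  · rw [mul_mulVec, mul_mulVec, e2, mulVec_smul, h2, mulVec_smul, hgj, smul_smul, inv_mul_cancel₀ hm, one_smul]
  · have h4 : (g * M * g⁻¹).1 *ᵥ v - v = g.1 *ᵥ (M.1 *ᵥ (g⁻¹.1 *ᵥ v) - g⁻¹.1 *ᵥ v) := by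
      rw [mulVec_sub, ← mul_mulVec g g⁻¹, mul_inv_cancel, one_mulVec', mul_mulVec, mul_mulVec]
    rw [h4, (h3 (g⁻¹.1 *ᵥ v)).eq hij, mulVec_add, mulVec_smul, mulVec_smul, hgi, hgj]
    exact ((inSp_i.smul _).smul _).add ((inSp_j.smul _).smul _)

theorem tr_mem_W {i j k : ι} (hij : i ≠ j) (hik : i ≠ k) (hjk : j ≠ k) (x : F) :
    SpecialLinearGroup.transvection hik x ∈ W hij := by
  refine ⟨?_, ?_, fun v => ?_⟩
  · rw [tr_single, if_neg hik]
  · rw [tr_single, if_neg hjk]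
  · have h0 : (SpecialLinearGroup.transvection hik x).1 = 1 + Matrix.single i k x := rfl
    rw [h0, add_mulVec, one_mulVec, add_sub_cancel_left]
    intro l hl _
    rw [mulVec, dotProduct]
    apply Finset.sum_eq_zero
    intro c _
    rw [Matrix.single_apply, if_neg (fun h => hl h.1.symm), zero_mul]

end vec

variable {G : Type u} {Ω : Type v} [Group G] [MulAction G Ω] {T : Subgroup G}

theorem psl_three_false (A : AS G Ω T) {a b : Ω} (hab : a ≠ b) (hs : SA ↥(stabilizer G a ⊓ stabilizer G b))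
    {F : Type*} [Field F] [Fintype F] {ι : Type*} [Fintype ι] [DecidableEq ι] {i j k : ι} (hij : i ≠ j)
    (hik : i ≠ k) (hjk : j ≠ k) (e : T ≃* ProjectiveSpecialLinearGroup ι F) (Φ : Ω ≃ ℙ F (ι → F))
    (hΦ : ∀ (t : T) (ω : Ω), Φ (t • ω) = e t • Φ ω) : False := by
  have := A.finG
  have := A.finΩ
  have hlift : ∀ (M : SpecialLinearGroup ι F) (p : ℙ F (ι → F)),
      e.symm (QuotientGroup.mk M) • Φ.symm p = Φ.symm (M • p) := by
    intro M p
    apply Φ.injective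
    rw [hΦ, e.apply_symm_apply, Φ.apply_symm_apply, Φ.apply_symm_apply]
    rfl
  have hPne : ∀ {i j : ι}, i ≠ j → P F i ≠ P F j := by
    intro i j hij h
    rw [P, P, Projectivization.mk_eq_mk_iff'] at h
    obtain ⟨l, hl⟩ := h
    have := congrFun hl i
    simp [Pi.single_eq_of_ne hij] at this
  have hcd : Φ.symm (P F i) ≠ Φ.symm (P F j) := fun h => hPne hij (Φ.symm.injective h)
  obtain ⟨f⟩ := exists_equiv A hab hcd
  obtain ⟨hs1, hs2, -⟩ := hs.congr f
  have hle := le_T A hcd hs1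
  set L := stabilizer G (Φ.symm (P F i)) ⊓ stabilizer G (Φ.symm (P F j)) with hL
  have hstab : ∀ (x : L) (M : SpecialLinearGroup ι F), e ⟨x.1, hle x.2⟩ = QuotientGroup.mk M →
      M • P F i = P F i ∧ M • P F j = P F j := by
    intro x M hM
    have hx : (⟨x.1, hle x.2⟩ : T) = e.symm (QuotientGroup.mk M) := by rw [← hM, e.symm_apply_apply]
    constructor
    · apply Φ.symm.injective
      rw [← hlift, ← hx]
      exact x.2.1
    · apply Φ.symm.injective
      rw [← hlift, ← hx]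
      exact x.2.2
  let N : Subgroup L :=
    { carrier := {x | ∃ M ∈ W (F := F) hij, e ⟨x.1, hle x.2⟩ = QuotientGroup.mk M}
      mul_mem' := by
        rintro x y ⟨M, hM, h1⟩ ⟨M', hM', h2⟩
        refine ⟨M * M', mul_mem hM hM', ?_⟩
        rw [QuotientGroup.mk_mul, ← h1, ← h2, ← map_mul]
        rfl
      one_mem' := ⟨1, one_mem _, by
        rw [QuotientGroup.mk_one, ← map_one e]
        rfl⟩
      inv_mem' := by
        rintro x ⟨M, hM, h1⟩
        refine ⟨M⁻¹, inv_mem hM, ?_⟩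
        rw [QuotientGroup.mk_inv, ← h1, ← map_inv]
        rfl }
  have hN : N.Normal := by
    refine ⟨fun x hx g => ?_⟩
    obtain ⟨M, hM, h1⟩ := hx
    obtain ⟨m, hm⟩ := QuotientGroup.mk_surjective (e ⟨g.1, hle g.2⟩)
    obtain ⟨h2, h3⟩ := hstab g m hm.symm
    refine ⟨m * M * m⁻¹, W_conj hij h2 h3 hM, ?_⟩
    rw [QuotientGroup.mk_mul, QuotientGroup.mk_mul, QuotientGroup.mk_inv, hm, ← h1, ← map_inv, ← map_mul, ← map_mul]
    rfl
  rcases hs1.eq_bot_or_eq_top_of_normal N hN with h1 | h1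
  · -- the transvection
    set M := SpecialLinearGroup.transvection hik (1 : F) with hM
    have hmem : ((e.symm (QuotientGroup.mk M) : T) : G) ∈ L := by
      refine ⟨?_, ?_⟩
      · show e.symm (QuotientGroup.mk M) • Φ.symm (P F i) = _
        rw [hlift, hM, tr_P hik hik]
      · show e.symm (QuotientGroup.mk M) • Φ.symm (P F j) = _
        rw [hlift, hM, tr_P hik hjk]
    have h2 : (⟨_, hmem⟩ : L) ∈ N := ⟨M, tr_mem_W hij hik hjk 1, by
      show e (e.symm (QuotientGroup.mk M)) = _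
      rw [e.apply_symm_apply]⟩
    rw [h1, Subgroup.mem_bot] at h2
    have h3 : ((e.symm (QuotientGroup.mk M) : T) : G) = 1 := congrArg Subtype.val h2
    have h4 : ((e.symm (QuotientGroup.mk M) : T) : G) • Φ.symm (P F k) = Φ.symm (M • P F k) := hlift M (P F k)
    rw [h3, one_smul] at h4
    have h5 := Φ.symm.injective h4
    have h6 : M • P F k = Q hik hjk 1 0 := by
      have := tr_Q hik hjk (1 : F) 0
      rwa [SpecialLinearGroup.transvection_coeff_zero, mul_one] at this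
    have h7 : P F k = Q hik hjk (0 : F) 0 := by
      have := tr_Q hik hjk (0 : F) 0
      rwa [SpecialLinearGroup.transvection_coeff_zero, SpecialLinearGroup.transvection_coeff_zero, mul_one, one_smul] at this
    rw [h6, h7] at h5
    exact zero_ne_one (Q_inj hij hik hjk h5).1
  · apply hs2
    refine ⟨⟨fun x y => ?_⟩⟩
    obtain ⟨M, hM, hx⟩ : x ∈ N := h1 ▸ Subgroup.mem_top x
    obtain ⟨M', hM', hy⟩ : y ∈ N := h1 ▸ Subgroup.mem_top y
    have h2 : (⟨x.1, hle x.2⟩ : T) * ⟨y.1, hle y.2⟩ = (⟨y.1, hle y.2⟩ : T) * ⟨x.1, hle x.2⟩ := by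
      apply e.injective
      rw [map_mul, map_mul, hx, hy, ← QuotientGroup.mk_mul, ← QuotientGroup.mk_mul, W_comm hij hM hM']
    apply Subtype.ext
    exact congrArg (fun z : T => (z : G)) h2

/-- **The row `PSL_d(q)`, `d ≥ 3`.** -/
theorem psl_false (A : AS G Ω T) {a b : Ω} (hab : a ≠ b) (hs : SA ↥(stabilizer G a ⊓ stabilizer G b))
    {F : Type*} [Field F] [Fintype F] {d : ℕ}
    (hd : 3 ≤ d) (e : Nonempty (T ≃* ProjectiveSpecialLinearGroup (Fin d) F))
    (hn : Nat.card Ω * (Fintype.card F - 1) = Fintype.card F ^ d - 1) : False := by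
  obtain ⟨e⟩ := e
  obtain ⟨r, hch⟩ := CharP.exists F
  obtain ⟨-, hr, -⟩ := FiniteField.card F r
  have := Fact.mk hr
  obtain ⟨k, rfl⟩ : ∃ k, d = k + 1 + 1 + 1 := ⟨d - 3, by omega⟩
  obtain ⟨e', Φ, hΦ⟩ := Cfsg.Agent.H410.ASLie.psl_equiv (m := k + 1) A e (char_not_dvd (d := k + 1 + 1 + 1) hr (by omega) hn)
  refine psl_three_false A hab hs (i := (0 : Fin (k + 1 + 1 + 1))) (j := 1) (k := ⟨2, by omega⟩) ?_ ?_ ?_ e' Φ hΦ
  · intro h
    have := congrArg Fin.val h
    simp at this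
  · intro h
    have := congrArg Fin.val h
    simp at this
  · intro h
    have := congrArg Fin.val h
    simp at this

end Cfsg.Agent.H488.TwoSimple
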