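import Cfsg.Agent.S0506
import Cfsg.Agent.BpAlt.Row
import Cfsg.Agent.ClassicalGeometry.PSL2Basic

/-!
# Orders of the simple groups with abelian Sylow 2-subgroups
-/

set_option autoImplicit false

namespace Cfsg.Agent.H488.WalterNum

/-- the orders of the simple groups with abelian Sylow 2-subgroups -/
def WN (N : ℕ) : Prop :=
  (∃ a, 2 ≤ a ∧ N = 2 ^ a * (4 ^ a - 1)) ∨ (∃ q, 5 ≤ q ∧ (q % 8 = 3 ∨ q % 8 = 5) ∧ 2 * N = q * (q ^ 2 - 1)) ∨
    (∃ m, 1 ≤ m ∧ N = (3 ^ (2 * m + 1)) ^ 3 * ((3 ^ (2 * m + 1)) ^ 3 + 1) * (3 ^ (2 * m + 1) - 1)) ∨ N = 175560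

theorem sixty_le {L : Type*} [Group L] [Finite L] (hs : IsSimpleGroup L) (hna : ¬ IsMulCommutative L) :
    60 ≤ Nat.card L := by
  by_contra h
  push Not at h
  have h1 := Cfsg.Agent.BpAlt.solvable_of_lt _ L rfl h
  apply hna
  have h2 := hs.comm_iff_isSolvable
  exact ⟨⟨h2.2 h1⟩⟩

theorem walter_num {L : Type*} [Group L] [Finite L] (hs : IsSimpleGroup L) (hna : ¬ IsMulCommutative L)
    (h2 : ∀ S : Sylow 2 L, IsMulCommutative (S : Subgroup L)) : WN (Nat.card L) := by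
  have := Fact.mk Nat.prime_two
  obtain ⟨S⟩ : Nonempty (Sylow 2 L) := inferInstance
  rcases Cfsg.Agent.S0506.result hna S (h2 S) with ⟨a, ha, F, _, _, hF, ⟨e⟩⟩ | ⟨F, _, _, hF, ⟨e⟩⟩ | ⟨-, m, hm, h⟩ | ⟨-, h⟩
  · left
    refine ⟨a, ha, ?_⟩
    rw [Nat.card_congr e.toEquiv, Cfsg.Agent.ClassicalGeometry.PSL2Basic.card_PSL2_even F (by
      rw [hF]; exact Nat.even_pow.2 ⟨even_two, by omega⟩), hF]
    congr 2
    rw [← pow_mul, show (4 : ℕ) = 2 ^ 2 from rfl, ← pow_mul, mul_comm]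
  · right; left
    have h60 := sixty_le hs hna
    have hc := Cfsg.Agent.ClassicalGeometry.PSL2Basic.card_PSL2_odd F (by
      rw [Nat.odd_iff]; omega)
    rw [← Nat.card_congr e.toEquiv] at hc
    refine ⟨Fintype.card F, ?_, hF, by rw [← hc, mul_comm]⟩
    by_contra hlt
    push Not at hlt
    have h3 : Fintype.card F = 3 := by omega
    rw [h3] at hc
    omega
  · right; right; left
    exact ⟨m, hm, h⟩
  · right; right; right
    exact h

theorem mod_ree (m : ℕ) : (3 ^ (2 * m + 1)) % 16 = 3 ∨ (3 ^ (2 * m + 1)) % 16 = 11 := by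
  induction m with
  | zero => left; norm_num
  | succ m ih =>
    have h1 : 3 ^ (2 * (m + 1) + 1) = 3 ^ (2 * m + 1) * 9 := by ring
    rw [h1]
    omega

theorem ree_ge {m : ℕ} (hm : 1 ≤ m) : 27 ≤ 3 ^ (2 * m + 1) :=
  calc 27 = 3 ^ 3 := by norm_num
    _ ≤ _ := Nat.pow_le_pow_right (by norm_num) (by omega)

/-- only the groups `PSL₂(2^k)` have order divisible by 16 -/
theorem of_sixteen {N : ℕ} (h : WN N) (h16 : 16 ∣ N) : ∃ a, 2 ≤ a ∧ N = 2 ^ a * (4 ^ a - 1) := by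
  rcases h with h | ⟨q, hq, hq8, hN⟩ | ⟨m, hm, hN⟩ | hN
  · exact h
  · exfalso
    -- `q (q^2 - 1) ≡ 8 (mod 16)`
    obtain ⟨k, rfl⟩ := h16
    obtain ⟨x, rfl⟩ : ∃ x, q = x + 1 := ⟨q - 1, by omega⟩
    have h1 : (x + 1) ^ 2 - 1 = x * (x + 2) := by
      have : (x + 1) ^ 2 = x * (x + 2) + 1 := by ring
      omega
    rw [h1] at hN
    rcases hq8 with h8 | h8
    · obtain ⟨y, hy⟩ : ∃ y, x = 8 * y + 2 := ⟨x / 8, by omega⟩
      subst hy
      have h3 : (8 * y + 2 + 1) * ((8 * y + 2) * (8 * y + 2 + 2)) = 16 * (32 * y ^ 3 + 36 * y ^ 2 + 13 * y + 1) + 8 := by ring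
      rw [h3] at hN
      omega
    · obtain ⟨y, hy⟩ : ∃ y, x = 8 * y + 4 := ⟨x / 8, by omega⟩
      subst hy
      have h3 : (8 * y + 4 + 1) * ((8 * y + 4) * (8 * y + 4 + 2)) = 16 * (32 * y ^ 3 + 60 * y ^ 2 + 37 * y + 7) + 8 := by ring
      rw [h3] at hN
      omega
  · exfalso
    have h1 := mod_ree m
    obtain ⟨k, rfl⟩ := h16
    generalize 3 ^ (2 * m + 1) = q at h1 hN
    rcases h1 with h1 | h1
    · obtain ⟨y, rfl⟩ : ∃ y, q = 16 * y + 3 := ⟨q / 16, by omega⟩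
      have h3 : (16 * y + 3) ^ 3 * ((16 * y + 3) ^ 3 + 1) * (16 * y + 3 - 1) % 16 = 8 := by
        rw [show 16 * y + 3 - 1 = 16 * y + 2 by omega, Nat.mul_mod, Nat.mul_mod ((16 * y + 3) ^ 3), Nat.add_mod ((16 * y + 3) ^ 3),
          Nat.pow_mod]
        norm_num [Nat.add_mod, Nat.mul_mod]
      omega
    · obtain ⟨y, rfl⟩ : ∃ y, q = 16 * y + 11 := ⟨q / 16, by omega⟩
      have h3 : (16 * y + 11) ^ 3 * ((16 * y + 11) ^ 3 + 1) * (16 * y + 11 - 1) % 16 = 8 := by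
        rw [show 16 * y + 11 - 1 = 16 * y + 10 by omega, Nat.mul_mod, Nat.mul_mod ((16 * y + 11) ^ 3), Nat.add_mod ((16 * y + 11) ^ 3),
          Nat.pow_mod]
        norm_num [Nat.add_mod, Nat.mul_mod]
      omega
  · omega

/-- the 2-part determines the order if it is at least 16 -/
theorem of_two_part {N k m : ℕ} (h : WN N) (hk : 4 ≤ k) (hm : Odd m) (hN : N = 2 ^ k * m) :
    N = 2 ^ k * (4 ^ k - 1) := by
  obtain ⟨a, ha, h1⟩ := of_sixteen h (by
    rw [hN]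
    exact ((pow_dvd_pow 2 hk : 2 ^ 4 ∣ 2 ^ k)).mul_right m)
  have hodd : Odd (4 ^ a - 1) := by
    have : Even (4 ^ a) := Nat.even_pow.2 ⟨by decide, by omega⟩
    obtain ⟨x, hx⟩ := this
    have : 0 < 4 ^ a := by positivity
    exact ⟨x - 1, by omega⟩
  have hak : a = k := by
    have h2 : 2 ^ a * (4 ^ a - 1) = 2 ^ k * m := h1.symm.trans hN
    apply le_antisymm
    · have h3 : 2 ^ a ∣ 2 ^ k * m := ⟨_, h2.symm⟩
      have h4 : Nat.Coprime (2 ^ a) m := (Nat.coprime_two_left.2 hm).pow_left a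
      exact (Nat.pow_dvd_pow_iff_le_right (by norm_num)).1 (h4.dvd_of_dvd_mul_right h3)
    · have h3 : 2 ^ k ∣ 2 ^ a * (4 ^ a - 1) := ⟨_, h2⟩
      have h4 : Nat.Coprime (2 ^ k) (4 ^ a - 1) := (Nat.coprime_two_left.2 hodd).pow_left k
      exact (Nat.pow_dvd_pow_iff_le_right (by norm_num)).1 (h4.dvd_of_dvd_mul_right h3)
  rw [h1, hak]

theorem four_dvd {N : ℕ} (h : WN N) : 4 ∣ N := by
  rcases h with ⟨a, ha, rfl⟩ | ⟨q, hq, hq8, hN⟩ | ⟨m, hm, hN⟩ | hN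
  · exact ((pow_dvd_pow 2 ha : 2 ^ 2 ∣ 2 ^ a)).mul_right _
  · obtain ⟨x, rfl⟩ : ∃ x, q = x + 1 := ⟨q - 1, by omega⟩
    have h1 : (x + 1) ^ 2 - 1 = x * (x + 2) := by
      have : (x + 1) ^ 2 = x * (x + 2) + 1 := by ring
      omega
    rw [h1] at hN
    rcases hq8 with h8 | h8
    · obtain ⟨y, hy⟩ : ∃ y, x = 8 * y + 2 := ⟨x / 8, by omega⟩
      subst hy
      have h3 : (8 * y + 2 + 1) * ((8 * y + 2) * (8 * y + 2 + 2)) = 16 * (32 * y ^ 3 + 36 * y ^ 2 + 13 * y + 1) + 8 := by ring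
      rw [h3] at hN
      omega
    · obtain ⟨y, hy⟩ : ∃ y, x = 8 * y + 4 := ⟨x / 8, by omega⟩
      subst hy
      have h3 : (8 * y + 4 + 1) * ((8 * y + 4) * (8 * y + 4 + 2)) = 16 * (32 * y ^ 3 + 60 * y ^ 2 + 37 * y + 7) + 8 := by ring
      rw [h3] at hN
      omega
  · have h1 := mod_ree m
    rw [hN]
    apply Dvd.dvd.mul_right
    apply Dvd.dvd.mul_left
    generalize 3 ^ (2 * m + 1) = q at h1
    have h3 : (q ^ 3 + 1) % 4 = 0 := by
      have h4 : q % 4 = 3 := by omega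
      rw [Nat.add_mod, Nat.pow_mod, h4]
    exact Nat.dvd_of_mod_eq_zero h3
  · exact ⟨43890, by omega⟩

theorem three_dvd {N : ℕ} (h : WN N) : 3 ∣ N := by
  rcases h with ⟨a, ha, rfl⟩ | ⟨q, hq, hq8, hN⟩ | ⟨m, hm, hN⟩ | hN
  · apply Dvd.dvd.mul_left
    have h1 : 4 ^ a % 3 = 1 := by rw [Nat.pow_mod]; norm_num
    have h2 : 0 < 4 ^ a := by positivity
    omega
  · have h1 : 3 ∣ 2 * N := by
      rw [hN]
      obtain ⟨x, rfl⟩ : ∃ x, q = x + 1 := ⟨q - 1, by omega⟩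
      have h1 : (x + 1) ^ 2 - 1 = x * (x + 2) := by
        have : (x + 1) ^ 2 = x * (x + 2) + 1 := by ring
        omega
      rw [h1]
      rcases (by omega : x % 3 = 0 ∨ x % 3 = 1 ∨ x % 3 = 2) with h2 | h2 | h2
      · exact ((Nat.dvd_of_mod_eq_zero h2).mul_right _).mul_left _
      · exact ((Nat.dvd_of_mod_eq_zero (by omega : (x + 2) % 3 = 0)).mul_left _).mul_left _
      · exact (Nat.dvd_of_mod_eq_zero (by omega : (x + 1) % 3 = 0)).mul_right _
    omega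
  · rw [hN]
    apply Dvd.dvd.mul_right
    apply Dvd.dvd.mul_right
    exact dvd_pow (dvd_pow_self 3 (by omega)) (by norm_num)
  · omega

/-- small orders -/
theorem small {N : ℕ} (h : WN N) (hN : N < 504) : N = 60 := by
  rcases h with ⟨a, ha, h⟩ | ⟨q, hq, hq8, hN⟩ | ⟨m, hm, hN⟩ | hN
  · rcases Nat.lt_or_ge a 3 with h1 | h1
    · interval_cases a
      omega
    · have h2 : 2 ^ 3 ≤ 2 ^ a := Nat.pow_le_pow_right (by norm_num) h1
      have h3 : 4 ^ 3 ≤ 4 ^ a := Nat.pow_le_pow_right (by norm_num) h1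
      have h4 : 8 * 63 ≤ 2 ^ a * (4 ^ a - 1) := Nat.mul_le_mul (by omega) (by omega)
      omega
  · rcases Nat.lt_or_ge q 11 with h1 | h1
    · interval_cases q <;> omega
    · have h2 : 11 ^ 2 ≤ q ^ 2 := Nat.pow_le_pow_left h1 2
      have h4 : 11 * 120 ≤ q * (q ^ 2 - 1) := Nat.mul_le_mul h1 (by omega)
      omega
  · have h1 := ree_ge hm
    generalize 3 ^ (2 * m + 1) = q at h1 hN
    have h2 : 27 ^ 3 ≤ q ^ 3 := Nat.pow_le_pow_left h1 3
    have h3 : 27 ^ 3 * 1 * 1 ≤ q ^ 3 * (q ^ 3 + 1) * (q - 1) :=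
      Nat.mul_le_mul (Nat.mul_le_mul h2 (by omega)) (by omega)
    omega
  · omega

/-- the property of the two-point stabiliser -/
def SA (L : Type*) [Group L] : Prop :=
  IsSimpleGroup L ∧ ¬ IsMulCommutative L ∧ ∀ S : Sylow 2 L, IsMulCommutative (S : Subgroup L)

theorem comm_congr {A B : Type*} [Group A] [Group B] (e : A ≃* B) (h : IsMulCommutative A) : IsMulCommutative B :=
  ⟨⟨fun x y => by
    apply e.symm.injective
    rw [map_mul, map_mul]
    exact h.is_comm.comm _ _⟩⟩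

theorem SA.congr {A B : Type*} [Group A] [Group B] (e : A ≃* B) (h : SA A) : SA B := by
  obtain ⟨h1, h2, h3⟩ := h
  refine ⟨e.symm.isSimpleGroup, fun h => h2 (comm_congr e.symm h), fun S => ?_⟩
  have h4 := h3 (S.comapOfInjective e.toMonoidHom e.injective (by
    rw [MonoidHom.range_eq_top.2 e.surjective]
    exact le_top))
  refine ⟨⟨fun x y => ?_⟩⟩
  have hmem : ∀ z : (S : Subgroup B), e.symm (z : B) ∈ (S.comapOfInjective e.toMonoidHom e.injective (by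
    rw [MonoidHom.range_eq_top.2 e.surjective]
    exact le_top) : Sylow 2 A) := by
    intro z
    show e (e.symm (z : B)) ∈ (S : Subgroup B)
    rw [e.apply_symm_apply]
    exact z.2
  have h5 := congrArg Subtype.val (h4.is_comm.comm ⟨_, hmem x⟩ ⟨_, hmem y⟩)
  apply Subtype.ext
  apply e.symm.injective
  show e.symm ((x : B) * (y : B)) = e.symm ((y : B) * (x : B))
  rw [map_mul, map_mul]
  exact h5

theorem SA.wn {L : Type*} [Group L] [Finite L] (h : SA L) : WN (Nat.card L) := walter_num h.1 h.2.1 h.2.2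

/-- 2-elements generating a 2-group commute -/
theorem SA.comm {L : Type*} [Group L] (h : SA L) {P : Subgroup L} (hP : IsPGroup 2 P) : IsMulCommutative P := by
  obtain ⟨S, hS⟩ := hP.exists_le_sylow
  have h1 := h.2.2 S
  refine ⟨⟨fun x y => ?_⟩⟩
  have h2 := congrArg Subtype.val (h1.is_comm.comm ⟨(x : L), hS x.2⟩ ⟨(y : L), hS y.2⟩)
  exact Subtype.ext h2

end Cfsg.Agent.H488.WalterNum
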