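import Cfsg.Agent.H488.TwoSimple
import Cfsg.Agent.H488.WalterNum
import Cfsg.Agent.H488.ThreeMain
import Cfsg.Agent.S2061
import Cfsg.Agent.S2062
import Cfsg.Agent.S2063
import Cfsg.Agent.S2064
import Cfsg.Agent.S2071
import Cfsg.Agent.S2072

/-!
# 2-transitive groups whose two-point stabiliser is simple (S3400): numerical rows
-/

set_option autoImplicit false
set_option linter.unusedSectionVars false

namespace Cfsg.Agent.H488.TwoSimple

open MulAction Cfsg.Agent.H392.MultTrans Cfsg.Agent.H384.TwoTrans Cfsg.Agent.H488.ThreeHalf Cfsg.Agent.H488.WalterNum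

universe u v

variable {G : Type u} {Ω : Type v} [Group G] [MulAction G Ω] {T : Subgroup G}

/-- the order of `L` if `T = G` -/
theorem card_L (A : AS G Ω T) {a b : Ω} (hab : a ≠ b) (hs : SA ↥(stabilizer G a ⊓ stabilizer G b))
    (hi : T.index = 1) :
    Nat.card T = Nat.card Ω * (Nat.card Ω - 1) * Nat.card ↥(stabilizer G a ⊓ stabilizer G b) := by
  obtain ⟨l, h1, h2⟩ := numbers A hab hs.1
  rw [hi, mul_one] at h2
  rw [h1, h2]

theorem index_one (A : AS G Ω T) {a b : Ω} (hab : a ≠ b) (hs : SA ↥(stabilizer G a ⊓ stabilizer G b))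
    {X : Type*} [Group X] (e : T ≃* X) (h : Nat.Coprime (Nat.card Ω - 1) (Nat.card (Cfsg.Out X))) : T.index = 1 := by
  obtain ⟨l, -, h2⟩ := numbers A hab hs.1
  exact Nat.eq_one_of_dvd_coprimes h (h2 ▸ Dvd.intro_left _ rfl) (index_dvd A e)

theorem m12_false (A : AS G Ω T) {a b : Ω} (hab : a ≠ b) (hs : SA ↥(stabilizer G a ⊓ stabilizer G b))
    (hn : Nat.card Ω = 12) (h : Cfsg.Spor.IsoM12 T) : False := by
  have := A.finG
  have hT := Cfsg.Agent.NotCT.Orders.m12 h
  obtain ⟨e⟩ := h
  have hi := index_one A hab hs e (by rw [hn, Cfsg.Agent.S2061.result]; norm_num)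
  have h1 := card_L A hab hs hi
  rw [hn, hT] at h1
  have h2 := hs.wn
  rw [show Nat.card ↥(stabilizer G a ⊓ stabilizer G b) = 720 by omega] at h2
  have h3 := of_two_part (k := 4) (m := 45) h2 (by norm_num) (by decide) (by norm_num)
  norm_num at h3

theorem m22_false (A : AS G Ω T) {a b : Ω} (hab : a ≠ b) (hs : SA ↥(stabilizer G a ⊓ stabilizer G b))
    (hn : Nat.card Ω = 22) (h : Cfsg.Spor.IsoM22 T) : False := by
  have := A.finG
  have hT := Cfsg.Agent.NotCT.Orders.m22 h
  obtain ⟨e⟩ := h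
  have hi := index_one A hab hs e (by rw [hn, Cfsg.Agent.S2062.result]; norm_num)
  have h1 := card_L A hab hs hi
  rw [hn, hT] at h1
  have h2 := hs.wn
  rw [show Nat.card ↥(stabilizer G a ⊓ stabilizer G b) = 960 by omega] at h2
  have h3 := of_two_part (k := 6) (m := 15) h2 (by norm_num) (by decide) (by norm_num)
  norm_num at h3

theorem m23_false (A : AS G Ω T) {a b : Ω} (hab : a ≠ b) (hs : SA ↥(stabilizer G a ⊓ stabilizer G b))
    (hn : Nat.card Ω = 23) (h : Cfsg.Spor.IsoM23 T) : False := by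
  have := A.finG
  have hT := Cfsg.Agent.NotCT.Orders.m23 h
  obtain ⟨e⟩ := h
  have hi := index_one A hab hs e (by rw [hn, Cfsg.Agent.S2063.result]; norm_num)
  have h1 := card_L A hab hs hi
  rw [hn, hT] at h1
  have h2 := hs.wn
  rw [show Nat.card ↥(stabilizer G a ⊓ stabilizer G b) = 20160 by omega] at h2
  have h3 := of_two_part (k := 6) (m := 315) h2 (by norm_num) (by decide) (by norm_num)
  norm_num at h3

theorem m24_false (A : AS G Ω T) {a b : Ω} (hab : a ≠ b) (hs : SA ↥(stabilizer G a ⊓ stabilizer G b))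
    (hn : Nat.card Ω = 24) (h : Cfsg.Spor.IsoM24 T) : False := by
  have := A.finG
  have hT := Cfsg.Agent.NotCT.Orders.m24 h
  obtain ⟨e⟩ := h
  have hi := index_one A hab hs e (by rw [hn, Cfsg.Agent.S2064.result]; norm_num)
  have h1 := card_L A hab hs hi
  rw [hn, hT] at h1
  have h2 := hs.wn
  rw [show Nat.card ↥(stabilizer G a ⊓ stabilizer G b) = 443520 by omega] at h2
  have h3 := of_two_part (k := 7) (m := 3465) h2 (by norm_num) (by decide) (by norm_num)
  norm_num at h3

theorem hs_false (A : AS G Ω T) {a b : Ω} (hab : a ≠ b) (hs : SA ↥(stabilizer G a ⊓ stabilizer G b))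
    (hn : Nat.card Ω = 176) (h : Cfsg.Spor.IsoHS T) : False := by
  have := A.finG
  have hT := Cfsg.Agent.NotCT.Orders.hs h
  obtain ⟨e⟩ := h
  have hi := index_one A hab hs e (by rw [hn, Cfsg.Agent.S2072.result]; norm_num)
  have h1 := card_L A hab hs hi
  rw [hn, hT] at h1
  have h2 := hs.wn
  rw [show Nat.card ↥(stabilizer G a ⊓ stabilizer G b) = 1440 by omega] at h2
  have h3 := of_two_part (k := 5) (m := 45) h2 (by norm_num) (by decide) (by norm_num)
  norm_num at h3

theorem co3_false (A : AS G Ω T) {a b : Ω} (hab : a ≠ b) (hs : SA ↥(stabilizer G a ⊓ stabilizer G b))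
    (hn : Nat.card Ω = 276) (h : Cfsg.Spor.IsoCo3 T) : False := by
  have := A.finG
  have hT := Cfsg.Agent.NotCT.Orders.co3 h
  obtain ⟨e⟩ := h
  have hi := index_one A hab hs e (by rw [hn, Cfsg.Agent.S2071.result]; norm_num)
  have h1 := card_L A hab hs hi
  rw [hn, hT] at h1
  have h2 := hs.wn
  rw [show Nat.card ↥(stabilizer G a ⊓ stabilizer G b) = 6531840 by omega] at h2
  have h3 := of_two_part (k := 8) (m := 25515) h2 (by norm_num) (by decide) (by norm_num)
  norm_num at h3

theorem m11_false (A : AS G Ω T) {a b : Ω} (hab : a ≠ b) (hs : SA ↥(stabilizer G a ⊓ stabilizer G b))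
    (hn : Nat.card Ω = 11) (h : Cfsg.Spor.IsoM11 T) : False := by
  have := A.finG
  have hG := isM11 A h
  have h1 := card_G A hab
  rw [hG.2, hn] at h1
  have h2 := small hs.wn (by omega)
  omega

/-- rows with `l |L| < 504` -/
theorem small_false (A : AS G Ω T) {a b : Ω} (hab : a ≠ b) (hs : SA ↥(stabilizer G a ⊓ stabilizer G b))
    {n t : ℕ} (hn : Nat.card Ω = n) (hT : Nat.card T = t)
    (h : ∀ l L : ℕ, 2 ≤ l → t = n * l * L → l ∣ n - 1 → 60 ≤ L → (L < 504 → L = 60) → False) : False := by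
  have := A.finG
  obtain ⟨l, h1, h2⟩ := numbers A hab hs.1
  have h3 := one_lt_of A hab hs.1 h1
  refine h l _ h3 (by rw [← hT, h1, hn]) ?_ (sixty_le hs.1 hs.2.1) (small hs.wn)
  rw [← hn, h2]
  exact Dvd.intro _ rfl

theorem psl2_8_false (A : AS G Ω T) {a b : Ω} (hab : a ≠ b) (hs : SA ↥(stabilizer G a ⊓ stabilizer G b))
    (hn : Nat.card Ω = 28) (hT : Nat.card T = 504) : False := by
  refine small_false A hab hs hn hT ?_
  intro l L hl h1 _ h3 _
  nlinarith

theorem psl2_11_false (A : AS G Ω T) {a b : Ω} (hab : a ≠ b) (hs : SA ↥(stabilizer G a ⊓ stabilizer G b))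
    (hn : Nat.card Ω = 11) (hT : Nat.card T = 660) : False := by
  refine small_false A hab hs hn hT ?_
  intro l L hl h1 _ h3 _
  nlinarith

theorem a7_false (A : AS G Ω T) {a b : Ω} (hab : a ≠ b) (hs : SA ↥(stabilizer G a ⊓ stabilizer G b))
    (hn : Nat.card Ω = 15) (hT : Nat.card T = 2520) : False := by
  refine small_false A hab hs hn hT ?_
  intro l L hl h1 h2 h3 h4
  have h5 : l ≤ 2 := by
    by_contra hcon
    push Not at hcon
    nlinarith
  obtain rfl : l = 2 := by omega
  have h6 := h4 (by omega)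
  omega

/-- `M₁₁` in degree 12 -/
theorem isoM11 (A : AS G Ω T) (h : Cfsg.Spor.IsoM11 T) : Cfsg.Spor.IsoM11 G := by
  have hT : T = ⊤ := eq_top_of_inner A (fun α => by
    by_contra hcon
    push Not at hcon
    exact Cfsg.Agent.Cit.ElevenFact.outer h hcon)
  obtain ⟨e⟩ := h
  exact ⟨(Subgroup.topEquiv.symm.trans (MulEquiv.subgroupCongr hT.symm)).trans e⟩

end Cfsg.Agent.H488.TwoSimple
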